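import Cfsg.Agent.StdSpFour.SplitA.HH

set_option autoImplicit false
set_option linter.unusedSectionVars false

/-!
# `T` is weakly closed in `P`; mixed involutions are not pure
-/

namespace Cfsg.Agent.StdSpFour.SplitA

open Subgroup
open scoped commutatorElement Pointwise

namespace Wr

universe u

variable {G : Type u} [Group G] (W : Wr G)

variable {T0 P O : Subgroup G} {y : G}

variable [Finite G]

/-- components of the centraliser of an element of `S0` -/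
theorem comm_comp (hA : W.Amb O) (hY : W.Outer T0 y) (hP : W.Syl T0 y P) {x c d : G} (hx : x ∈ W.S0 P)
    (hc : c ∈ W.S1) (hd : d ∈ W.S1) (h : x * (c * W.sw d) = (c * W.sw d) * x) :
    x * c = c * x ∧ x * W.sw d = W.sw d * x := by
  have h1 := W.S0_S1 hP hx c hc
  have h2 := W.S0_S2 hA hY hP hx _ (W.sw_mem_S2 hd)
  have h3 : (x * c * x⁻¹) * W.sw (W.sw (x * W.sw d * x⁻¹)) = c * W.sw d := by
    rw [sw_sw]
    calc (x * c * x⁻¹) * (x * W.sw d * x⁻¹) = x * (c * W.sw d) * x⁻¹ := by group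
      _ = c * W.sw d := by rw [h]; group
  obtain ⟨e1, e2⟩ := W.comp_eq h1 h2 hc hd h3
  constructor
  · calc x * c = (x * c * x⁻¹) * x := by group
      _ = c * x := by rw [e1]
  · have e3 : W.sw (W.sw (x * W.sw d * x⁻¹)) = W.sw d := congrArg W.sw e2
    rw [sw_sw] at e3
    calc x * W.sw d = (x * W.sw d * x⁻¹) * x := by group
      _ = W.sw d * x := by rw [e3]

/-- elementary abelian subgroups of `S1` centralised by an involution of the type of `y` -/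
theorem rank_y (hY : W.Outer T0 y) {x : G} (hx : y * x ∈ W.I1 P) (hxx : x * x = 1) {F : Subgroup G} (hF : F ≤ W.S1)
    (hFx : ∀ f ∈ F, x * f = f * x) (hFF : ∀ f ∈ F, f * f = 1) : 2 * Nat.card F ≤ W.q ^ 2 := by
  obtain ⟨r, hr, hact⟩ := W.act2 hY hx hxx
  have h1 := hY.rank_cen (F.map (MulAut.conj r).toMonoidHom) (by
    rintro _ ⟨f, hf, rfl⟩
    exact mul_mem (mul_mem hr (hF hf)) (inv_mem hr)) (by
    rintro _ ⟨f, hf, rfl⟩
    have h2 := hact f (W.S1_le (hF hf))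
    have h3 : x * f * x⁻¹ = f := by rw [hFx f hf]; group
    rw [h3] at h2
    show r * f * r⁻¹ * y = y * (r * f * r⁻¹)
    calc r * f * r⁻¹ * y = r * ((r⁻¹ * y * r) * f * (r⁻¹ * y * r)⁻¹) * r⁻¹ * y := by rw [← h2]
      _ = y * (r * f * r⁻¹) := by group) (by
    rintro _ ⟨f, hf, rfl⟩
    rw [← map_mul, hFF f hf, map_one])
  rwa [card_map_conj] at h1

/-- `|E ∩ S0| ≤ 4 |E ∩ T|` -/
theorem card_S0_T (hA : W.Amb O) (hY : W.Outer T0 y) (hP : W.Syl T0 y P) {E : Subgroup G} (hE : ∀ x ∈ E, x * x = 1) :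
    Nat.card (E ⊓ W.S0 P : Subgroup G) ≤ 4 * Nat.card (E ⊓ W.T : Subgroup G) := by
  have key : ∀ a ∈ W.S0 P, ∀ b ∈ W.S0 P, a * a = 1 → b * b = 1 → a ∉ W.I1 P → b ∉ W.I1 P → a * b ∈ W.I1 P := by
    intro a ha b hb ha2 hb2 ha0 hb0
    have h1 := (W.type1 hP ha ha2).resolve_left ha0
    have h2 := (W.type1 hP hb hb2).resolve_left hb0
    have e : a * b = (y * a)⁻¹ * (y * b) := by
      rw [mul_inv_rev, inv_of_sq ha2]; group
    rw [e]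
    exact mul_mem (inv_mem h1) h2
  have h1 : Nat.card (E ⊓ W.S0 P : Subgroup G) ≤ 2 * Nat.card (E ⊓ W.I1 P : Subgroup G) := by
    refine card_le_two (fun x hx => ⟨hx.1, W.I1_le hx.2⟩) ?_
    intro a ha b hb ha0 hb0
    exact ⟨mul_mem ha.1 hb.1, key a ha.2 b hb.2 (hE a ha.1) (hE b hb.1) (fun h => ha0 ⟨ha.1, h⟩) (fun h => hb0 ⟨hb.1, h⟩)⟩
  have h2 : Nat.card (E ⊓ W.I1 P : Subgroup G) ≤ 2 * Nat.card (E ⊓ W.T : Subgroup G) := by
    refine card_le_two (fun x hx => ⟨hx.1, W.T_le_I1 hP hx.2⟩) ?_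
    intro a ha b hb ha0 hb0
    refine ⟨mul_mem ha.1 hb.1, W.inter hA hY hP (mul_mem ha.2 hb.2) ?_⟩
    rw [sw_mul]
    refine key _ (W.sw_S0 hA hY hP (W.I1_le ha.2)) _ (W.sw_S0 hA hY hP (W.I1_le hb.2)) ?_ ?_ ?_ ?_
    · rw [← sw_mul, hE a ha.1, sw_one]
    · rw [← sw_mul, hE b hb.1, sw_one]
    · exact fun h => ha0 ⟨ha.1, W.inter hA hY hP ha.2 h⟩
    · exact fun h => hb0 ⟨hb.1, W.inter hA hY hP hb.2 h⟩
  omega

/-- **elementary abelian subgroups of order `q ^ 6` of `P` lie in `T`** -/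
theorem Je (hA : W.Amb O) (hY : W.Outer T0 y) (hP : W.Syl T0 y P) {E : Subgroup G} (hE : ∀ x ∈ E, x * x = 1)
    (hc : Nat.card E = W.q ^ 6) (hEP : E ≤ P) : E ≤ W.T := by
  have hq3 : 64 ≤ W.q ^ 3 := by
    have : 4 ^ 3 ≤ W.q ^ 3 := Nat.pow_le_pow_left W.q4 3
    omega
  have h4 := W.card_S0_T hA hY hP hE
  by_cases hS : E ≤ W.S0 P
  · by_contra hn
    rw [SetLike.not_le_iff_exists] at hn
    obtain ⟨x, hx, hx0⟩ := hn
    rw [inf_eq_left.2 hS] at h4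
    have hET : (E ⊓ W.T : Subgroup G) ≤ W.T := inf_le_right
    have h5 := W.card_le_pr hET
    have h6 := W.rankS1 (E := W.pr1 (E ⊓ W.T)) (fun _ h => h.1) (W.pr1_sq fun x hx => hE x hx.1)
    have h7 := W.rankS1 (E := W.pr2 (E ⊓ W.T)) (fun _ h => h.1) (W.pr2_sq fun x hx => hE x hx.1)
    have hcomm : ∀ c ∈ W.S1, ∀ d ∈ W.S1, c * W.sw d ∈ E → x * c = c * x ∧ x * W.sw d = W.sw d * x := by
      intro c hc d hd h
      exact W.comm_comp hA hY hP (hS hx) hc hd (el_comm hE hx h)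
    have h8 : 2 * (Nat.card (W.pr1 (E ⊓ W.T)) * Nat.card (W.pr2 (E ⊓ W.T))) ≤ W.q ^ 5 := by
      by_cases hx1 : x ∈ W.I1 P
      · have hx2 : W.sw x ∉ W.I1 P := fun h => hx0 (W.inter hA hY hP hx1 h)
        have hsx : W.sw x * W.sw x = 1 := by rw [← sw_mul, hE x hx, sw_one]
        have h9 := (W.type1 hP (W.sw_S0 hA hY hP (hS hx)) hsx).resolve_left hx2
        have h10 := W.rank_y hY h9 hsx (F := W.pr2 (E ⊓ W.T)) (fun _ h => h.1) (by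
          rintro d ⟨hd, c, hc, h⟩
          have := congrArg W.sw (hcomm c hc d hd h.1).2
          rwa [sw_mul, sw_mul, sw_sw] at this) (W.pr2_sq fun x hx => hE x hx.1)
        calc 2 * (Nat.card (W.pr1 (E ⊓ W.T)) * Nat.card (W.pr2 (E ⊓ W.T)))
            = Nat.card (W.pr1 (E ⊓ W.T)) * (2 * Nat.card (W.pr2 (E ⊓ W.T))) := by ring
          _ ≤ W.q ^ 3 * W.q ^ 2 := Nat.mul_le_mul h6 h10
          _ = W.q ^ 5 := by ring
      · have h9 := (W.type1 hP (hS hx) (hE x hx)).resolve_left hx1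
        have h10 := W.rank_y hY h9 (hE x hx) (F := W.pr1 (E ⊓ W.T)) (fun _ h => h.1) (by
          rintro c ⟨hc, d, hd, h⟩
          exact (hcomm c hc d hd h.1).1) (W.pr1_sq fun x hx => hE x hx.1)
        calc 2 * (Nat.card (W.pr1 (E ⊓ W.T)) * Nat.card (W.pr2 (E ⊓ W.T)))
            = (2 * Nat.card (W.pr1 (E ⊓ W.T))) * Nat.card (W.pr2 (E ⊓ W.T)) := by ring
          _ ≤ W.q ^ 2 * W.q ^ 3 := Nat.mul_le_mul h10 h7
          _ = W.q ^ 5 := by ring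
    have h11 : W.q ^ 6 = W.q * W.q ^ 5 := by ring
    have h12 : 4 * W.q ^ 5 ≤ W.q * W.q ^ 5 := Nat.mul_le_mul_right _ W.q4
    have h13 : 0 < W.q ^ 5 := pow_pos (by have := W.q4; omega) 5
    omega
  · exfalso
    rw [SetLike.not_le_iff_exists] at hS
    obtain ⟨u, hu, hu0⟩ := hS
    have h5 := W.card_of_swap hE hu (fun s hs => W.swap_S2 hA hP (hEP hu) hu0 _ (W.sw_mem_S2 hs))
    have h6 : Nat.card E ≤ 2 * Nat.card (E ⊓ W.S0 P : Subgroup G) := by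
      refine card_le_two inf_le_left ?_
      intro a ha b hb ha0 hb0
      exact ⟨mul_mem ha hb, W.idx hA hP a (hEP ha) b (hEP hb) (fun h => ha0 ⟨ha, h⟩) (fun h => hb0 ⟨hb, h⟩)⟩
    have h7 : W.q ^ 6 = W.q ^ 3 * W.q ^ 3 := by ring
    have h8 : W.q ^ 3 * W.q ^ 3 ≤ 8 * W.q ^ 3 := by
      rw [← h7, ← hc]
      omega
    have h9 : W.q ^ 3 ≤ 8 := Nat.le_of_mul_le_mul_right h8 (by omega)
    omega

/-- **weak closure** -/
theorem hW (hA : W.Amb O) (hY : W.Outer T0 y) (hP : W.Syl T0 y P) {g : G} (hg : ∀ x ∈ W.T, g⁻¹ * x * g ∈ P) :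
    ∀ x ∈ W.T, g⁻¹ * x * g ∈ W.T := by
  have h1 : W.T ≤ W.T.comap (MulAut.conj g⁻¹).toMonoidHom := by
    refine W.T_le_of ?_
    intro M M' hM hM' cM cM' sM sM'
    have h2 : (W.pp M M' hM hM').map (MulAut.conj g⁻¹).toMonoidHom ≤ W.T := by
      refine W.Je hA hY hP ?_ ?_ ?_
      · rintro _ ⟨x, hx, rfl⟩
        rw [← map_mul, W.pp_sq sM sM' x hx, map_one]
      · rw [card_map_conj, W.card_pp, cM, cM']; ring
      · rintro _ ⟨x, hx, rfl⟩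
        show g⁻¹ * x * g⁻¹⁻¹ ∈ P
        rw [inv_inv]
        exact hg x (W.pp_le_T hx)
    intro x hx
    exact h2 ⟨x, hx, rfl⟩
  intro x hx
  have := h1 hx
  have e : (MulAut.conj g⁻¹).toMonoidHom x = g⁻¹ * x * g := by
    show g⁻¹ * x * g⁻¹⁻¹ = _
    rw [inv_inv]
  rw [mem_comap, e] at this
  exact this

/-! ### `N(T)` permutes `Z` and `Z ^ t` -/

theorem exists_not_Z : ∃ x ∈ W.Mb, x ∉ W.Z := by
  by_contra h
  push Not at h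
  have h1 : Nat.card W.Mb ≤ Nat.card W.Z := Subgroup.card_le_of_le h
  rw [W.cardMb, W.cardZ] at h1
  have h2 : W.q ^ 3 = W.q * W.q ^ 2 := by ring
  have h3 : 0 < W.q ^ 2 := pow_pos (by have := W.q4; omega) 2
  have h4 : 4 * W.q ^ 2 ≤ W.q * W.q ^ 2 := Nat.mul_le_mul_right _ W.q4
  omega

theorem inf_M {x : G} (ha : x ∈ W.Ma) (hb : x ∈ W.Mb) : x ∈ W.Z := by
  by_contra h
  obtain ⟨z, hz, hz0⟩ := W.exists_not_Z
  exact W.nc x ha h z hz hz0 (el_comm W.sqMb hb hz)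

/-- elementary abelian subgroups of order `q ^ 3` of `S1` -/
theorem eq_M {E : Subgroup G} (hE : E ≤ W.S1) (h : ∀ x ∈ E, x * x = 1) (hc : Nat.card E = W.q ^ 3) :
    E = W.Ma ∨ E = W.Mb := by
  by_cases h1 : E ≤ W.Ma
  · left
    exact Subgroup.eq_of_le_of_card_ge h1 (by rw [hc, W.cardMa])
  · right
    rw [SetLike.not_le_iff_exists] at h1
    obtain ⟨y, hy, hya⟩ := h1
    have hyb : y ∈ W.Mb := (W.invM y (hE hy) (h y hy)).resolve_left hya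
    refine Subgroup.eq_of_le_of_card_ge ?_ (by rw [hc, W.cardMb])
    intro x hx
    by_contra hxb
    have hxa : x ∈ W.Ma := (W.invM x (hE hx) (h x hx)).resolve_right hxb
    exact W.nc x hxa (fun hz => hxb (W.Z_Mb hz)) y hyb (fun hz => hya (W.Z_Ma hz)) (el_comm h hx hy)

/-- elementary abelian subgroups of order `q ^ 6` of `T` -/
theorem eq_pp {E : Subgroup G} (hE : E ≤ W.T) (h : ∀ x ∈ E, x * x = 1) (hc : Nat.card E = W.q ^ 6) :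
    ∃ M M' : Subgroup G, ∃ hM : M ≤ W.S1, ∃ hM' : M' ≤ W.S1, (M = W.Ma ∨ M = W.Mb) ∧ (M' = W.Ma ∨ M' = W.Mb) ∧
      E = W.pp M M' hM hM' := by
  have h1 := W.card_le_pr hE
  have h2 := W.rankS1 (E := W.pr1 E) (fun _ h => h.1) (W.pr1_sq h)
  have h3 := W.rankS1 (E := W.pr2 E) (fun _ h => h.1) (W.pr2_sq h)
  have hq3 : 0 < W.q ^ 3 := pow_pos (by have := W.q4; omega) 3
  have h7 : W.q ^ 6 = W.q ^ 3 * W.q ^ 3 := by ring
  rw [hc, h7] at h1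
  have h4 : Nat.card (W.pr1 E) = W.q ^ 3 := by
    refine le_antisymm h2 ?_
    have h5 : W.q ^ 3 * W.q ^ 3 ≤ Nat.card (W.pr1 E) * W.q ^ 3 := h1.trans (Nat.mul_le_mul_left _ h3)
    exact Nat.le_of_mul_le_mul_right h5 hq3
  have h5 : Nat.card (W.pr2 E) = W.q ^ 3 := by
    refine le_antisymm h3 ?_
    rw [h4] at h1
    exact Nat.le_of_mul_le_mul_left h1 hq3
  refine ⟨W.pr1 E, W.pr2 E, fun _ h => h.1, fun _ h => h.1, W.eq_M (fun _ h => h.1) (W.pr1_sq h) h4,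
    W.eq_M (fun _ h => h.1) (W.pr2_sq h) h5, ?_⟩
  refine Subgroup.eq_of_le_of_card_ge ?_ ?_
  · intro x hx
    obtain ⟨a, ha, b, hb, e⟩ := W.mem_T'.1 (hE hx)
    rw [e] at hx
    rw [e]
    exact W.mem_pp.2 ⟨a, ⟨ha, b, hb, hx⟩, b, ⟨hb, a, ha, hx⟩, rfl⟩
  · rw [W.card_pp, h4, h5, hc, h7]

/-- commutators in `T` -/
theorem comm_T {a b c d : G} (ha : a ∈ W.S1) (hb : b ∈ W.S1) (hc : c ∈ W.S1) (hd : d ∈ W.S1) :
    ⁅a * W.sw b, c * W.sw d⁆ = ⁅a, c⁆ * W.sw ⁅b, d⁆ := by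
  have hA : ∀ {x : G}, x ∈ W.S1 → x ∈ W.A1 := fun h => W.S1_le h
  have hi : ∀ {x z : G}, x ∈ W.S1 → z ∈ W.S1 → (x * W.sw z)⁻¹ = x⁻¹ * W.sw z⁻¹ := by
    intro x z hx hz
    rw [mul_inv_rev, ← sw_inv]
    exact (W.comm_sw (inv_mem (hA hx)) (inv_mem (hA hz))).symm
  rw [commutatorElement_def, hi ha hb, hi hc hd, W.mul_comp (hA hb) (hA hc),
    W.mul_comp (mul_mem (hA hb) (hA hd)) (inv_mem (hA ha)),
    W.mul_comp (mul_mem (mul_mem (hA hb) (hA hd)) (inv_mem (hA hb))) (inv_mem (hA hc)),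
    commutatorElement_def, commutatorElement_def]

/-- commutators of two groups with the same second factor -/
theorem comm_pp1 {M1 M2 M : Subgroup G} {h1 : M1 ≤ W.S1} {h2 : M2 ≤ W.S1} {h : M ≤ W.S1} (hM : ∀ x ∈ M, x * x = 1) :
    ⁅W.pp M1 M h1 h, W.pp M2 M h2 h⁆ ≤ W.Z := by
  rw [Subgroup.commutator_le]
  intro x hx x' hx'
  obtain ⟨a, ha, b, hb, rfl⟩ := W.mem_pp.1 hx
  obtain ⟨c, hc, d, hd, rfl⟩ := W.mem_pp.1 hx'
  rw [W.comm_T (h1 ha) (h hb) (h2 hc) (h hd), commutatorElement_eq_one_iff_mul_comm.2 (el_comm hM hb hd), sw_one, mul_one]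
  exact W.comm_le a (h1 ha) c (h2 hc)

theorem comm_pp2 {M1 M2 M : Subgroup G} {h1 : M1 ≤ W.S1} {h2 : M2 ≤ W.S1} {h : M ≤ W.S1} (hM : ∀ x ∈ M, x * x = 1) :
    ⁅W.pp M M1 h h1, W.pp M M2 h h2⁆ ≤ W.Z.comap W.swHom := by
  rw [Subgroup.commutator_le]
  intro x hx x' hx'
  obtain ⟨a, ha, b, hb, rfl⟩ := W.mem_pp.1 hx
  obtain ⟨c, hc, d, hd, rfl⟩ := W.mem_pp.1 hx'
  rw [W.comm_T (h ha) (h1 hb) (h hc) (h2 hd), commutatorElement_eq_one_iff_mul_comm.2 (el_comm hM ha hc), one_mul]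
  show W.sw (W.sw ⁅b, d⁆) ∈ W.Z
  rw [sw_sw]
  exact W.comm_le b (h1 hb) d (h2 hd)

/-- two elementary abelian subgroups meeting in a large subgroup -/
theorem comm_adj {E1 E2 : Subgroup G} (hE1 : E1 ≤ W.T) (h1 : ∀ x ∈ E1, x * x = 1) (hc1 : Nat.card E1 = W.q ^ 6)
    (hE2 : E2 ≤ W.T) (h2 : ∀ x ∈ E2, x * x = 1) (hc2 : Nat.card E2 = W.q ^ 6)
    (hc : W.q ^ 4 < Nat.card (E1 ⊓ E2 : Subgroup G)) : ⁅E1, E2⁆ ≤ W.Z ∨ ⁅E1, E2⁆ ≤ W.Z.comap W.swHom := by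
  obtain ⟨M1, M1', hM1, hM1', c1, c1', rfl⟩ := W.eq_pp hE1 h1 hc1
  obtain ⟨M2, M2', hM2, hM2', c2, c2', rfl⟩ := W.eq_pp hE2 h2 hc2
  have sq : ∀ M : Subgroup G, (M = W.Ma ∨ M = W.Mb) → ∀ x ∈ M, x * x = 1 := by
    rintro M (rfl | rfl)
    · exact W.sqMa
    · exact W.sqMb
  by_cases e1 : M1' = M2'
  · subst e1
    exact Or.inl (W.comm_pp1 (sq _ c1'))
  by_cases e2 : M1 = M2
  · subst e2
    exact Or.inr (W.comm_pp2 (sq _ c1))
  exfalso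
  have hZ : ∀ M M' : Subgroup G, (M = W.Ma ∨ M = W.Mb) → (M' = W.Ma ∨ M' = W.Mb) → M ≠ M' → ∀ x, x ∈ M → x ∈ M' → x ∈ W.Z := by
    rintro M M' (rfl | rfl) (rfl | rfl) hne x hx hx'
    · exact absurd rfl hne
    · exact W.inf_M hx hx'
    · exact W.inf_M hx' hx
    · exact absurd rfl hne
  have hZS : W.Z ≤ W.S1 := fun z hz => W.Z_S1 hz
  have h3 : (W.pp M1 M1' hM1 hM1' ⊓ W.pp M2 M2' hM2 hM2' : Subgroup G) ≤ W.pp W.Z W.Z hZS hZS := by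
    rintro x ⟨hx, hx'⟩
    obtain ⟨a, ha, b, hb, rfl⟩ := W.mem_pp.1 hx
    obtain ⟨c, hc, d, hd, e⟩ := W.mem_pp.1 hx'
    obtain ⟨e3, e4⟩ := W.comp_eq (hM1 ha) (hM1' hb) (hM2 hc) (hM2' hd) e
    refine W.mem_pp.2 ⟨a, hZ M1 M2 c1 c2 e2 a ha (by rw [e3]; exact hc), b, hZ M1' M2' c1' c2' e1 b hb
      (by rw [e4]; exact hd), rfl⟩
  have h4 := Subgroup.card_le_of_le h3
  rw [W.card_pp, W.cardZ] at h4
  have h5 : W.q ^ 2 * W.q ^ 2 = W.q ^ 4 := by ring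
  omega

/-- `N(T)` maps `Z` into `Z` or `Z ^ t` -/
theorem norm_Z {n : G} (hn : ∀ x ∈ W.T, n * x * n⁻¹ ∈ W.T) :
    ((∀ z ∈ W.Z, n * z * n⁻¹ ∈ W.Z) ∨ (∀ z ∈ W.Z, n * z * n⁻¹ ∈ W.Z.comap W.swHom)) ∧
    ((∀ z ∈ W.Z, n * W.sw z * n⁻¹ ∈ W.Z) ∨ (∀ z ∈ W.Z, n * W.sw z * n⁻¹ ∈ W.Z.comap W.swHom)) := by
  -- the images of `M_i M_j`
  have him : ∀ {E : Subgroup G}, E ≤ W.T → E.map (MulAut.conj n).toMonoidHom ≤ W.T := by
    intro E hE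
    rintro _ ⟨x, hx, rfl⟩
    exact hn x (hE hx)
  have hsq : ∀ {E : Subgroup G}, (∀ x ∈ E, x * x = 1) → ∀ x ∈ E.map (MulAut.conj n).toMonoidHom, x * x = 1 := by
    rintro E hE _ ⟨x, hx, rfl⟩
    rw [← map_mul, hE x hx, map_one]
  have hZS : W.Z ≤ W.S1 := fun z hz => W.Z_S1 hz
  have hq : W.q ^ 4 < W.q ^ 2 * W.q ^ 3 := by
    have h1 : W.q ^ 2 * W.q ^ 3 = W.q * W.q ^ 4 := by ring
    have h2 : 4 * W.q ^ 4 ≤ W.q * W.q ^ 4 := Nat.mul_le_mul_right _ W.q4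
    have h3 : 0 < W.q ^ 4 := pow_pos (by have := W.q4; omega) 4
    omega
  constructor
  · let E1 := W.pp W.Ma W.Ma W.Ma_le W.Ma_le
    let E2 := W.pp W.Mb W.Ma W.Mb_le W.Ma_le
    have h1 := W.comm_adj (E1 := E1.map (MulAut.conj n).toMonoidHom) (E2 := E2.map (MulAut.conj n).toMonoidHom)
      (him W.pp_le_T) (hsq (W.pp_sq W.sqMa W.sqMa)) (by rw [card_map_conj, W.card_pp, W.cardMa]; ring)
      (him W.pp_le_T) (hsq (W.pp_sq W.sqMb W.sqMa)) (by rw [card_map_conj, W.card_pp, W.cardMa, W.cardMb]; ring)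
      (by
        refine lt_of_lt_of_le hq ?_
        rw [← W.cardZ, ← W.cardMa, ← W.card_pp (h := hZS) (h' := W.Ma_le), ← card_map_conj _ n]
        refine Subgroup.card_le_of_le ?_
        rintro _ ⟨x, hx, rfl⟩
        obtain ⟨a, ha, b, hb, rfl⟩ := W.mem_pp.1 hx
        exact ⟨⟨_, W.mem_pp.2 ⟨a, W.Z_Ma ha, b, hb, rfl⟩, rfl⟩, ⟨_, W.mem_pp.2 ⟨a, W.Z_Mb ha, b, hb, rfl⟩, rfl⟩⟩)
    have h2 : ∀ z ∈ W.Z, n * z * n⁻¹ ∈ ⁅E1.map (MulAut.conj n).toMonoidHom, E2.map (MulAut.conj n).toMonoidHom⁆ := by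
      intro z hz
      rw [← Subgroup.map_commutator]
      refine ⟨z, ?_, rfl⟩
      have h3 : ⁅W.Ma, W.Mb⁆ ≤ ⁅E1, E2⁆ := by
        refine Subgroup.commutator_mono ?_ ?_
        · intro a ha
          exact W.mem_pp.2 ⟨a, ha, 1, one_mem _, by rw [sw_one, mul_one]⟩
        · intro a ha
          exact W.mem_pp.2 ⟨a, ha, 1, one_mem _, by rw [sw_one, mul_one]⟩
      exact h3 (W.comm_ge hz)
    rcases h1 with h1 | h1
    · exact Or.inl fun z hz => h1 (h2 z hz)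
    · exact Or.inr fun z hz => h1 (h2 z hz)
  · let E1 := W.pp W.Ma W.Ma W.Ma_le W.Ma_le
    let E2 := W.pp W.Ma W.Mb W.Ma_le W.Mb_le
    have h1 := W.comm_adj (E1 := E1.map (MulAut.conj n).toMonoidHom) (E2 := E2.map (MulAut.conj n).toMonoidHom)
      (him W.pp_le_T) (hsq (W.pp_sq W.sqMa W.sqMa)) (by rw [card_map_conj, W.card_pp, W.cardMa]; ring)
      (him W.pp_le_T) (hsq (W.pp_sq W.sqMa W.sqMb)) (by rw [card_map_conj, W.card_pp, W.cardMa, W.cardMb]; ring)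
      (by
        refine lt_of_lt_of_le hq ?_
        rw [mul_comm, ← W.cardZ, ← W.cardMa, ← W.card_pp (h := W.Ma_le) (h' := hZS), ← card_map_conj _ n]
        refine Subgroup.card_le_of_le ?_
        rintro _ ⟨x, hx, rfl⟩
        obtain ⟨a, ha, b, hb, rfl⟩ := W.mem_pp.1 hx
        exact ⟨⟨_, W.mem_pp.2 ⟨a, ha, b, W.Z_Ma hb, rfl⟩, rfl⟩, ⟨_, W.mem_pp.2 ⟨a, ha, b, W.Z_Mb hb, rfl⟩, rfl⟩⟩)
    have h2 : ∀ z ∈ W.Z, n * W.sw z * n⁻¹ ∈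
        ⁅E1.map (MulAut.conj n).toMonoidHom, E2.map (MulAut.conj n).toMonoidHom⁆ := by
      intro z hz
      rw [← Subgroup.map_commutator]
      refine ⟨W.sw z, ?_, rfl⟩
      have h3 : ⁅W.Ma.map W.swHom, W.Mb.map W.swHom⁆ ≤ ⁅E1, E2⁆ := by
        refine Subgroup.commutator_mono ?_ ?_
        · rintro _ ⟨a, ha, rfl⟩
          exact W.mem_pp.2 ⟨1, one_mem _, a, ha, by rw [one_mul]; rfl⟩
        · rintro _ ⟨a, ha, rfl⟩
          exact W.mem_pp.2 ⟨1, one_mem _, a, ha, by rw [one_mul]; rfl⟩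
      apply h3
      rw [← Subgroup.map_commutator]
      exact ⟨z, W.comm_ge hz, rfl⟩
    rcases h1 with h1 | h1
    · exact Or.inl fun z hz => h1 (h2 z hz)
    · exact Or.inr fun z hz => h1 (h2 z hz)

/-- under `N(T)` a mixed central element is not pure -/
theorem mixed_T {n : G} (hn : ∀ x ∈ W.T, n * x * n⁻¹ ∈ W.T) {z1 z2 : G} (hz1 : z1 ∈ W.Z) (hz2 : z2 ∈ W.Z)
    (h1 : z1 ≠ 1) (h2 : z2 ≠ 1) (h : n * (z1 * W.sw z2) * n⁻¹ ∈ W.Z) : False := by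
  have he : n * (z1 * W.sw z2) * n⁻¹ = (n * z1 * n⁻¹) * (n * W.sw z2 * n⁻¹) := by group
  rw [he] at h
  have hne1 : n * z1 * n⁻¹ ≠ 1 := by
    intro h0
    apply h1
    have := congrArg (fun x => n⁻¹ * x * n) h0
    simpa [mul_assoc] using this
  have hne2 : n * W.sw z2 * n⁻¹ ≠ 1 := by
    intro h0
    apply h2
    have h3 : W.sw z2 = 1 := by
      have := congrArg (fun x => n⁻¹ * x * n) h0
      simpa [mul_assoc] using this
    rw [← W.sw_sw z2, h3, sw_one]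
  have hdis : ∀ {x : G}, x ∈ W.Z → x ∈ W.Z.comap W.swHom → x = 1 := by
    intro x hx hx'
    refine W.disj x (W.Z_S1 hx) ?_
    exact W.Z_S1 hx'
  rcases W.norm_Z hn with ⟨ha | ha, hb | hb⟩
  · -- both into `Z`
    have h3 := conj_inv_of_card le_rfl ha _ (hb z2 hz2)
    have e : n⁻¹ * (n * W.sw z2 * n⁻¹) * n = W.sw z2 := by group
    rw [e] at h3
    apply h2
    exact W.disj z2 (W.Z_S1 hz2) (W.Z_S1 h3)
  · have h3 := (mul_mem_cancel_left (ha z1 hz1)).1 h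
    exact hne2 (hdis h3 (hb z2 hz2))
  · have h3 := (mul_mem_cancel_right (hb z2 hz2)).1 h
    exact hne1 (hdis h3 (ha z1 hz1))
  · have h3 := hdis h (mul_mem (ha z1 hz1) (hb z2 hz2))
    -- `n⁻¹`-image
    have h4 : z1 * W.sw z2 = 1 := by
      rw [← he] at h3
      have := congrArg (fun x => n⁻¹ * x * n) h3
      simpa [mul_assoc] using this
    have h5 := W.comp_eq (W.Z_S1 hz1) (W.Z_S1 hz2) (one_mem _) (one_mem _) (h4.trans (by rw [sw_one, mul_one]))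
    exact h1 h5.1

/-- 2-subgroups of `G` are conjugate into `P` -/
theorem exists_into_P (hA : W.Amb O) (hY : W.Outer T0 y) (hP : W.Syl T0 y P) {R : Subgroup G} (hR : IsPGroup 2 R) :
    ∃ k : G, ∀ x ∈ R, k⁻¹ * x * k ∈ P := by
  have : Fact (Nat.Prime 2) := ⟨Nat.prime_two⟩
  obtain ⟨Q1, hQ1⟩ := hP.P_two.exists_le_sylow
  obtain ⟨Q2, hQ2⟩ := hR.exists_le_sylow
  obtain ⟨c, hc⟩ := MulAction.exists_smul_eq G Q1 Q2
  refine ⟨c, fun x hx => ?_⟩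
  have h1 := hQ2 hx
  rw [← hc] at h1
  have h2 : x ∈ (MulAut.conj c • (Q1 : Subgroup G)) := h1
  rw [Subgroup.mem_pointwise_smul_iff_inv_smul_mem] at h2
  have e : (MulAut.conj c)⁻¹ • x = c⁻¹ * x * c := by
    rw [← map_inv, MulAut.smul_def, MulAut.conj_apply, inv_inv]
  rw [e] at h2
  exact W.P_max hA hY hP Q1.isPGroup' hQ1 h2

/-- a mixed central element is not conjugate to a pure one -/
theorem mixed_G (hA : W.Amb O) (hY : W.Outer T0 y) (hP : W.Syl T0 y P) {z1 z2 g : G} (hz1 : z1 ∈ W.Z) (hz2 : z2 ∈ W.Z)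
    (h1 : z1 ≠ 1) (h2 : z2 ≠ 1) (h : g * (z1 * W.sw z2) * g⁻¹ ∈ W.Z) : False := by
  have : Fact (Nat.Prime 2) := ⟨Nat.prime_two⟩
  obtain ⟨z3, hz3⟩ : ∃ z3, z3 = g * (z1 * W.sw z2) * g⁻¹ := ⟨_, rfl⟩
  rw [← hz3] at h
  let C : Subgroup G := centralizer ({z3} : Set G)
  have hC : ∀ x, x ∈ C ↔ x * z3 = z3 * x := fun x => mem_centralizer_singleton_iff
  have hT2 : IsPGroup 2 W.T := hP.P_two.to_le hP.T_le
  have hTC : W.T ≤ C := by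
    intro x hx
    rw [hC]
    obtain ⟨a, ha, b, hb, rfl⟩ := W.mem_T'.1 hx
    calc a * W.sw b * z3 = a * (z3 * W.sw b) := by
          rw [mul_assoc, ← W.comm_sw (W.S1_le (W.Z_S1 h)) (W.S1_le hb)]
      _ = z3 * (a * W.sw b) := by rw [← mul_assoc, ← W.Zc z3 h a ha]; group
  have hTc : ∀ x ∈ W.T, x * (z1 * W.sw z2) = (z1 * W.sw z2) * x := by
    intro x hx
    obtain ⟨a, ha, b, hb, rfl⟩ := W.mem_T'.1 hx
    rw [W.mul_comp (W.S1_le hb) (W.S1_le (W.Z_S1 hz1)), W.mul_comp (W.S1_le (W.Z_S1 hz2)) (W.S1_le ha),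
      W.Zc z1 hz1 a ha, W.Zc z2 hz2 b hb]
  let T' : Subgroup G := W.T.map (MulAut.conj g).toMonoidHom
  have hT'C : T' ≤ C := by
    rintro _ ⟨x, hx, rfl⟩
    rw [hC, hz3]
    show g * x * g⁻¹ * (g * (z1 * W.sw z2) * g⁻¹) = g * (z1 * W.sw z2) * g⁻¹ * (g * x * g⁻¹)
    calc g * x * g⁻¹ * (g * (z1 * W.sw z2) * g⁻¹) = g * (x * (z1 * W.sw z2)) * g⁻¹ := by group
      _ = g * ((z1 * W.sw z2) * x) * g⁻¹ := by rw [hTc x hx]
      _ = _ := by group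
  obtain ⟨Q1, hQ1⟩ := (hT2.comap_of_injective C.subtype C.subtype_injective :
    IsPGroup 2 (W.T.subgroupOf C)).exists_le_sylow
  obtain ⟨Q2, hQ2⟩ := ((hT2.map _ : IsPGroup 2 T').comap_of_injective C.subtype C.subtype_injective :
    IsPGroup 2 (T'.subgroupOf C)).exists_le_sylow
  obtain ⟨c, hc⟩ := MulAction.exists_smul_eq C Q1 Q2
  have hQ : ∀ x ∈ Q2, c⁻¹ * x * c ∈ Q1 := by
    intro x hx
    rw [← hc] at hx
    have h1 : x ∈ (MulAut.conj c • (Q1 : Subgroup C)) := hx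
    rw [Subgroup.mem_pointwise_smul_iff_inv_smul_mem] at h1
    have e : (MulAut.conj c)⁻¹ • x = c⁻¹ * x * c := by
      rw [← map_inv, MulAut.smul_def, MulAut.conj_apply, inv_inv]
    rw [e] at h1
    exact h1
  obtain ⟨k, hk⟩ := W.exists_into_P hA hY hP (R := (Q1 : Subgroup C).map C.subtype) (Q1.isPGroup'.map _)
  have hk1 : ∀ x ∈ W.T, k⁻¹ * x * k ∈ W.T :=
    W.hW hA hY hP (fun x hx => hk x ⟨⟨x, hTC hx⟩, hQ1 (mem_subgroupOf.2 hx), rfl⟩)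
  have hk2 : ∀ x ∈ W.T, k * x * k⁻¹ ∈ W.T := by
    have := conj_inv_of_card (g := k⁻¹) le_rfl (fun a ha => by rw [inv_inv]; exact hk1 a ha)
    intro x hx
    have h3 := this x hx
    rwa [inv_inv] at h3
  -- `g⁻¹ c k`
  have hk3 : ∀ x ∈ W.T, (g⁻¹ * c * k)⁻¹ * x * (g⁻¹ * c * k) ∈ W.T := by
    refine W.hW hA hY hP (fun x hx => ?_)
    have h3 : (⟨g * x * g⁻¹, hT'C ⟨x, hx, rfl⟩⟩ : C) ∈ Q2 := hQ2 (mem_subgroupOf.2 ⟨x, hx, rfl⟩)
    have h4 := hk _ ⟨_, hQ _ h3, rfl⟩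
    have e : (g⁻¹ * c * k)⁻¹ * x * (g⁻¹ * c * k) = k⁻¹ * ((c : G)⁻¹ * (g * x * g⁻¹) * c) * k := by group
    rw [e]
    exact h4
  -- `n = c⁻¹ g`
  have hn : ∀ x ∈ W.T, ((c : G)⁻¹ * g) * x * ((c : G)⁻¹ * g)⁻¹ ∈ W.T := by
    intro x hx
    have h3 := hk2 _ (hk3 x hx)
    have e : k * ((g⁻¹ * c * k)⁻¹ * x * (g⁻¹ * c * k)) * k⁻¹ = ((c : G)⁻¹ * g) * x * ((c : G)⁻¹ * g)⁻¹ := by group
    rw [e] at h3
    exact h3
  refine W.mixed_T hn hz1 hz2 h1 h2 ?_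
  have hcz := (hC c).1 c.2
  have e : ((c : G)⁻¹ * g) * (z1 * W.sw z2) * ((c : G)⁻¹ * g)⁻¹ = z3 := by
    calc ((c : G)⁻¹ * g) * (z1 * W.sw z2) * ((c : G)⁻¹ * g)⁻¹ = (c : G)⁻¹ * (g * (z1 * W.sw z2) * g⁻¹) * c := by group
      _ = (c : G)⁻¹ * (c * z3) := by rw [← hz3, hcz]; group
      _ = z3 := by group
  rw [e]
  exact h

/-- **(D)**: mixed involutions are not conjugate into `S1` -/
theorem hD1 (hA : W.Amb O) (hY : W.Outer T0 y) (hP : W.Syl T0 y P) {a b g : G} (ha : a ∈ W.S1) (hb : b ∈ W.S2)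
    (ha1 : a ≠ 1) (hb1 : b ≠ 1) (ha2 : a * a = 1) (hb2 : b * b = 1) : g⁻¹ * (a * b) * g ∉ W.S1 := by
  intro hc
  have hsb : W.sw b * W.sw b = 1 := by rw [← sw_mul, hb2, sw_one]
  have hcc : g⁻¹ * (a * b) * g * (g⁻¹ * (a * b) * g) = 1 := by
    have hab := W.comm' (W.S1_le ha) (W.S2_le hb)
    calc g⁻¹ * (a * b) * g * (g⁻¹ * (a * b) * g) = g⁻¹ * (a * (b * a) * b) * g := by group
      _ = g⁻¹ * (a * a * (b * b)) * g := by rw [← hab]; group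
      _ = 1 := by rw [ha2, hb2]; group
  obtain ⟨a1, ha1A, hz1⟩ := W.hoist a (W.S1_le ha) ha2
  obtain ⟨b1, hb1A, hz2⟩ := W.hoist (W.sw b) (W.S1_le hb) hsb
  obtain ⟨c1, hc1A, hz3⟩ := W.hoist _ (W.S1_le hc) hcc
  refine W.mixed_G hA hY hP (g := c1⁻¹ * g⁻¹ * (a1 * W.sw b1)) hz1 hz2 ?_ ?_ ?_
  · intro h0
    apply ha1
    have := congrArg (fun x => a1 * x * a1⁻¹) h0
    simpa [mul_assoc] using this
  · intro h0
    apply hb1
    have h3 : W.sw b = 1 := by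
      have := congrArg (fun x => b1 * x * b1⁻¹) h0
      simpa [mul_assoc] using this
    rw [← W.sw_sw b, h3, sw_one]
  · have hS : ∀ x, W.sw (b1⁻¹ * W.sw b * b1) = x ↔ (W.sw b1)⁻¹ * b * W.sw b1 = x := by
      intro x; rw [sw_mul, sw_mul, sw_sw, sw_inv]
    have e1 : W.sw (b1⁻¹ * W.sw b * b1) = (W.sw b1)⁻¹ * b * W.sw b1 := by rw [sw_mul, sw_mul, sw_sw, sw_inv]
    have e2 : (a1 * W.sw b1) * (a1⁻¹ * a * a1 * W.sw (b1⁻¹ * W.sw b * b1)) * (a1 * W.sw b1)⁻¹ = a * b := by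
      rw [e1]
      have h5 : W.sw b1 * (a1⁻¹ * a * a1) = (a1⁻¹ * a * a1) * W.sw b1 :=
        (W.comm_sw (mul_mem (mul_mem (inv_mem ha1A) (W.S1_le ha)) ha1A) hb1A).symm
      have h6 : a1 * b = b * a1 := W.comm' ha1A (W.S2_le hb)
      calc (a1 * W.sw b1) * (a1⁻¹ * a * a1 * ((W.sw b1)⁻¹ * b * W.sw b1)) * (a1 * W.sw b1)⁻¹
          = a1 * (W.sw b1 * (a1⁻¹ * a * a1)) * ((W.sw b1)⁻¹ * b) * a1⁻¹ := by group
        _ = a * (a1 * b) * a1⁻¹ := by rw [h5]; group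
        _ = a * b := by rw [h6]; group
    have e3 : c1⁻¹ * g⁻¹ * (a1 * W.sw b1) * (a1⁻¹ * a * a1 * W.sw (b1⁻¹ * W.sw b * b1)) *
        (c1⁻¹ * g⁻¹ * (a1 * W.sw b1))⁻¹ = c1⁻¹ * (g⁻¹ * (a * b) * g) * c1 := by
      rw [← e2]; group
    rw [e3]
    exact hz3

/-- **(D)** -/
theorem hD (hA : W.Amb O) (hY : W.Outer T0 y) (hP : W.Syl T0 y P) :
    ∀ a ∈ W.S1, ∀ b ∈ W.S2, a ≠ 1 → b ≠ 1 → a * a = 1 → b * b = 1 → ∀ g : G,
      g⁻¹ * (a * b) * g ∉ W.S1 ∧ g⁻¹ * (a * b) * g ∉ W.S2 := by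
  intro a ha b hb ha1 hb1 ha2 hb2 g
  refine ⟨W.hD1 hA hY hP ha hb ha1 hb1 ha2 hb2, fun h => ?_⟩
  have h1 : W.sw (g⁻¹ * (a * b) * g) ∈ W.S1 := h
  have e : W.sw (g⁻¹ * (a * b) * g) = (g * W.t)⁻¹ * (a * b) * (g * W.t) := by
    show W.t * (g⁻¹ * (a * b) * g) * W.t = _
    rw [mul_inv_rev, W.tinv]; group
  rw [e] at h1
  exact W.hD1 hA hY hP ha hb ha1 hb1 ha2 hb2 h1

end Wr

end Cfsg.Agent.StdSpFour.SplitA
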