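import Cfsg.Agent.StdSpFour.SplitA.Out
import Cfsg.Agent.StdSpFour.SplitA.Weak
import Cfsg.Agent.StdSpFour.Env
import Cfsg.Agent.StdRank2.L3W.Glue
import Cfsg.Agent.StdRank2.L3End

set_option autoImplicit false
set_option linter.unusedSectionVars false

/-!
# `Sp₄(q)`, case (A), split, with an outer involution: the end

`isSyl_T`: `T` is a Sylow 2-subgroup of `L` and `t ∉ L`.  `concl`: the conclusion of S1778.
-/

namespace Cfsg.Agent.StdSpFour.SplitA.Inst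

open Subgroup
open Cfsg Cfsg.Agent.StdEven.Syl Cfsg.Agent.StdL2.Setup Cfsg.Agent.StdEven.Red
open Cfsg.Agent.StdSz.Out Cfsg.Agent.StdEven.CoreQuot
open scoped commutatorElement

universe u

variable {G : Type u} [Group G] [Finite G] {L A : Subgroup G} {t : G}
variable {W : Wr G} {O T0 P : Subgroup G} {y : G}

/-- `P` as a Sylow 2-subgroup of `G` -/
def sylP (hA : W.Amb O) (hY : W.Outer T0 y) (hP : W.Syl T0 y P) : Sylow 2 G where
  toSubgroup := P
  isPGroup' := hP.P_two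
  is_maximal' := fun {_} hR hle => le_antisymm (W.P_max hA hY hP hR hle) hle

/-- **`T` is a Sylow 2-subgroup of `L`, `t ∉ L`** -/
theorem isSyl_T (C : Conf L A t) (ht : W.t = t) (hA : W.Amb O) (hY : W.Outer T0 y) (hP : W.Syl T0 y P) :
    IsSyl W.T L ∧ t ∉ L := by
  subst ht
  have hLn : L.Normal := C.normal
  have hF1 : ∀ g : G, g⁻¹ * W.t * g ∉ W.S0 ((sylP hA hY hP : Sylow 2 G) : Subgroup G) := fun g =>
    W.F1 hA hY hP g
  have hH : ∀ g : G, g⁻¹ * W.t * g ∈ ((sylP hA hY hP : Sylow 2 G) : Subgroup G) → ∀ x ∈ W.B, g * x * g⁻¹ ∈ W.B := by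
    intro g hg
    have h1 := W.HH hA hY hP (g := g) (hP.P_B _ hg)
    have h2 : ∀ x ∈ W.B, g⁻¹ * x * g⁻¹⁻¹ ∈ W.B := by
      intro x hx
      rw [inv_inv]
      exact h1 x hx
    have h3 := conj_inv_mem h2
    intro x hx
    have h4 := h3 x hx
    rwa [inv_inv] at h4
  obtain ⟨Y, _, ψ, D⟩ := W.outData (P := sylP hA hY hP) hA hY hP hF1 hH (fun g => W.hW hA hY hP)
    (W.hD hA hY hP) hLn (Cfsg.Agent.StdRank2.L3W.conf_perfect C) (Cfsg.Agent.StdRank2.L3W.conf_gen C)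
  refine ⟨?_, D.not_mem⟩
  have h1 : P ⊓ L = W.T := D.inf_eq
  have h2 : IsSyl P ⊤ := ⟨le_top, hP.P_two, fun X hX _ hle => le_antisymm (W.P_max hA hY hP hX hle) hle⟩
  have h3 := h2.inf_normal (N' := L) le_top (by
    intro x _
    rw [normalizer_eq_top]
    exact mem_top _)
  rwa [h1] at h3

/-- `3` divides `|A|` -/
theorem three_dvd {F : Type*} [Field F] {T : Subgroup G} (H : Hyp A t T) {B : Base F (XQ A t)}
    (E : Env B (im A t A)) : 3 ∣ Nat.card A := by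
  have h1 : (⟨B.na * B.xa 1, mul_mem E.na_mem (E.xa_mem 1)⟩ : ↥(im A t A)) ^ 3 = 1 := Subtype.ext E.weyl.na_xa
  have h2 : (⟨B.na * B.xa 1, mul_mem E.na_mem (E.xa_mem 1)⟩ : ↥(im A t A)) ≠ 1 := by
    intro h
    have h3 : B.na * B.xa 1 = 1 := congrArg Subtype.val h
    have h4 : B.na = (B.xa 1)⁻¹ := eq_inv_of_mul_eq_one_left h3
    have h5 := B.na_zl 1
    have h6 : Commute (B.xa 1)⁻¹ (B.zl 1) := (B.xa_zl 1 1).inv_left
    rw [h4, h6.eq] at h5
    have h7 : B.zl 1 = B.xb 1 := mul_right_cancel h5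
    have h8 : B.zl (1 : F) * B.zl (-1) = 1 := by
      rw [← B.zl_add, add_neg_cancel]
      have := B.zl_add 0 0
      rw [add_zero] at this
      exact left_eq_mul.1 this
    have h9 : B.xa 0 * B.xb 1 * B.zs 0 * B.zl (-1) = 1 := by
      have e1 : B.xa 0 = 1 := by
        have := B.xa_add 0 0
        rw [add_zero] at this
        exact left_eq_mul.1 this
      have e2 : B.zs 0 = 1 := by
        have := B.zs_add 0 0
        rw [add_zero] at this
        exact left_eq_mul.1 this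
      rw [e1, e2, one_mul, mul_one, ← h7, h8]
    exact one_ne_zero (B.inj _ _ _ _ h9).2.1
  have h3 : 3 ∣ Nat.card ↥(im A t A) := by
    have ho := orderOf_eq_prime (p := 3) h1 h2
    rw [← ho]
    exact _root_.orderOf_dvd_natCard _
  obtain ⟨e⟩ := H.nonempty_equiv
  rw [Nat.card_congr e.toEquiv] at h3
  exact h3.trans (card_quotient_dvd_card _)

/-- commutators of `T` are central in `T` -/
theorem comm_T {x y z : G} (hx : x ∈ W.T) (hy : y ∈ W.T) (hz : z ∈ W.T) : ⁅x, y⁆ * z = z * ⁅x, y⁆ := by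
  obtain ⟨a, ha, b, hb, rfl⟩ := W.mem_T'.1 hx
  obtain ⟨c, hc, d, hd, rfl⟩ := W.mem_T'.1 hy
  obtain ⟨e, he, f, hf, rfl⟩ := W.mem_T'.1 hz
  have hA : ∀ {s}, s ∈ W.S1 → s ∈ W.A1 := fun h => W.S1_le h
  have inv : ∀ {a b : G}, a ∈ W.S1 → b ∈ W.S1 → (a * W.sw b)⁻¹ = a⁻¹ * W.sw b⁻¹ := by
    intro a b ha hb
    rw [mul_inv_rev, ← W.sw_inv]
    exact (W.comm_sw (hA (inv_mem ha)) (hA (inv_mem hb))).symm
  have e1 : ⁅a * W.sw b, c * W.sw d⁆ = ⁅a, c⁆ * W.sw ⁅b, d⁆ := by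
    rw [commutatorElement_def, inv ha hb, inv hc hd, W.mul_comp (hA hb) (hA hc),
      W.mul_comp (hA (mul_mem hb hd)) (hA (inv_mem ha)),
      W.mul_comp (hA (mul_mem (mul_mem hb hd) (inv_mem hb))) (hA (inv_mem hc))]
    rfl
  have z1 := W.comm_le a ha c hc
  have z2 := W.comm_le b hb d hd
  have zA : ∀ {z}, z ∈ W.Z → z ∈ W.A1 := fun h => W.S1_le (W.Ma_le (W.Z_Ma h))
  rw [e1, W.mul_comp (zA z2) (hA he), W.mul_comp (hA hf) (zA z1), W.Zc _ z1 e he, W.Zc _ z2 f hf]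

/-- `T` is not commutative -/
theorem exists_nc : ∃ x ∈ W.T, ∃ y ∈ W.T, x * y ≠ y * x := by
  have hne : ∀ M : Subgroup G, Nat.card M = W.q ^ 3 → ∃ m ∈ M, m ∉ W.Z := by
    intro M hM
    by_contra h
    push Not at h
    have hq := W.q4
    have hpos : 0 < W.q ^ 2 := by positivity
    have h1 : Nat.card M ≤ Nat.card W.Z := Subgroup.card_le_of_le h
    rw [hM, W.cardZ, pow_succ] at h1
    nlinarith
  obtain ⟨a, ha, ha'⟩ := hne W.Ma W.cardMa
  obtain ⟨b, hb, hb'⟩ := hne W.Mb W.cardMb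
  exact ⟨a, W.S1_le_T (W.Ma_le ha), b, W.S1_le_T (W.Mb_le hb), W.nc a ha ha' b hb hb'⟩

theorem sixteen_le : 16 ≤ Nat.card W.T := by
  have h1 : Nat.card W.Ma ≤ Nat.card W.T := Subgroup.card_le_of_le (W.Ma_le.trans W.S1_le_T)
  rw [W.cardMa] at h1
  have h2 : 4 ^ 3 ≤ W.q ^ 3 := Nat.pow_le_pow_left W.q4 3
  omega

/-- **the conclusion of S1778** -/
theorem concl (h1170 : S1170Stmt.{u}) (C : Conf L A t) (h3 : 3 ∣ Nat.card A) (ht : W.t = t) (hA : W.Amb O)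
    (hY : W.Outer T0 y) (hP : W.Syl T0 y P) : Concl L t := by
  obtain ⟨h1, h2⟩ := isSyl_T C ht hA hY hP
  exact ⟨Or.inl (Cfsg.Agent.StdRank2.L3End.lie h1170 C h1 exists_nc (fun _ hx _ hy _ hz => comm_T hx hy hz)
    sixteen_le h3), h2⟩

end Cfsg.Agent.StdSpFour.SplitA.Inst
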