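import Mathlib

set_option autoImplicit false

/-!
# S1778, `Sp₄(q)`, case (A), split: the wreath situation

`Wr G`: commuting groups `A1`, `A2 = A1 ^ t`, a Sylow 2-subgroup `S1` of `A1`, its two elementary abelian subgroups
`Ma`, `Mb` of order `q ^ 3`, its centre `Z` of order `q ^ 2`.

* `Wr.U` = `{a a^t : a ∈ S1}`, `Wr.K` = `U⟨t⟩`, `Wr.T` = `S1 S2`, `Wr.A` = `{a a^t : a ∈ A1}`, `Wr.B` = `A1 A2`.
* `Wr.Amb` : the facts on `C_G(t)`.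
* `Wr.Outer T0 y` : `T0` is a Sylow 2-subgroup of `C_G(t)`, `y ∈ T0` the outer involution.
-/

namespace Cfsg.Agent.StdSpFour.SplitA

open Subgroup
open scoped commutatorElement

/-- the wreath situation -/
structure Wr (G : Type*) [Group G] where
  q : ℕ
  t : G
  A1 : Subgroup G
  S1 : Subgroup G
  Ma : Subgroup G
  Mb : Subgroup G
  Z : Subgroup G
  q4 : 4 ≤ q
  tt : t * t = 1
  t1 : t ≠ 1
  /-- `A1` and `A2` commute -/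
  comm : ∀ a ∈ A1, ∀ b ∈ A1, a * (t * b * t) = t * b * t * a
  /-- the centre of `A1` has odd order -/
  centre : ∀ s ∈ S1, (∀ a ∈ A1, s * a = a * s) → s = 1
  disj : ∀ s ∈ S1, t * s * t ∈ S1 → s = 1
  S1_le : S1 ≤ A1
  two : IsPGroup 2 S1
  Ma_le : Ma ≤ S1
  Mb_le : Mb ≤ S1
  Z_Ma : Z ≤ Ma
  Z_Mb : Z ≤ Mb
  cardMa : Nat.card Ma = q ^ 3
  cardMb : Nat.card Mb = q ^ 3
  cardZ : Nat.card Z = q ^ 2
  sqMa : ∀ x ∈ Ma, x * x = 1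
  sqMb : ∀ x ∈ Mb, x * x = 1
  /-- every involution of `S1` lies in `Ma` or `Mb` -/
  invM : ∀ x ∈ S1, x * x = 1 → x ∈ Ma ∨ x ∈ Mb
  Zc : ∀ z ∈ Z, ∀ x ∈ S1, z * x = x * z
  sup : ∀ x ∈ S1, ∃ a ∈ Ma, ∃ b ∈ Mb, x = a * b
  nc : ∀ x ∈ Ma, x ∉ Z → ∀ y ∈ Mb, y ∉ Z → x * y ≠ y * x
  comm_le : ∀ x ∈ S1, ∀ y ∈ S1, ⁅x, y⁆ ∈ Z
  comm_ge : Z ≤ ⁅Ma, Mb⁆
  /-- commuting elements of order four have the same square -/
  sq4 : ∀ x ∈ S1, ∀ y ∈ S1, x * y = y * x → x * x ≠ 1 → y * y ≠ 1 → x * x = y * y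
  /-- every involution of `A1` is conjugate into `Z` -/
  hoist : ∀ x ∈ A1, x * x = 1 → ∃ a ∈ A1, a⁻¹ * x * a ∈ Z
  /-- `S1` is a Sylow 2-subgroup of `A1` -/
  syl : ∀ Q : Subgroup G, Q ≤ A1 → IsPGroup 2 Q → ∃ a ∈ A1, ∀ x ∈ Q, a⁻¹ * x * a ∈ S1
  /-- `A1` is generated by the conjugates of `S1` -/
  gen : ∀ H : Subgroup G, (∀ a ∈ A1, ∀ s ∈ S1, a * s * a⁻¹ ∈ H) → A1 ≤ H

namespace Wr

variable {G : Type*} [Group G] (W : Wr G)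

/-- conjugation by `t` -/
def sw (x : G) : G := W.t * x * W.t

theorem tinv : W.t⁻¹ = W.t := inv_eq_of_mul_eq_one_right W.tt

theorem sw_sw (x : G) : W.sw (W.sw x) = x := by
  show W.t * (W.t * x * W.t) * W.t = x
  calc W.t * (W.t * x * W.t) * W.t = (W.t * W.t) * x * (W.t * W.t) := by group
    _ = x := by rw [W.tt]; group

theorem sw_mul (x y : G) : W.sw (x * y) = W.sw x * W.sw y := by
  show W.t * (x * y) * W.t = W.t * x * W.t * (W.t * y * W.t)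
  calc W.t * (x * y) * W.t = W.t * x * 1 * y * W.t := by group
    _ = W.t * x * (W.t * W.t) * y * W.t := by rw [W.tt]
    _ = _ := by group

theorem sw_one : W.sw 1 = 1 := by
  show W.t * 1 * W.t = 1
  rw [mul_one, W.tt]

theorem sw_inv (x : G) : W.sw x⁻¹ = (W.sw x)⁻¹ := by
  apply eq_inv_of_mul_eq_one_left
  rw [← sw_mul, inv_mul_cancel, sw_one]

/-- conjugation by `t` as a homomorphism -/
def swHom : G →* G where
  toFun := W.sw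
  map_one' := W.sw_one
  map_mul' := W.sw_mul

/-- `A2 = A1 ^ t` -/
def A2 : Subgroup G := W.A1.comap W.swHom

theorem mem_A2 {x : G} : x ∈ W.A2 ↔ W.sw x ∈ W.A1 := Iff.rfl

/-- `S2 = S1 ^ t` -/
def S2 : Subgroup G := W.S1.comap W.swHom

theorem mem_S2 {x : G} : x ∈ W.S2 ↔ W.sw x ∈ W.S1 := Iff.rfl

theorem sw_mem_A2 {x : G} (hx : x ∈ W.A1) : W.sw x ∈ W.A2 := by rw [mem_A2, sw_sw]; exact hx

theorem sw_mem_S2 {x : G} (hx : x ∈ W.S1) : W.sw x ∈ W.S2 := by rw [mem_S2, sw_sw]; exact hx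

theorem S2_le : W.S2 ≤ W.A2 := fun _ hx => W.S1_le hx

theorem comm' {a b : G} (ha : a ∈ W.A1) (hb : b ∈ W.A2) : a * b = b * a := by
  have := W.comm a ha (W.sw b) hb
  have e : W.t * W.sw b * W.t = b := W.sw_sw b
  rwa [e] at this

theorem comm_sw {a b : G} (ha : a ∈ W.A1) (hb : b ∈ W.A1) : a * W.sw b = W.sw b * a := W.comm a ha b hb

/-- product of two commuting subgroups -/
def prod (H1 H2 : Subgroup G) (h1 : H1 ≤ W.A1) (h2 : H2 ≤ W.A2) : Subgroup G where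
  carrier := {x | ∃ a ∈ H1, ∃ b ∈ H2, x = a * b}
  one_mem' := ⟨1, one_mem _, 1, one_mem _, by group⟩
  mul_mem' := by
    rintro _ _ ⟨a, ha, b, hb, rfl⟩ ⟨c, hc, d, hd, rfl⟩
    refine ⟨a * c, mul_mem ha hc, b * d, mul_mem hb hd, ?_⟩
    calc a * b * (c * d) = a * (b * c) * d := by group
      _ = a * (c * b) * d := by rw [W.comm' (h1 hc) (h2 hb)]
      _ = a * c * (b * d) := by group
  inv_mem' := by
    rintro _ ⟨a, ha, b, hb, rfl⟩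
    refine ⟨a⁻¹, inv_mem ha, b⁻¹, inv_mem hb, ?_⟩
    rw [mul_inv_rev]
    exact (W.comm' (inv_mem (h1 ha)) (inv_mem (h2 hb))).symm

/-- `T = S1 S2` -/
def T : Subgroup G := W.prod W.S1 W.S2 W.S1_le W.S2_le

theorem mem_T {x : G} : x ∈ W.T ↔ ∃ a ∈ W.S1, ∃ b ∈ W.S2, x = a * b := Iff.rfl

/-- `B = A1 A2` -/
def B : Subgroup G := W.prod W.A1 W.A2 le_rfl le_rfl

theorem mem_B {x : G} : x ∈ W.B ↔ ∃ a ∈ W.A1, ∃ b ∈ W.A2, x = a * b := Iff.rfl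

/-- the diagonal of a subgroup of `A1` -/
def diag (H : Subgroup G) (h : H ≤ W.A1) : Subgroup G where
  carrier := {x | ∃ a ∈ H, x = a * W.sw a}
  one_mem' := ⟨1, one_mem _, by rw [sw_one]; group⟩
  mul_mem' := by
    rintro _ _ ⟨a, ha, rfl⟩ ⟨c, hc, rfl⟩
    refine ⟨a * c, mul_mem ha hc, ?_⟩
    rw [sw_mul]
    calc a * W.sw a * (c * W.sw c) = a * (W.sw a * c) * W.sw c := by group
      _ = a * (c * W.sw a) * W.sw c := by rw [W.comm_sw (h hc) (h ha)]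
      _ = a * c * (W.sw a * W.sw c) := by group
  inv_mem' := by
    rintro _ ⟨a, ha, rfl⟩
    refine ⟨a⁻¹, inv_mem ha, ?_⟩
    rw [mul_inv_rev, sw_inv, ← sw_inv]
    exact (W.comm_sw (inv_mem (h ha)) (inv_mem (h ha))).symm

/-- `U = {a a^t : a ∈ S1}` -/
def U : Subgroup G := W.diag W.S1 W.S1_le

theorem mem_U {x : G} : x ∈ W.U ↔ ∃ a ∈ W.S1, x = a * W.sw a := Iff.rfl

/-- `A = {a a^t : a ∈ A1}` -/
def A : Subgroup G := W.diag W.A1 le_rfl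

theorem mem_A {x : G} : x ∈ W.A ↔ ∃ a ∈ W.A1, x = a * W.sw a := Iff.rfl

theorem sw_diag {a : G} (ha : a ∈ W.A1) : W.sw (a * W.sw a) = a * W.sw a := by
  rw [sw_mul, sw_sw, W.comm_sw ha ha]

/-- elements of `A` commute with `t` -/
theorem diag_comm {a : G} (ha : a ∈ W.A1) : a * W.sw a * W.t = W.t * (a * W.sw a) := by
  have h := W.sw_diag ha
  calc a * W.sw a * W.t = W.sw (a * W.sw a) * W.t := by rw [h]
    _ = W.t * (a * W.sw a) * (W.t * W.t) := by show W.t * (a * W.sw a) * W.t * W.t = _; group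
    _ = W.t * (a * W.sw a) := by rw [W.tt, mul_one]

/-- `K = U⟨t⟩` -/
def K : Subgroup G where
  carrier := {x | ∃ a ∈ W.S1, x = a * W.sw a ∨ x = a * W.sw a * W.t}
  one_mem' := ⟨1, one_mem _, Or.inl (by rw [sw_one]; group)⟩
  mul_mem' := by
    rintro x y ⟨a, ha, hx⟩ ⟨b, hb, hy⟩
    have hab : a * W.sw a * (b * W.sw b) = a * b * W.sw (a * b) := by
      rw [sw_mul]
      calc a * W.sw a * (b * W.sw b) = a * (W.sw a * b) * W.sw b := by group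
        _ = a * (b * W.sw a) * W.sw b := by rw [W.comm_sw (W.S1_le hb) (W.S1_le ha)]
        _ = a * b * (W.sw a * W.sw b) := by group
    have hbt := W.diag_comm (W.S1_le hb)
    refine ⟨a * b, mul_mem ha hb, ?_⟩
    rcases hx with rfl | rfl <;> rcases hy with rfl | rfl
    · exact Or.inl hab
    · right
      calc a * W.sw a * (b * W.sw b * W.t) = a * W.sw a * (b * W.sw b) * W.t := by group
        _ = _ := by rw [hab]
    · right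
      calc a * W.sw a * W.t * (b * W.sw b) = a * W.sw a * (W.t * (b * W.sw b)) := by group
        _ = a * W.sw a * (b * W.sw b * W.t) := by rw [hbt]
        _ = a * W.sw a * (b * W.sw b) * W.t := by group
        _ = _ := by rw [hab]
    · left
      calc a * W.sw a * W.t * (b * W.sw b * W.t) = a * W.sw a * (W.t * (b * W.sw b)) * W.t := by group
        _ = a * W.sw a * (b * W.sw b * W.t) * W.t := by rw [hbt]
        _ = a * W.sw a * (b * W.sw b) * (W.t * W.t) := by group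
        _ = _ := by rw [hab, W.tt, mul_one]
  inv_mem' := by
    rintro x ⟨a, ha, hx⟩
    have h1 : (a * W.sw a)⁻¹ = a⁻¹ * W.sw a⁻¹ := by
      rw [mul_inv_rev, ← sw_inv]
      exact (W.comm_sw (W.S1_le (inv_mem ha)) (W.S1_le (inv_mem ha))).symm
    refine ⟨a⁻¹, inv_mem ha, ?_⟩
    rcases hx with rfl | rfl
    · exact Or.inl h1
    · right
      rw [mul_inv_rev, h1, W.tinv]
      exact (W.diag_comm (W.S1_le (inv_mem ha))).symm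

theorem mem_K {x : G} : x ∈ W.K ↔ ∃ a ∈ W.S1, x = a * W.sw a ∨ x = a * W.sw a * W.t := Iff.rfl

theorem U_le_K : W.U ≤ W.K := by
  rintro x ⟨a, ha, rfl⟩
  exact ⟨a, ha, Or.inl rfl⟩

theorem t_mem_K : W.t ∈ W.K := ⟨1, one_mem _, Or.inr (by rw [sw_one]; group)⟩

/-- **the facts on `C_G(t)`** -/
structure Amb (O : Subgroup G) : Prop where
  /-- `C_G(t)` normalises `A1 A2` -/
  hC : ∀ c, c * W.t = W.t * c → ∀ x ∈ W.B, c * x * c⁻¹ ∈ W.B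
  /-- the normaliser of `A1 A2` permutes `A1`, `A2` -/
  perm : ∀ g : G, (∀ x ∈ W.B, g * x * g⁻¹ ∈ W.B) → (∀ a ∈ W.A1, g * a * g⁻¹ ∈ W.A1) ∨ (∀ a ∈ W.A1, g * a * g⁻¹ ∈ W.A2)
  /-- homomorphisms from `A1` to `C_G(t)` with central kernel have image `A` -/
  hmap : ∀ f : W.A1 →* G, (∀ a, f a * W.t = W.t * f a) → (∀ a, f a = 1 → ∀ b : W.A1, a * b = b * a) →
    ∀ x, x ∈ W.A ↔ ∃ a, f a = x
  /-- `C_G(t) ∩ C_G(Z(U)) = U⟨t⟩O` -/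
  hCZ : ∀ x, x * W.t = W.t * x → (∀ z ∈ W.Z, x * (z * W.sw z) = z * W.sw z * x) → ∃ k ∈ W.K, ∃ o ∈ O, x = k * o
  O_odd : Odd (Nat.card O)
  O_t : ∀ o ∈ O, o * W.t = W.t * o
  O_A : ∀ o ∈ O, ∀ a ∈ W.A1, o * a = a * o

/-- **the outer involution** `y` in the Sylow 2-subgroup `T0` of `C_G(t)` -/
structure Outer (T0 : Subgroup G) (y : G) : Prop where
  T0_two : IsPGroup 2 T0
  T0_t : ∀ x ∈ T0, x * W.t = W.t * x
  K_le : W.K ≤ T0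
  /-- `T0` is a Sylow 2-subgroup of `C_G(t)` -/
  T0_syl : ∀ R : Subgroup G, IsPGroup 2 R → (∀ x ∈ R, x * W.t = W.t * x) →
    ∃ c, c * W.t = W.t * c ∧ ∀ x ∈ R, c⁻¹ * x * c ∈ T0
  /-- `T0` normalises `U` -/
  T0_U : ∀ x ∈ T0, ∀ u ∈ W.U, x * u * x⁻¹ ∈ W.U
  /-- `T0 / U⟨t⟩` is cyclic -/
  cyc : ∃ f ∈ T0, ∀ x ∈ T0, ∃ n : ℕ, f ^ n * x ∈ W.K
  y_mem : y ∈ T0
  y_not : y ∉ W.K
  yy : y * y = 1
  yA : ∀ a ∈ W.A1, y * a * y ∈ W.A1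
  yS : ∀ s ∈ W.S1, y * s * y ∈ W.S1
  yZ : ∀ s ∈ W.Z, y * s * y ∈ W.Z
  /-- (Y1) -/
  card_cen : Nat.card (W.S1 ⊓ centralizer ({y} : Set G) : Subgroup G) = W.q ^ 2
  /-- (Y2) -/
  rank_cen : ∀ E : Subgroup G, E ≤ W.S1 → (∀ x ∈ E, x * y = y * x) → (∀ x ∈ E, x * x = 1) → 2 * Nat.card E ≤ W.q ^ 2
  /-- (Y2'') -/
  four : ∃ g1 ∈ W.S1, ∃ g2 ∈ W.S1, g1 * y = y * g1 ∧ g2 * y = y * g2 ∧
    g1 * g2 * (g1 * g2) ≠ 1 ∧ ((g1 * g1 = 1 ∧ g2 * g2 = 1) ∨ (g1 * g1 ≠ 1 ∧ g2 * g2 ≠ 1))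
  /-- (Y3) -/
  h90 : ∀ u ∈ W.S1, y * u * (y * u) = 1 → ∃ v ∈ W.S1, y * u = v⁻¹ * y * v
  /-- (Y5) -/
  eight : ∀ w ∈ W.S1, w * y = y * w → w * w = 1 → w ≠ 1 →
    8 ≤ Nat.card (W.S1 ⊓ centralizer ({y} : Set G) ⊓ centralizer ({w} : Set G) : Subgroup G)
  /-- (Y6) -/
  card_Z : W.q ≤ Nat.card (W.Z ⊓ centralizer ({y} : Set G) : Subgroup G)

/-- elements of `P` which induce an element of `S1` on `A1` -/
def I1 (P : Subgroup G) : Subgroup G where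
  carrier := {x | x ∈ P ∧ ∃ s ∈ W.S1, ∀ a ∈ W.A1, x * a * x⁻¹ = s * a * s⁻¹}
  one_mem' := ⟨one_mem _, 1, one_mem _, fun a _ => rfl⟩
  mul_mem' := by
    rintro x y ⟨hx, s, hs, h⟩ ⟨hy, r, hr, h'⟩
    refine ⟨mul_mem hx hy, s * r, mul_mem hs hr, fun a ha => ?_⟩
    calc x * y * a * (x * y)⁻¹ = x * (y * a * y⁻¹) * x⁻¹ := by group
      _ = x * (r * a * r⁻¹) * x⁻¹ := by rw [h' a ha]
      _ = s * (r * a * r⁻¹) * s⁻¹ := by
        rw [h _ (mul_mem (mul_mem (W.S1_le hr) ha) (inv_mem (W.S1_le hr)))]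
      _ = s * r * a * (s * r)⁻¹ := by group
  inv_mem' := by
    rintro x ⟨hx, s, hs, h⟩
    refine ⟨inv_mem hx, s⁻¹, inv_mem hs, fun a ha => ?_⟩
    have h1 := h (s⁻¹ * a * s) (mul_mem (mul_mem (inv_mem (W.S1_le hs)) ha) (W.S1_le hs))
    have h2 : x * (s⁻¹ * a * s) * x⁻¹ = a := by rw [h1]; group
    calc x⁻¹ * a * x⁻¹⁻¹ = x⁻¹ * (x * (s⁻¹ * a * s) * x⁻¹) * x := by rw [h2]; group
      _ = s⁻¹ * a * s⁻¹⁻¹ := by group

/-- **the Sylow 2-subgroup `P` of `N_G(A1 A2)`** -/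
structure Syl (T0 : Subgroup G) (y : G) (P : Subgroup G) : Prop where
  P_two : IsPGroup 2 P
  T0_le : T0 ≤ P
  T_le : W.T ≤ P
  P_B : ∀ g ∈ P, ∀ x ∈ W.B, g * x * g⁻¹ ∈ W.B
  /-- `P` is a Sylow 2-subgroup of `N_G(A1 A2)` -/
  P_syl : ∀ R : Subgroup G, IsPGroup 2 R → (∀ g ∈ R, ∀ x ∈ W.B, g * x * g⁻¹ ∈ W.B) →
    ∃ c, (∀ x ∈ W.B, c * x * c⁻¹ ∈ W.B) ∧ ∀ x ∈ R, c⁻¹ * x * c ∈ P
  /-- `S0 / I1` is cyclic: the only coset of order two is `y I1` -/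
  cyc1 : ∀ g ∈ P, (∀ a ∈ W.A1, g * a * g⁻¹ ∈ W.A1) → g * g ∈ W.I1 P → g ∉ W.I1 P → y * g ∈ W.I1 P
  comm1 : ∀ g ∈ P, (∀ a ∈ W.A1, g * a * g⁻¹ ∈ W.A1) → ∀ h ∈ P, (∀ a ∈ W.A1, h * a * h⁻¹ ∈ W.A1) →
    ⁅g, h⁆ ∈ W.I1 P

end Wr

end Cfsg.Agent.StdSpFour.SplitA
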