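import Cfsg.Agent.StdSpFour.SplitA.InstAmb
import Cfsg.Agent.StdSpFour.SplitV.InstG

set_option autoImplicit false
set_option linter.unusedSectionVars false

/-!
# `SplitV.InstG.wrG` and the package `S` of `A`

`wrG_U`: `U = UG S`.  `amb`: `Wr.Amb` for `wrG`.
-/

namespace Cfsg.Agent.StdSpFour.SplitA.InstWr

open Subgroup
open Cfsg.Agent.TitsThree.B2Pkg Cfsg.Agent.TitsThree.RankTwoIdentB2
  Cfsg.Agent.TitsThree.CoreB2 Cfsg.Agent.TitsThree.RankTwoIdx Cfsg.Agent.TitsThree.RankTwoRGD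
  Cfsg.Agent.TitsThree.StdData
open Cfsg.Agent.StdRank2 Cfsg.Agent.StdRank2.OddLift Cfsg.Agent.StdRank2.B2Lift Cfsg.Agent.StdRank2.B2Std
  Cfsg.Agent.StdRank2.B2Torus Cfsg.Agent.StdRank2.B2Act Cfsg.Agent.StdRank2.B2Act.Std
  Cfsg.Agent.StdRank2.B2Par Cfsg.Agent.StdRank2.B2Par.Std
  Cfsg.Agent.StdRank2.B2Amb Cfsg.Agent.StdRank2.SpFrame Cfsg.Agent.StdRank2.SpSelf
open Cfsg.Agent.StdEven Cfsg.Agent.StdEven.CoreQuot Cfsg.Agent.StdEven.Loc Cfsg.Agent.StdEven.Syl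
open Cfsg.Agent.Schreier.Basic
open Cfsg.Agent.StdSpFour.XStart Cfsg.Agent.StdSpFour.SplitV Cfsg.Agent.StdSpFour.SplitV.InstG
open Cfsg.Agent.StdSpFour.Lift
open scoped commutatorElement Pointwise

universe u

variable {F : Type*} [Field F] [Finite F] [CharP F 2]
variable {G : Type u} [Group G] [Finite G] {A : Subgroup G} {t : G} {T : Subgroup G}
variable (H : Hyp A t T) (S : Std (stdSp F) ↥A) (E : Env (B2Conn.base H S) (im A t A))
  (ht : (B2Conn.base H S).t = H.tX)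
  (R : RingA (B2Conn.base H S) 0 0 0) (hF : 4 ≤ Nat.card F)

/-- **`U = UG S`** -/
theorem wrG_U : (wrG H E ht R hF).U = UG S := by
  have hS := SpData.isSyl_U H.hZ S
  have twoU : ∀ {v : G} (hv : v ∈ UG S), Two (⟨v, H.A_le (UG_le S hv)⟩ : ↥(NO A t)) := by
    intro v hv
    obtain ⟨k, hk⟩ := hS.two ⟨v, hv⟩
    exact ⟨k, Subtype.ext (congrArg Subtype.val hk : v ^ 2 ^ k = 1)⟩
  have hdA : ∀ u s m r, (RG H E ht R hF).dl ((RG H E ht R hF).C1.el u s m r) ∈ A := fun u s m r =>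
    RG_A_le H E ht R hF ((RG H E ht R hF).dl_mem ((RG H E ht R hF).S1_le ⟨u, s, m, r, rfl⟩))
  have twoD : ∀ u s m r, Two (⟨_, H.A_le (hdA u s m r)⟩ : ↥(NO A t)) := by
    intro u s m r
    have h1 : (wrG H E ht R hF).dg ((RG H E ht R hF).C1.el u s m r) ∈ (wrG H E ht R hF).T :=
      (wrG H E ht R hF).U_le_T ⟨_, ⟨u, s, m, r, rfl⟩, rfl⟩
    exact ⟨2, Subtype.ext ((wrG H E ht R hF).pow4T h1)⟩
  have key : ∀ u s m r, ∀ v, ∀ hv : v ∈ UG S, pr A t ⟨v, H.A_le (UG_le S hv)⟩ =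
      (B2Conn.base H S).xa u * (B2Conn.base H S).xb s * (B2Conn.base H S).zs m * (B2Conn.base H S).zl r →
      v = (RG H E ht R hF).dl ((RG H E ht R hF).C1.el u s m r) := by
    intro u s m r v hv e
    have h1 := unique (pr A t) H.odd_ker (A_mem_C H (UG_le S hv)) (twoU hv) (twoD u s m r) (by
      rw [e, pr_dl_el])
    exact congrArg Subtype.val h1
  ext x
  constructor
  · rintro ⟨_, ⟨u, s, m, r, rfl⟩, rfl⟩
    have h1 : Env.IsU (B2Conn.base H S) ((B2Conn.base H S).xa u * (B2Conn.base H S).xb s * (B2Conn.base H S).zs m *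
        (B2Conn.base H S).zl r) := ⟨u, s, m, r, by rw [Base.v1]; simp only [mul_assoc]⟩
    obtain ⟨n, hn, e⟩ := mem_im.1 ((isU_iff H S).1 h1)
    have h2 := key u s m r n hn e
    show (RG H E ht R hF).dl ((RG H E ht R hF).C1.el u s m r) ∈ UG S
    rw [← h2]
    exact hn
  · intro hx
    have h1 : Env.IsU (B2Conn.base H S) (pr A t ⟨x, H.A_le (UG_le S hx)⟩) :=
      (isU_iff H S).2 (pr_mem_im hx)
    obtain ⟨u, s, m, r, e⟩ := h1
    have h2 := key u s m r x hx (by rw [e, Base.v1]; simp only [mul_assoc])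
    rw [h2]
    exact ⟨_, ⟨u, s, m, r, rfl⟩, rfl⟩

/-- **`Wr.Amb` for `wrG`** -/
theorem amb (hS : Sch ↥A) : (wrG H E ht R hF).Amb (core A t) :=
  Inst.amb H S _ (wrG_A H E ht R hF) rfl (wrG_U H S E ht R hF) (by omega) hS
    (fun _ ho _ ha => core_A1 H E ht R hF ho ha)

end Cfsg.Agent.StdSpFour.SplitA.InstWr
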