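import Cfsg.Agent.StdSpFour.SplitA.InstSyl
import Cfsg.Agent.StdSpFour.SplitA.InstWr
import Cfsg.Agent.StdSpFour.SplitA.InstEnd

/-!
# S1778, `Sp₄(q)`, case (A), split, with an outer involution: the conclusion
-/

set_option autoImplicit false
set_option linter.unusedSectionVars false

namespace Cfsg.Agent.StdSpFour.SplitA.InstFin

open Subgroup
open Cfsg Cfsg.Agent.StdEven.Syl Cfsg.Agent.StdL2.Setup Cfsg.Agent.StdEven.Red Cfsg.Agent.StdSz.Out
open Cfsg.Agent.TitsThree.B2Pkg Cfsg.Agent.TitsThree.RankTwoIdentB2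
  Cfsg.Agent.TitsThree.CoreB2 Cfsg.Agent.TitsThree.RankTwoIdx Cfsg.Agent.TitsThree.RankTwoRGD
  Cfsg.Agent.TitsThree.StdData
open Cfsg.Agent.StdRank2.B2Std
  Cfsg.Agent.StdRank2.OutB2G
  Cfsg.Agent.StdRank2.OutSpG Cfsg.Agent.StdRank2.OutSpCyc
open Cfsg.Agent.StdRank2 Cfsg.Agent.StdEven Cfsg.Agent.StdEven.CoreQuot Cfsg.Agent.StdEven.Loc
open Cfsg.Agent.Schreier.Basic
open Cfsg.Agent.StdSpFour Cfsg.Agent.StdSpFour.SplitA.InstOuter

universe u

variable {G : Type u} [Group G] [Finite G] {L A : Subgroup G} {t : G} {T : Subgroup G}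
variable {F : Type*} [Field F] [Finite F] [CharP F 2]

/-- **the conclusion**, for `W` -/
theorem concl_wr (h1170 : S1170Stmt.{u}) (C : Conf L A t) (H : Hyp A t T) (S : Std (stdSp F) ↥A)
    (h3 : 3 ∣ Nat.card A) (UT : T ⊓ A = OutB2G.UG S) (had : AdaptedSp S T) (W : Wr G) (hWA : W.A = A)
    (hWt : W.t = t) (hWU : W.U = OutB2G.UG S) (hWq : W.q = Nat.card F) {O : Subgroup G} (hA : W.Amb O)
    (hx : ∃ f ∈ T, f ∉ OutB2G.UG S ∧ t * f ∉ OutB2G.UG S ∧ f * f ∈ OutB2G.UG S) : Concl L t := by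
  have hp := Inst.commutator_A1 H W hWA
  subst hWA hWt
  have C' : Ctx W S T := ⟨H, UT, hWU, hWq, had, H.std.1.2⟩
  obtain ⟨f, hf, hfU, htf, hff⟩ := hx
  obtain ⟨y, P, hY, hP⟩ := InstSyl.exists_outer_syl C' hA hp ⟨f, hf, fun hK => by
    rcases (mem_K_iff C').1 hK with h | ⟨u, hu, rfl⟩
    · exact hfU h
    · apply htf
      have h1 : u * W.t = W.t * u := H.isT.cent u (UG_le_T C' hu)
      rw [h1, ← mul_assoc, W.tt, one_mul]
      exact hu, hff⟩
  exact Inst.concl h1170 C h3 rfl hA hY hP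

/-- **case (A), `RingA B 0 0 0`, with an element outside `U⟨t⟩` whose square lies in `U`** -/
theorem concl_outer (h1170 : S1170Stmt.{u}) (C : Conf L A t) (H : Hyp A t T) (S : Std (stdSp F) ↥A)
    (E : Env (B2Conn.base H S) (im A t A)) (R : RingA (B2Conn.base H S) 0 0 0) (hF : 4 ≤ Nat.card F)
    (hS : Sch ↥A) (UT : T ⊓ A = OutB2G.UG S) (had : AdaptedSp S T)
    (hx : ∃ f ∈ T, f ∉ OutB2G.UG S ∧ t * f ∉ OutB2G.UG S ∧ f * f ∈ OutB2G.UG S) : Concl L t :=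
  concl_wr h1170 C H S (Inst.three_dvd H E) UT had (SplitV.InstG.wrG H E (B2Conn.base_t H S) R hF)
    (SplitV.InstG.wrG_A H E (B2Conn.base_t H S) R hF) rfl (InstWr.wrG_U H S E (B2Conn.base_t H S) R hF) rfl
    (InstWr.amb H S E (B2Conn.base_t H S) R hF hS) hx

end Cfsg.Agent.StdSpFour.SplitA.InstFin
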