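import Cfsg.Agent.StdSpFour.SplitA.Rank

set_option autoImplicit false
set_option linter.unusedSectionVars false

/-!
# The Sylow 2-subgroup `P` of `N_G(A1 A2)`: the subgroup `S0 = P ∩ N(A1)`, types
-/

namespace Cfsg.Agent.StdSpFour.SplitA

open Subgroup
open scoped commutatorElement

section General

variable {G : Type*} [Group G]

theorem conj_inv_mem [Finite G] {H : Subgroup G} {g : G} (h : ∀ a ∈ H, g * a * g⁻¹ ∈ H) : ∀ a ∈ H, g⁻¹ * a * g ∈ H := by
  intro a ha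
  obtain ⟨n, hn, h1⟩ := (isOfFinOrder_of_finite g).exists_pow_eq_one
  have h2 : ∀ k : ℕ, ∀ a ∈ H, g ^ k * a * (g ^ k)⁻¹ ∈ H := by
    intro k
    induction k with
    | zero => intro a ha; simpa using ha
    | succ k ih =>
      intro a ha
      have := h _ (ih a ha)
      have e : g ^ (k + 1) * a * (g ^ (k + 1))⁻¹ = g * (g ^ k * a * (g ^ k)⁻¹) * g⁻¹ := by
        rw [pow_succ']; group
      rw [e]; exact this
  have h3 : g⁻¹ = g ^ (n - 1) := by
    apply inv_eq_of_mul_eq_one_right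
    rw [← pow_succ', Nat.sub_add_cancel hn]
    exact h1
  have := h2 (n - 1) a ha
  rw [← h3, inv_inv] at this
  exact this

/-- an involution acting on a nontrivial 2-group has nontrivial fixed points -/
theorem exists_fix [Finite G] {C : Subgroup G} (hC : IsPGroup 2 C) {c0 : G} (hc0 : c0 ∈ C) (hc1 : c0 ≠ 1) {t : G}
    (ht : t * t = 1) (hn : ∀ c ∈ C, t * c * t ∈ C) : ∃ c ∈ C, c ≠ 1 ∧ c * t = t * c := by
  have : Fact (Nat.Prime 2) := ⟨Nat.prime_two⟩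
  have hnt : Nontrivial C := ⟨⟨⟨c0, hc0⟩, 1, fun h => hc1 (congrArg Subtype.val h)⟩⟩
  have hcn : Nontrivial (Subgroup.center C) := hC.center_nontrivial
  have h2 : 2 ∣ Nat.card (Subgroup.center C) := by
    have h3 : IsPGroup 2 (Subgroup.center C) := hC.to_subgroup _
    obtain ⟨n, hn⟩ := IsPGroup.iff_card.1 h3
    rcases Nat.eq_zero_or_pos n with h0 | h0
    · rw [h0, pow_zero] at hn
      exact absurd hn Finite.one_lt_card.ne'
    · rw [hn]
      exact dvd_pow_self 2 h0.ne'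
  obtain ⟨z, hz⟩ := exists_prime_orderOf_dvd_card' 2 h2
  have hzz : (z : C) * z = 1 := by
    have h4 := pow_orderOf_eq_one z
    rw [hz, pow_two] at h4
    exact congrArg Subtype.val h4
  have hz1 : (z : C) ≠ 1 := by
    intro h4
    have : z = 1 := Subtype.ext h4
    rw [this, orderOf_one] at hz
    omega
  have hzG : ((z : C) : G) * ((z : C) : G) = 1 := congrArg Subtype.val hzz
  have hzG1 : ((z : C) : G) ≠ 1 := fun h => hz1 (Subtype.ext h)
  have hzc : ∀ c ∈ C, ((z : C) : G) * c = c * ((z : C) : G) := by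
    intro c hc
    have := Subgroup.mem_center_iff.1 z.2 ⟨c, hc⟩
    exact (congrArg Subtype.val this).symm
  obtain ⟨x, hx⟩ : ∃ x, x = ((z : C) : G) := ⟨_, rfl⟩
  rw [← hx] at hzG hzG1 hzc
  have hxC : x ∈ C := by rw [hx]; exact (z : C).2
  have hxi : x⁻¹ = x := inv_eq_of_mul_eq_one_right hzG
  have htx := hn x hxC
  by_cases hd : x * (t * x * t) = 1
  · refine ⟨x, hxC, hzG1, ?_⟩
    have e : t * x * t = x := (inv_eq_of_mul_eq_one_right hd).symm.trans hxi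
    calc x * t = (t * x * t) * t := by rw [e]
      _ = t * x * (t * t) := by group
      _ = t * x := by rw [ht, mul_one]
  · refine ⟨x * (t * x * t), mul_mem hxC htx, hd, ?_⟩
    calc x * (t * x * t) * t = x * (t * x * (t * t)) := by group
      _ = x * (t * x) := by rw [ht, mul_one]
      _ = (t * t) * x * t * x := by rw [ht]; group
      _ = t * ((t * x * t) * x) := by group
      _ = t * (x * (t * x * t)) := by rw [hzc _ htx]

end General

namespace Wr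

variable {G : Type*} [Group G] (W : Wr G)

variable {T0 P O : Subgroup G} {y : G}

theorem exists_S1 : ∃ s ∈ W.S1, s ≠ 1 := by
  by_contra h
  push Not at h
  have h1 : W.Ma = ⊥ := by
    rw [eq_bot_iff]
    intro x hx
    exact mem_bot.2 (h x (W.Ma_le hx))
  have h2 := W.cardMa
  rw [h1, card_bot] at h2
  have h3 : 4 ^ 3 ≤ W.q ^ 3 := Nat.pow_le_pow_left W.q4 3
  omega

theorem not_A1_A2 : ¬ (∀ a ∈ W.A1, a ∈ W.A2) := by
  intro h
  obtain ⟨s, hs, hs1⟩ := W.exists_S1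
  apply hs1
  refine W.centre s hs ?_
  intro a ha
  exact W.comm' (W.S1_le hs) (h a ha)

theorem t_mem (hY : W.Outer T0 y) : W.t ∈ T0 := hY.K_le W.t_mem_K

theorem sw_eq (x : G) : W.t * x * W.t⁻¹ = W.sw x := by rw [W.tinv]; rfl

/-- `S0 = P ∩ N(A1)` -/
def S0 (P : Subgroup G) : Subgroup G := P ⊓ normalizer (W.A1 : Set G)

variable [Finite G]

theorem mem_S0 {x : G} : x ∈ W.S0 P ↔ x ∈ P ∧ ∀ a ∈ W.A1, x * a * x⁻¹ ∈ W.A1 := by
  rw [S0, mem_inf, mem_normalizer_iff]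
  constructor
  · rintro ⟨h1, h2⟩
    exact ⟨h1, fun a ha => (h2 a).1 ha⟩
  · rintro ⟨h1, h2⟩
    refine ⟨h1, fun a => ⟨fun ha => h2 a ha, fun ha => ?_⟩⟩
    have := conj_inv_mem h2 _ ha
    have e : x⁻¹ * (x * a * x⁻¹) * x = a := by group
    rwa [e] at this

/-- an element of `N(A1 A2)` normalises `A1` and `A2` or interchanges them -/
theorem perm_cases (hA : W.Amb O) {g : G} (hg : ∀ x ∈ W.B, g * x * g⁻¹ ∈ W.B) :
    ((∀ a ∈ W.A1, g * a * g⁻¹ ∈ W.A1) ∧ (∀ a ∈ W.A2, g * a * g⁻¹ ∈ W.A2)) ∨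
      ((∀ a ∈ W.A1, g * a * g⁻¹ ∈ W.A2) ∧ (∀ a ∈ W.A2, g * a * g⁻¹ ∈ W.A1)) := by
  have hgt : ∀ x ∈ W.B, (g * W.t) * x * (g * W.t)⁻¹ ∈ W.B := by
    intro x hx
    have := hg _ (W.sw_B hx)
    rw [← W.sw_eq] at this
    have e : (g * W.t) * x * (g * W.t)⁻¹ = g * (W.t * x * W.t⁻¹) * g⁻¹ := by group
    rw [e]; exact this
  -- the images of `A2`
  have h2 : (∀ a ∈ W.A2, g * a * g⁻¹ ∈ W.A1) ∨ (∀ a ∈ W.A2, g * a * g⁻¹ ∈ W.A2) := by
    rcases hA.perm _ hgt with h | h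
    · left
      intro a ha
      have := h _ ha
      have e : (g * W.t) * W.swHom a * (g * W.t)⁻¹ = g * a * g⁻¹ := by
        show (g * W.t) * W.sw a * (g * W.t)⁻¹ = g * a * g⁻¹
        calc (g * W.t) * W.sw a * (g * W.t)⁻¹ = g * (W.t * W.sw a * W.t⁻¹) * g⁻¹ := by group
          _ = _ := by rw [W.sw_eq, sw_sw]
      rwa [e] at this
    · right
      intro a ha
      have := h _ ha
      have e : (g * W.t) * W.swHom a * (g * W.t)⁻¹ = g * a * g⁻¹ := by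
        show (g * W.t) * W.sw a * (g * W.t)⁻¹ = g * a * g⁻¹
        calc (g * W.t) * W.sw a * (g * W.t)⁻¹ = g * (W.t * W.sw a * W.t⁻¹) * g⁻¹ := by group
          _ = _ := by rw [W.sw_eq, sw_sw]
      rwa [e] at this
  have hcard : Nat.card W.A1 = Nat.card W.A2 := by
    refine Nat.card_congr (Equiv.ofBijective (fun a : W.A1 => (⟨W.sw a, W.sw_mem_A2 a.2⟩ : W.A2)) ⟨?_, ?_⟩)
    · intro a b h
      have h1 : W.sw (a : G) = W.sw b := congrArg Subtype.val h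
      apply Subtype.ext
      rw [← W.sw_sw (a : G), h1, sw_sw]
    · intro b
      exact ⟨⟨W.sw b, b.2⟩, Subtype.ext (W.sw_sw b)⟩
  -- images cannot coincide
  have key : ∀ H1 H2 H : Subgroup G, Nat.card H1 = Nat.card H → (∀ a ∈ H1, g * a * g⁻¹ ∈ H) → (∀ a ∈ H2, g * a * g⁻¹ ∈ H) →
      ∀ a ∈ H2, a ∈ H1 := by
    intro H1 H2 H hc h1 h2 a ha
    have e1 : H1.map (MulAut.conj g).toMonoidHom = H := by
      refine Subgroup.eq_of_le_of_card_ge ?_ ?_
      · rintro _ ⟨x, hx, rfl⟩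
        exact h1 x hx
      · rw [← hc]
        exact (Nat.card_congr (H1.equivMapOfInjective _ (MulAut.conj g).injective).toEquiv).le
    have h3 := h2 a ha
    rw [← e1] at h3
    obtain ⟨x, hx, hxe⟩ := h3
    have : x = a := by
      have h4 : g * x * g⁻¹ = g * a * g⁻¹ := hxe
      have h5 := congrArg (fun u => g⁻¹ * u * g) h4
      simpa [mul_assoc] using h5
    rw [← this]; exact hx
  rcases hA.perm _ hg with h1 | h1 <;> rcases h2 with h2 | h2
  · exfalso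
    apply W.not_A1_A2
    intro a ha
    have h3 := key W.A1 W.A2 W.A1 rfl h1 h2
    -- `A2 ≤ A1`
    have h4 := h3 _ (W.sw_mem_A2 ha)
    exact (W.mem_A2).2 h4
  · exact Or.inl ⟨h1, h2⟩
  · exact Or.inr ⟨h1, h2⟩
  · exfalso
    apply W.not_A1_A2
    have h3 := key W.A2 W.A1 W.A2 rfl h2 h1
    exact h3

theorem t_mem_P (hY : W.Outer T0 y) (hP : W.Syl T0 y P) : W.t ∈ P := hP.T0_le (W.t_mem hY)

theorem y_mem_P (hY : W.Outer T0 y) (hP : W.Syl T0 y P) : y ∈ P := hP.T0_le hY.y_mem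

theorem y_mem_S0 (hY : W.Outer T0 y) (hP : W.Syl T0 y P) : y ∈ W.S0 P := by
  refine W.mem_S0.2 ⟨W.y_mem_P hY hP, fun a ha => ?_⟩
  have := hY.yA a ha
  rwa [inv_of_sq hY.yy]

theorem T_le_S0 (hP : W.Syl T0 y P) : W.T ≤ W.S0 P := by
  intro x hx
  refine W.mem_S0.2 ⟨hP.T_le hx, fun a ha => ?_⟩
  obtain ⟨c, hc, d, hd, rfl⟩ := W.mem_T'.1 hx
  have e : c * W.sw d * a * (c * W.sw d)⁻¹ = c * a * c⁻¹ := by
    calc c * W.sw d * a * (c * W.sw d)⁻¹ = c * (W.sw d * a) * (W.sw d)⁻¹ * c⁻¹ := by group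
      _ = c * (a * W.sw d) * (W.sw d)⁻¹ * c⁻¹ := by rw [W.comm_sw ha (W.S1_le hd)]
      _ = c * a * c⁻¹ := by group
  rw [e]
  exact mul_mem (mul_mem (W.S1_le hc) ha) (inv_mem (W.S1_le hc))

theorem t_not_S0 : W.t ∉ W.S0 P := by
  intro h
  have h1 := (W.mem_S0.1 h).2
  apply W.not_A1_A2
  intro a ha
  rw [mem_A2]
  have := h1 a ha
  rwa [W.sw_eq] at this

variable (hA : W.Amb O) (hY : W.Outer T0 y) (hP : W.Syl T0 y P)
include hA hP

omit hP in
theorem S0_A2 (hP : W.Syl T0 y P) {x : G} (hx : x ∈ W.S0 P) : ∀ a ∈ W.A2, x * a * x⁻¹ ∈ W.A2 := by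
  have h1 := W.mem_S0.1 hx
  rcases W.perm_cases hA (hP.P_B x h1.1) with h | h
  · exact h.2
  · exfalso
    apply W.not_A1_A2
    intro a ha
    have h2 := h.1 _ (conj_inv_mem h1.2 a ha)
    have e : x * (x⁻¹ * a * x) * x⁻¹ = a := by group
    rwa [e] at h2

theorem swap_A1 {x : G} (hx : x ∈ P) (hx0 : x ∉ W.S0 P) : ∀ a ∈ W.A1, x * a * x⁻¹ ∈ W.A2 := by
  rcases W.perm_cases hA (hP.P_B x hx) with h | h
  · exact absurd (W.mem_S0.2 ⟨hx, h.1⟩) hx0
  · exact h.1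

theorem swap_A2 {x : G} (hx : x ∈ P) (hx0 : x ∉ W.S0 P) : ∀ a ∈ W.A2, x * a * x⁻¹ ∈ W.A1 := by
  rcases W.perm_cases hA (hP.P_B x hx) with h | h
  · exact absurd (W.mem_S0.2 ⟨hx, h.1⟩) hx0
  · exact h.2

theorem idx : ∀ a ∈ P, ∀ b ∈ P, a ∉ W.S0 P → b ∉ W.S0 P → a * b ∈ W.S0 P := by
  intro a ha b hb ha0 hb0
  refine W.mem_S0.2 ⟨mul_mem ha hb, fun x hx => ?_⟩
  have h1 := W.swap_A2 hA hP ha ha0 _ (W.swap_A1 hA hP hb hb0 x hx)
  have e : a * b * x * (a * b)⁻¹ = a * (b * x * b⁻¹) * a⁻¹ := by group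
  rw [e]; exact h1

omit hA in
/-- `P ∩ A1 = S1` -/
theorem P_A1 {x : G} (hx : x ∈ P) (hxA : x ∈ W.A1) : x ∈ W.S1 := by
  have h1 : IsPGroup 2 (P ⊓ W.A1 : Subgroup G) := hP.P_two.to_le inf_le_left
  obtain ⟨a, -, ha⟩ := W.syl _ inf_le_right h1
  have h2 : W.S1 ≤ P ⊓ W.A1 := le_inf (fun x hx => hP.T_le (W.S1_le_T hx)) W.S1_le
  have h3 : Nat.card (P ⊓ W.A1 : Subgroup G) ≤ Nat.card W.S1 := by
    rw [Nat.card_congr ((P ⊓ W.A1).equivMapOfInjective (MulAut.conj a⁻¹).toMonoidHom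
      (MulAut.conj a⁻¹).injective).toEquiv]
    refine Subgroup.card_le_of_le ?_
    rintro _ ⟨z, hz, rfl⟩
    have := ha z hz
    show a⁻¹ * z * a⁻¹⁻¹ ∈ W.S1
    rwa [inv_inv]
  have h4 : W.S1 = P ⊓ W.A1 := Subgroup.eq_of_le_of_card_ge h2 h3
  rw [h4]
  exact ⟨hx, hxA⟩

omit hA in
theorem S0_S1 {x : G} (hx : x ∈ W.S0 P) : ∀ s ∈ W.S1, x * s * x⁻¹ ∈ W.S1 := by
  intro s hs
  have h1 := W.mem_S0.1 hx
  exact W.P_A1 hP (mul_mem (mul_mem h1.1 (hP.T_le (W.S1_le_T hs))) (inv_mem h1.1)) (h1.2 s (W.S1_le hs))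

include hY in
omit hA in
theorem P_A2 {x : G} (hx : x ∈ P) (hxA : x ∈ W.A2) : x ∈ W.S2 := by
  rw [mem_S2]
  exact W.P_A1 hP (mul_mem (mul_mem (W.t_mem_P hY hP) hx) (W.t_mem_P hY hP)) hxA

include hY in
theorem S0_S2 {x : G} (hx : x ∈ W.S0 P) : ∀ s ∈ W.S2, x * s * x⁻¹ ∈ W.S2 := by
  intro s hs
  have h1 := W.mem_S0.1 hx
  have h2 : s ∈ P := by
    have h3 := W.sw_mem_T (x := W.sw s) hs
    rw [sw_sw] at h3
    exact hP.T_le h3
  exact W.P_A2 hY hP (mul_mem (mul_mem h1.1 h2) (inv_mem h1.1)) (W.S0_A2 hA hP hx s (W.S2_le hs))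

include hY in
theorem swap_S1 {x : G} (hx : x ∈ P) (hx0 : x ∉ W.S0 P) : ∀ s ∈ W.S1, x * s * x⁻¹ ∈ W.S2 := by
  intro s hs
  exact W.P_A2 hY hP (mul_mem (mul_mem hx (hP.T_le (W.S1_le_T hs))) (inv_mem hx)) (W.swap_A1 hA hP hx hx0 s (W.S1_le hs))

theorem swap_S2 {x : G} (hx : x ∈ P) (hx0 : x ∉ W.S0 P) : ∀ s ∈ W.S2, x * s * x⁻¹ ∈ W.S1 := by
  intro s hs
  have h2 : s ∈ P := by
    have h3 := W.sw_mem_T (x := W.sw s) hs
    rw [sw_sw] at h3
    exact hP.T_le h3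
  exact W.P_A1 hP (mul_mem (mul_mem hx h2) (inv_mem hx)) (W.swap_A2 hA hP hx hx0 s (W.S2_le hs))

include hY in
theorem sw_S0 {x : G} (hx : x ∈ W.S0 P) : W.sw x ∈ W.S0 P := by
  have h1 := W.mem_S0.1 hx
  refine W.mem_S0.2 ⟨mul_mem (mul_mem (W.t_mem_P hY hP) h1.1) (W.t_mem_P hY hP), fun a ha => ?_⟩
  have h2 := W.S0_A2 hA hP hx _ (W.sw_mem_A2 ha)
  rw [mem_A2, sw_mul, sw_mul, sw_inv, sw_sw] at h2
  exact h2

include hY in
/-- **`C_P(A1 A2) = 1`** -/
theorem cenB {x : G} (hx : x ∈ P) (h1 : ∀ a ∈ W.A1, x * a = a * x) (h2 : ∀ a ∈ W.A2, x * a = a * x) : x = 1 := by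
  by_contra hx1
  let C : Subgroup G := P ⊓ (centralizer (W.A1 : Set G) ⊓ centralizer (W.A2 : Set G))
  have hC : IsPGroup 2 C := hP.P_two.to_le inf_le_left
  have hmem : ∀ {z : G}, z ∈ C ↔ z ∈ P ∧ (∀ a ∈ W.A1, z * a = a * z) ∧ (∀ a ∈ W.A2, z * a = a * z) := by
    intro z
    rw [mem_inf, mem_inf, mem_centralizer_iff, mem_centralizer_iff]
    exact ⟨fun h => ⟨h.1, fun a ha => (h.2.1 a ha).symm, fun a ha => (h.2.2 a ha).symm⟩,
      fun h => ⟨h.1, fun a ha => (h.2.1 a ha).symm, fun a ha => (h.2.2 a ha).symm⟩⟩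
  have htP := W.t_mem_P hY hP
  obtain ⟨c, hc, hc1, hct⟩ := exists_fix hC (hmem.2 ⟨hx, h1, h2⟩) hx1 W.tt (by
    intro c hc
    obtain ⟨hcP, hc1, hc2⟩ := hmem.1 hc
    refine hmem.2 ⟨mul_mem (mul_mem htP hcP) htP, fun a ha => ?_, fun a ha => ?_⟩
    · have h3 := hc2 _ (W.sw_mem_A2 ha)
      have h4 := congrArg W.sw h3
      rw [sw_mul, sw_mul, sw_sw] at h4
      exact h4
    · have h3 := hc1 _ ha
      have h4 := congrArg W.sw h3
      rw [sw_mul, sw_mul] at h4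
      have e : W.sw (W.swHom a) = a := W.sw_sw a
      rw [e] at h4
      exact h4)
  obtain ⟨hcP, hcA, -⟩ := hmem.1 hc
  obtain ⟨k, hk, o, ho, e⟩ := hA.hCZ c hct (by
    intro z hz
    have hzA := W.S1_le (W.Ma_le (W.Z_Ma hz))
    have h3 := hcA z hzA
    have h4 : c * W.sw z = W.sw z * c := (hmem.1 hc).2.2 _ (W.sw_mem_A2 hzA)
    calc c * (z * W.sw z) = (c * z) * W.sw z := by group
      _ = z * (c * W.sw z) := by rw [h3]; group
      _ = z * W.sw z * c := by rw [h4]; group)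
  -- `o` is a 2-element, hence trivial
  have hok : o * k = k * o := by
    obtain ⟨a, ha, rfl | rfl⟩ := hk
    · have e1 := hA.O_A o ho a (W.S1_le ha)
      have e2 : o * W.sw a = W.sw a * o := by
        have h5 := congrArg W.sw (hA.O_A o ho a (W.S1_le ha))
        have h6 : W.sw o = o := by
          show W.t * o * W.t = o
          rw [← hA.O_t o ho, mul_assoc, W.tt, mul_one]
        rw [sw_mul, sw_mul, h6] at h5
        exact h5
      calc o * (a * W.sw a) = (o * a) * W.sw a := by group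
        _ = a * (o * W.sw a) := by rw [e1]; group
        _ = a * W.sw a * o := by rw [e2]; group
    · have e1 := hA.O_A o ho a (W.S1_le ha)
      have e2 : o * W.sw a = W.sw a * o := by
        have h5 := congrArg W.sw (hA.O_A o ho a (W.S1_le ha))
        have h6 : W.sw o = o := by
          show W.t * o * W.t = o
          rw [← hA.O_t o ho, mul_assoc, W.tt, mul_one]
        rw [sw_mul, sw_mul, h6] at h5
        exact h5
      calc o * (a * W.sw a * W.t) = (o * a) * W.sw a * W.t := by group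
        _ = a * (o * W.sw a) * W.t := by rw [e1]; group
        _ = a * W.sw a * (o * W.t) := by rw [e2]; group
        _ = a * W.sw a * W.t * o := by rw [hA.O_t o ho]; group
  have hkP : k ∈ P := hP.T0_le (hY.K_le hk)
  have hoP : o ∈ P := by
    have : o = k⁻¹ * c := by rw [e]; group
    rw [this]; exact mul_mem (inv_mem hkP) hcP
  have ho1 : o = 1 := by
    have h3 : orderOf o ∣ Nat.card O := Subgroup.orderOf_dvd_natCard _ ho
    obtain ⟨n, hn⟩ := (IsPGroup.iff_orderOf.1 hP.P_two) ⟨o, hoP⟩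
    rw [Subgroup.orderOf_mk] at hn
    rcases Nat.eq_zero_or_pos n with h0 | h0
    · rw [h0, pow_zero] at hn
      exact orderOf_eq_one_iff.1 hn
    · exfalso
      have h4 : 2 ∣ Nat.card O := (dvd_pow_self 2 h0.ne').trans (hn ▸ h3)
      exact (Nat.not_even_iff_odd.2 hA.O_odd) (even_iff_two_dvd.2 h4)
  rw [ho1, mul_one] at e
  rw [← e] at hk
  obtain ⟨a, ha, rfl | rfl⟩ := hk
  · -- `a` centralises `A1`
    have ha1 : a = 1 := by
      refine W.centre a ha fun b hb => ?_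
      have h3 := hcA b hb
      have h4 : a * b * W.sw a = b * a * W.sw a := by
        calc a * b * W.sw a = a * (W.sw a * b) := by rw [← W.comm_sw hb (W.S1_le ha)]; group
          _ = b * a * W.sw a := by rw [← mul_assoc, h3]; group
      exact mul_right_cancel h4
    apply hc1
    rw [ha1, sw_one, mul_one]
  · obtain ⟨s, hs, hs1⟩ := W.exists_S1
    apply hs1
    -- `s = (c s c⁻¹) ∈ A2`
    refine W.centre s hs fun b hb => ?_
    have h3 := hcA b hb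
    have h5 : b ∈ W.A2 := by
      have e3 : b = W.sw (a * b * a⁻¹) := by
        have e4 : a * W.sw a * W.t * b * (a * W.sw a * W.t)⁻¹ = b := by rw [h3]; group
        calc b = a * W.sw a * W.t * b * (a * W.sw a * W.t)⁻¹ := e4.symm
          _ = a * (W.sw a * (W.t * b * W.t⁻¹) * (W.sw a)⁻¹) * a⁻¹ := by group
          _ = a * W.sw (a * b * a⁻¹) * a⁻¹ := by rw [W.sw_eq, sw_mul, sw_mul, sw_inv]
          _ = W.sw (a * b * a⁻¹) * a * a⁻¹ := by
            rw [W.comm_sw (W.S1_le ha) (mul_mem (mul_mem (W.S1_le ha) hb) (inv_mem (W.S1_le ha)))]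
          _ = W.sw (a * b * a⁻¹) := by group
      rw [e3]
      exact W.sw_mem_A2 (mul_mem (mul_mem (W.S1_le ha) hb) (inv_mem (W.S1_le ha)))
    exact W.comm' (W.S1_le hs) h5

end Wr

end Cfsg.Agent.StdSpFour.SplitA
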