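import Cfsg.Agent.StdSpFour.SplitA.Types

set_option autoImplicit false
set_option linter.unusedSectionVars false

/-!
# (F1): no conjugate of `t` lies in `S0`
-/

namespace Cfsg.Agent.StdSpFour.SplitA

open Subgroup
open scoped commutatorElement

section General

variable {G : Type*} [Group G]

theorem exists_adj {X0 : Subgroup G} (h : ∀ x ∈ X0, x * x = 1) {v : G} (hv : v * v = 1) (hc : ∀ x ∈ X0, x * v = v * x) :
    ∃ X : Subgroup G, X0 ≤ X ∧ v ∈ X ∧ (∀ x ∈ X, x * x = 1) ∧ (∀ x ∈ X, x * v = v * x) := by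
  have hvi : v⁻¹ = v := inv_eq_of_mul_eq_one_right hv
  refine ⟨⟨⟨⟨{x | x ∈ X0 ∨ x * v ∈ X0}, ?_⟩, Or.inl (one_mem _)⟩, ?_⟩, fun x hx => Or.inl hx, Or.inr ?_, ?_, ?_⟩
  · rintro a b (ha | ha) (hb | hb)
    · exact Or.inl (mul_mem ha hb)
    · right; rw [mul_assoc]; exact mul_mem ha hb
    · right
      have e : a * b * v = (a * v) * b := by rw [mul_assoc, hc b hb, ← mul_assoc]
      rw [e]; exact mul_mem ha hb
    · left
      have e : a * b = (a * v) * (b * v) := by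
        have h1 := hc _ hb
        calc a * b = a * b * (v * v) := by rw [hv, mul_one]
          _ = a * (b * v * v) := by group
          _ = a * (v * (b * v)) := by rw [h1]
          _ = (a * v) * (b * v) := by group
      rw [e]; exact mul_mem ha hb
  · rintro a (ha | ha)
    · exact Or.inl (inv_mem ha)
    · right
      have e : a⁻¹ * v = (a * v)⁻¹ := by
        have h1 := hc _ ha
        have h2 : a * v = v * a := by
          have : (a * v) * v = v * (a * v) := h1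
          have h3 : a = v * a * v := by
            calc a = a * v * v := by rw [mul_assoc, hv, mul_one]
              _ = v * (a * v) := this
              _ = v * a * v := by group
          calc a * v = v * a * v * v := by rw [← h3]
            _ = v * a := by rw [mul_assoc, hv, mul_one]
        rw [h2, mul_inv_rev, hvi]
      show a⁻¹ * v ∈ X0
      rw [e]; exact inv_mem ha
  · rw [hv]; exact one_mem _
  · rintro x (hx | hx)
    · exact h x hx
    · have h1 := h _ hx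
      have h2 := hc _ hx
      have h3 : x * v = v * x := by
        have h4 : x = v * x * v := by
          calc x = x * v * v := by rw [mul_assoc, hv, mul_one]
            _ = v * (x * v) := h2
            _ = v * x * v := by group
        calc x * v = v * x * v * v := by rw [← h4]
          _ = v * x := by rw [mul_assoc, hv, mul_one]
      calc x * x = x * (v * v) * x := by rw [hv]; group
        _ = x * v * (v * x) := by group
        _ = x * v * (x * v) := by rw [h3]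
        _ = 1 := h1
  · rintro x (hx | hx)
    · exact hc x hx
    · have h2 := hc _ hx
      have h4 : x = v * x * v := by
        calc x = x * v * v := by rw [mul_assoc, hv, mul_one]
          _ = v * (x * v) := h2
          _ = v * x * v := by group
      calc x * v = v * x * v * v := by rw [← h4]
        _ = v * x := by rw [mul_assoc, hv, mul_one]

end General

namespace Wr

universe u

variable {G : Type u} [Group G] (W : Wr G)

variable {T0 P O : Subgroup G} {y : G}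

/-- the elementary abelian subgroup containing an involution of `S1` -/
theorem exM {s : G} (hs : s ∈ W.S1) (hss : s * s = 1) : ∃ M : Subgroup G, M ≤ W.S1 ∧ Nat.card M = W.q ^ 3 ∧
    (∀ m ∈ M, m * m = 1) ∧ (∀ m ∈ M, s * m = m * s) := by
  rcases W.invM s hs hss with h | h
  · exact ⟨W.Ma, W.Ma_le, W.cardMa, W.sqMa, fun m hm => el_comm W.sqMa h hm⟩
  · exact ⟨W.Mb, W.Mb_le, W.cardMb, W.sqMb, fun m hm => el_comm W.sqMb h hm⟩

/-- the fourth power of an element of `S1` -/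
theorem sq_mem_Z {s : G} (hs : s ∈ W.S1) : s * s ∈ W.Z := by
  obtain ⟨a, ha, b, hb, rfl⟩ := W.sup s hs
  have h1 : a * b * (a * b) = ⁅a, b⁆ := by
    rw [commutatorElement_def, inv_of_sq (W.sqMa a ha), inv_of_sq (W.sqMb b hb)]; group
  rw [h1]
  exact W.comm_le a (W.Ma_le ha) b (W.Mb_le hb)

theorem pow4 {s : G} (hs : s ∈ W.S1) : s ^ 4 = 1 := by
  have h1 := W.sqMa _ (W.Z_Ma (W.sq_mem_Z hs))
  calc s ^ 4 = s * s * (s * s) := by rw [show (4 : ℕ) = 2 + 2 from rfl, pow_add, pow_two]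
    _ = 1 := h1

theorem pow4T {x : G} (hx : x ∈ W.T) : x ^ 4 = 1 := by
  obtain ⟨a, ha, b, hb, rfl⟩ := W.mem_T'.1 hx
  have hc : Commute a (W.sw b) := W.comm_sw (W.S1_le ha) (W.S1_le hb)
  have h2 : (W.sw b) ^ 4 = 1 := by
    have : W.swHom (b ^ 4) = 1 := by rw [W.pow4 hb, map_one]
    rw [map_pow] at this
    exact this
  rw [hc.mul_pow, W.pow4 ha, h2, one_mul]

/-- the product of `H ≤ S1` and `H' ^ t`, `H' ≤ S1` -/
def pp (H H' : Subgroup G) (h : H ≤ W.S1) (h' : H' ≤ W.S1) : Subgroup G :=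
  W.prod H (H'.comap W.swHom) (fun _ hx => W.S1_le (h hx)) (fun _ hx => W.S1_le (h' hx))

theorem mem_pp {H H' : Subgroup G} {h : H ≤ W.S1} {h' : H' ≤ W.S1} {x : G} :
    x ∈ W.pp H H' h h' ↔ ∃ a ∈ H, ∃ b ∈ H', x = a * W.sw b := by
  constructor
  · rintro ⟨a, ha, b, hb, rfl⟩
    exact ⟨a, ha, W.sw b, hb, by rw [sw_sw]⟩
  · rintro ⟨a, ha, b, hb, rfl⟩
    refine ⟨a, ha, W.sw b, ?_, rfl⟩
    show W.sw (W.sw b) ∈ H'
    rw [sw_sw]; exact hb

theorem pp_le_T {H H' : Subgroup G} {h : H ≤ W.S1} {h' : H' ≤ W.S1} : W.pp H H' h h' ≤ W.T := by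
  intro x hx
  obtain ⟨a, ha, b, hb, rfl⟩ := W.mem_pp.1 hx
  exact W.mem_T'.2 ⟨a, h ha, b, h' hb, rfl⟩

theorem card_pp [Finite G] {H H' : Subgroup G} {h : H ≤ W.S1} {h' : H' ≤ W.S1} :
    Nat.card (W.pp H H' h h') = Nat.card H * Nat.card H' := by
  rw [← Nat.card_prod]
  refine (Nat.card_congr (Equiv.ofBijective
    (fun p : H × H' => (⟨(p.1 : G) * W.sw p.2, W.mem_pp.2 ⟨_, p.1.2, _, p.2.2, rfl⟩⟩ : W.pp H H' h h')) ⟨?_, ?_⟩)).symm
  · rintro ⟨a, b⟩ ⟨c, d⟩ he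
    have h1 : (a : G) * W.sw b = c * W.sw d := congrArg Subtype.val he
    obtain ⟨e1, e2⟩ := W.comp_eq (h a.2) (h' b.2) (h c.2) (h' d.2) h1
    exact Prod.ext (Subtype.ext e1) (Subtype.ext e2)
  · rintro ⟨x, hx⟩
    obtain ⟨a, ha, b, hb, rfl⟩ := W.mem_pp.1 hx
    exact ⟨(⟨a, ha⟩, ⟨b, hb⟩), rfl⟩

theorem pp_sq {H H' : Subgroup G} {h : H ≤ W.S1} {h' : H' ≤ W.S1} (h1 : ∀ x ∈ H, x * x = 1)
    (h2 : ∀ x ∈ H', x * x = 1) : ∀ x ∈ W.pp H H' h h', x * x = 1 := by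
  intro x hx
  obtain ⟨a, ha, b, hb, rfl⟩ := W.mem_pp.1 hx
  rw [W.mul_comp (W.S1_le (h' hb)) (W.S1_le (h ha)), h1 a ha, h2 b hb, sw_one, mul_one]

variable [Finite G]

theorem two_pp (hP : W.Syl T0 y P) {H H' : Subgroup G} {h : H ≤ W.S1} {h' : H' ≤ W.S1} : IsPGroup 2 (W.pp H H' h h') :=
  hP.P_two.to_le (W.pp_le_T.trans hP.T_le)

theorem y_not_I1 (hA : W.Amb O) (hY : W.Outer T0 y) (hP : W.Syl T0 y P) : y ∉ W.I1 P := by
  intro h
  have h1 := W.inter hA hY hP h (by rw [W.sw_y hY]; exact h)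
  obtain ⟨a, ha, b, hb, e⟩ := W.mem_T'.1 h1
  have h2 := W.sw_y hY
  rw [e, sw_mul, sw_sw, ← W.comm_sw (W.S1_le hb) (W.S1_le ha)] at h2
  have h3 := (W.comp_eq hb ha ha hb h2).1
  apply hY.y_not
  rw [e, h3]
  exact W.U_le_K ⟨a, ha, rfl⟩

theorem q_ineq : 4 < W.q ^ 3 := by
  have : 4 ^ 3 ≤ W.q ^ 3 := Nat.pow_le_pow_left W.q4 3
  omega

/-- type `(1, 1)` -/
theorem F1_11 (hY : W.Outer T0 y) {g : G} (hv : g⁻¹ * W.t * g ∈ W.T) : False := by
  have hvv : g⁻¹ * W.t * g * (g⁻¹ * W.t * g) = 1 := by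
    calc g⁻¹ * W.t * g * (g⁻¹ * W.t * g) = g⁻¹ * (W.t * W.t) * g := by group
      _ = 1 := by rw [W.tt]; group
  obtain ⟨a, ha, b, hb, e⟩ := W.mem_T'.1 hv
  rw [e] at hvv
  obtain ⟨ha2, hb2⟩ := W.comp_sq ha hb hvv
  obtain ⟨M, hM, cM, sM, kM⟩ := W.exM ha ha2
  obtain ⟨M', hM', cM', sM', kM'⟩ := W.exM hb hb2
  have h1 := W.rank_conj hY g (E := W.pp M M' hM hM') (W.pp_sq sM sM') (by
    intro x hx
    obtain ⟨c, hc, d, hd, rfl⟩ := W.mem_pp.1 hx
    rw [e, W.mul_comp (W.S1_le (hM' hd)) (W.S1_le ha), W.mul_comp (W.S1_le hb) (W.S1_le (hM hc)), kM c hc, kM' d hd])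
  rw [W.card_pp, cM, cM'] at h1
  have h2 := W.q_ineq
  have h3 : W.q ^ 3 ≤ 4 := Nat.le_of_mul_le_mul_right h1 (by omega)
  omega

/-- type `(1, s)` -/
theorem F1_1s (hA : W.Amb O) (hY : W.Outer T0 y) (hP : W.Syl T0 y P) {g : G} (h1 : g⁻¹ * W.t * g ∈ W.I1 P)
    (h2 : y * W.sw (g⁻¹ * W.t * g) ∈ W.I1 P) : False := by
  have hvv : g⁻¹ * W.t * g * (g⁻¹ * W.t * g) = 1 := by
    calc g⁻¹ * W.t * g * (g⁻¹ * W.t * g) = g⁻¹ * (W.t * W.t) * g := by group
      _ = 1 := by rw [W.tt]; group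
  obtain ⟨v, hv⟩ : ∃ v, v = g⁻¹ * W.t * g := ⟨_, rfl⟩
  have hrank : ∀ E : Subgroup G, (∀ x ∈ E, x * x = 1) → (∀ x ∈ E, x * v = v * x) → Nat.card E ≤ 4 * W.q ^ 3 := by
    intro E hE hEv
    rw [hv] at hEv
    exact W.rank_conj hY g hE hEv
  rw [← hv] at h1 h2 hvv
  obtain ⟨s, hs, hss, hact⟩ := W.act1 h1 hvv
  have hsv : W.sw v * W.sw v = 1 := by rw [← sw_mul, hvv, sw_one]
  obtain ⟨r, hr, hact2⟩ := W.act2 hY h2 hsv
  obtain ⟨M, hM, cM, sM, kM⟩ := W.exM hs hss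
  let Z0 : Subgroup G := W.Z ⊓ centralizer ({y} : Set G)
  have hZ0 : ∀ {z : G}, z ∈ Z0 ↔ z ∈ W.Z ∧ z * y = y * z := by
    intro z; rw [mem_inf, mem_centralizer_singleton_iff]
  have hZ0S : Z0 ≤ W.S1 := fun z hz => W.Ma_le (W.Z_Ma (hZ0.1 hz).1)
  -- `M` commutes with `v`
  have hMv : ∀ m ∈ M, m * v = v * m := by
    intro m hm
    have h3 := hact m (W.S1_le (hM hm))
    have h4 : v * m * v⁻¹ = m := by rw [h3, kM m hm]; group
    calc m * v = (v * m * v⁻¹) * v := by rw [h4]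
      _ = v * m := by group
  have hZv : ∀ z ∈ Z0, W.sw z * v = v * W.sw z := by
    intro z hz
    have hz' := hZ0.1 hz
    have hrz := W.Zc z hz'.1 r hr
    have hrz' := W.Zc z hz'.1 r⁻¹ (inv_mem hr)
    have h3 := hact2 z (W.S1_le (hZ0S hz))
    have h4 : (r⁻¹ * y * r) * z * (r⁻¹ * y * r)⁻¹ = z := by
      calc (r⁻¹ * y * r) * z * (r⁻¹ * y * r)⁻¹ = r⁻¹ * y * (r * z) * r⁻¹ * y⁻¹ * r := by group
        _ = r⁻¹ * (y * z) * y⁻¹ * r := by rw [← hrz]; group
        _ = r⁻¹ * z * r := by rw [← hz'.2]; group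
        _ = z := by rw [← hrz']; group
    rw [h4] at h3
    have h5 := congrArg W.sw h3
    rw [sw_mul, sw_mul, sw_sw, sw_inv, sw_sw] at h5
    calc W.sw z * v = (v * W.sw z * v⁻¹) * v := by rw [h5]
      _ = v * W.sw z := by group
  obtain ⟨X, hX0, hvX, hXX, hXv⟩ := exists_adj (X0 := W.pp M Z0 hM hZ0S)
    (W.pp_sq sM (fun z hz => W.sqMa z (W.Z_Ma (hZ0.1 hz).1))) hvv (by
      intro x hx
      obtain ⟨m, hm, z, hz, rfl⟩ := W.mem_pp.1 hx
      calc m * W.sw z * v = m * (W.sw z * v) := by group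
        _ = (m * v) * W.sw z := by rw [hZv z hz]; group
        _ = v * (m * W.sw z) := by rw [hMv m hm]; group)
  have hvn : v ∉ W.pp M Z0 hM hZ0S := by
    intro h
    have h3 : W.sw v ∈ W.I1 P := W.T_le_I1 hP (W.sw_T (W.pp_le_T h))
    apply W.y_not_I1 hA hY hP
    have h4 := mul_mem h2 (inv_mem h3)
    rwa [mul_inv_cancel_right] at h4
  have c1 := two_mul_card_le hX0 hvX hvn
  have c2 := hrank X hXX hXv
  rw [W.card_pp, cM] at c1
  have c3 : W.q ≤ Nat.card Z0 := hY.card_Z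
  have c4 : 4 * W.q ^ 3 ≤ W.q ^ 3 * Nat.card Z0 := by
    rw [mul_comm]; exact Nat.mul_le_mul_left _ (W.q4.trans c3)
  have c5 := W.q_ineq
  omega

/-- the centraliser of an outer involution of `T0` in `K` -/
theorem card_cenK (hY : W.Outer T0 y) {w : G} (hw : w ∈ T0) (hw0 : w ∉ W.K) (hww : w * w = 1) :
    Nat.card (W.K ⊓ centralizer ({w} : Set G) : Subgroup G) ≤ 2 * W.q ^ 2 := by
  have hyi := inv_of_sq hY.yy
  -- `w = y u t^i`
  have h1 : y * w ∈ W.K := W.cyc2 hY hY.y_mem hw hY.y_not hw0 (by rw [hY.yy]; exact one_mem _) (by rw [hww]; exact one_mem _)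
  have hyt := hY.T0_t y hY.y_mem
  have hw' : w = y * (y * w) := by rw [← mul_assoc, hY.yy, one_mul]
  -- `∃ u1 ∈ U, w = u1⁻¹ (y t^i) u1`
  have h2 : ∃ c ∈ W.S1, ∃ i : G, (i = 1 ∨ i = W.t) ∧ w = (c * W.sw c)⁻¹ * (y * i) * (c * W.sw c) := by
    have key : ∀ a ∈ W.S1, y * (a * W.sw a) * (y * (a * W.sw a)) = 1 → ∃ c ∈ W.S1,
        y * (a * W.sw a) = (c * W.sw c)⁻¹ * y * (c * W.sw c) := by
      intro a ha h
      have e1 : y * (a * W.sw a) * (y * (a * W.sw a)) = (y * a * (y * a)) * W.sw (y * a * (y * a)) := by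
        have hyy := hY.yy
        calc y * (a * W.sw a) * (y * (a * W.sw a)) = y * a * 1 * W.sw a * y * a * W.sw a := by group
          _ = y * a * (y * y) * W.sw a * y * a * W.sw a := by rw [hyy]
          _ = y * a * y * (y * W.sw a * y) * a * W.sw a := by group
          _ = y * a * y * (W.sw (y * a * y) * a) * W.sw a := by rw [W.y_sw hY]; group
          _ = y * a * y * (a * W.sw (y * a * y)) * W.sw a := by
            rw [W.comm_sw (W.S1_le ha) (W.S1_le (hY.yS a ha))]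
          _ = (y * a * (y * a)) * (W.sw (y * a * y) * W.sw a) := by group
          _ = _ := by rw [← sw_mul]; group
      rw [e1] at h
      have hya : y * a * (y * a) ∈ W.S1 := by
        have : y * a * (y * a) = (y * a * y) * a := by group
        rw [this]; exact mul_mem (hY.yS a ha) ha
      obtain ⟨h1, -⟩ := W.comp_eq hya hya (one_mem _) (one_mem _) (h.trans (by rw [sw_one, mul_one]))
      obtain ⟨c, hc, ec⟩ := hY.h90 a ha h1
      refine ⟨c, hc, ?_⟩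
      have ed' : y * W.sw a = (W.sw c)⁻¹ * y * W.sw c := by
        have := congrArg W.sw ec
        rw [sw_mul, sw_mul, sw_mul, sw_inv, W.sw_y hY] at this
        exact this
      calc y * (a * W.sw a) = y * (W.sw a * a) := by rw [W.comm_sw (W.S1_le ha) (W.S1_le ha)]
        _ = (W.sw c)⁻¹ * y * (W.sw c * a) := by rw [← mul_assoc, ed']; group
        _ = (W.sw c)⁻¹ * y * (a * W.sw c) := by rw [W.comm_sw (W.S1_le ha) (W.S1_le hc)]
        _ = (W.sw c)⁻¹ * (y * a) * W.sw c := by group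
        _ = (W.sw c)⁻¹ * (c⁻¹ * y * c) * W.sw c := by rw [ec]
        _ = (c * W.sw c)⁻¹ * y * (c * W.sw c) := by group
    obtain ⟨a, ha, e | e⟩ := h1
    · rw [e] at hw'
      rw [hw'] at hww
      obtain ⟨c, hc, ec⟩ := key a ha hww
      exact ⟨c, hc, 1, Or.inl rfl, by rw [hw', ec, mul_one]⟩
    · rw [e] at hw'
      have hat := W.diag_comm (W.S1_le ha)
      have e3 : w * w = y * (a * W.sw a) * (y * (a * W.sw a)) := by
        rw [hw']
        calc y * (a * W.sw a * W.t) * (y * (a * W.sw a * W.t))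
            = y * (a * W.sw a) * (W.t * y) * (a * W.sw a) * W.t := by group
          _ = y * (a * W.sw a) * y * (W.t * (a * W.sw a)) * W.t := by rw [← hyt]; group
          _ = y * (a * W.sw a) * y * (a * W.sw a) * (W.t * W.t) := by rw [← hat]; group
          _ = _ := by rw [W.tt]; group
      rw [e3] at hww
      obtain ⟨c, hc, ec⟩ := key a ha hww
      refine ⟨c, hc, W.t, Or.inr rfl, ?_⟩
      have hct := W.diag_comm (W.S1_le hc)
      calc w = y * (a * W.sw a) * W.t := by rw [hw']; group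
        _ = (c * W.sw c)⁻¹ * y * ((c * W.sw c) * W.t) := by rw [ec]; group
        _ = (c * W.sw c)⁻¹ * (y * W.t) * (c * W.sw c) := by rw [hct]; group
  obtain ⟨c, hc, i, hi, hwe⟩ := h2
  have hU : c * W.sw c ∈ W.U := ⟨c, hc, rfl⟩
  -- count
  let C1 : Subgroup G := W.S1 ⊓ centralizer ({y} : Set G)
  have hcard : Nat.card C1 = W.q ^ 2 := hY.card_cen
  have hC1 : ∀ {x : G}, x ∈ C1 ↔ x ∈ W.S1 ∧ x * y = y * x := by
    intro x; rw [mem_inf, mem_centralizer_singleton_iff]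
  -- map `K ∩ C(w) → C1 × Bool`
  have hx : ∀ x : (W.K ⊓ centralizer ({w} : Set G) : Subgroup G), ∃ p : C1 × Bool,
      (c * W.sw c) * x * (c * W.sw c)⁻¹ = (p.1 : G) * W.sw p.1 * (if p.2 then W.t else 1) := by
    rintro ⟨x, hxK, hxw0⟩
    have hxw : x * w = w * x := mem_centralizer_singleton_iff.1 hxw0
    have hcomm : ((c * W.sw c) * x * (c * W.sw c)⁻¹) * (y * i) = (y * i) * ((c * W.sw c) * x * (c * W.sw c)⁻¹) := by
      have e1 : y * i = (c * W.sw c) * w * (c * W.sw c)⁻¹ := by rw [hwe]; group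
      rw [e1]
      calc ((c * W.sw c) * x * (c * W.sw c)⁻¹) * ((c * W.sw c) * w * (c * W.sw c)⁻¹)
          = (c * W.sw c) * (x * w) * (c * W.sw c)⁻¹ := by group
        _ = (c * W.sw c) * (w * x) * (c * W.sw c)⁻¹ := by rw [hxw]
        _ = _ := by group
    have hK : (c * W.sw c) * x * (c * W.sw c)⁻¹ ∈ W.K :=
      mul_mem (mul_mem (W.U_le_K hU) hxK) (inv_mem (W.U_le_K hU))
    have hKt := W.K_comm hK
    obtain ⟨z, hz⟩ : ∃ z, z = (c * W.sw c) * x * (c * W.sw c)⁻¹ := ⟨_, rfl⟩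
    show ∃ p : C1 × Bool, (c * W.sw c) * x * (c * W.sw c)⁻¹ = _
    rw [← hz] at hcomm hK hKt ⊢
    have hzy : z * y = y * z := by
      rcases hi with rfl | rfl
      · simpa using hcomm
      · have e2 : z * y * W.t = y * z * W.t := by
          calc z * y * W.t = z * (y * W.t) := by group
            _ = y * (W.t * z) := by rw [hcomm]; group
            _ = y * z * W.t := by rw [← hKt]; group
        exact mul_right_cancel e2
    obtain ⟨a, ha, hza⟩ := hK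
    have hay : a * y = y * a := by
      have e3 : a * W.sw a * y = y * (a * W.sw a) := by
        rcases hza with rfl | rfl
        · exact hzy
        · have e4 : a * W.sw a * y * W.t = y * (a * W.sw a) * W.t := by
            calc a * W.sw a * y * W.t = a * W.sw a * (W.t * y) := by rw [← hyt]; group
              _ = y * (a * W.sw a) * W.t := by rw [← mul_assoc, hzy]; group
          exact mul_right_cancel e4
      -- components
      have e5 : (y * a * y) * W.sw (y * a * y) = a * W.sw a := by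
        rw [← W.y_sw hY]
        calc y * a * y * (y * W.sw a * y) = y * a * (y * y) * W.sw a * y := by group
          _ = y * (a * W.sw a) * y := by rw [hY.yy]; group
          _ = a * W.sw a * (y * y) := by rw [← e3]; group
          _ = a * W.sw a := by rw [hY.yy, mul_one]
      have e6 := (W.comp_eq (hY.yS a ha) (hY.yS a ha) ha ha e5).1
      calc a * y = (y * a * y) * y := by rw [e6]
        _ = y * a * (y * y) := by group
        _ = y * a := by rw [hY.yy, mul_one]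
    rcases hza with rfl | rfl
    · exact ⟨(⟨a, hC1.2 ⟨ha, hay⟩⟩, false), by simp⟩
    · exact ⟨(⟨a, hC1.2 ⟨ha, hay⟩⟩, true), by simp⟩
  choose f hf using hx
  have hinj : Function.Injective f := by
    intro a b hab
    apply Subtype.ext
    have h3 : (c * W.sw c) * a * (c * W.sw c)⁻¹ = (c * W.sw c) * b * (c * W.sw c)⁻¹ := by rw [hf a, hf b, hab]
    exact mul_left_cancel (mul_right_cancel h3)
  calc Nat.card (W.K ⊓ centralizer ({w} : Set G) : Subgroup G) ≤ Nat.card (C1 × Bool) :=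
        Nat.card_le_card_of_injective f hinj
    _ = 2 * W.q ^ 2 := by rw [Nat.card_prod, hcard, Nat.card_eq_fintype_card (α := Bool), Fintype.card_bool, mul_comm]

/-- the centraliser of `y` in `S1` -/
def C1 (y : G) : Subgroup G := W.S1 ⊓ centralizer ({y} : Set G)

theorem mem_C1 {x : G} : x ∈ W.C1 y ↔ x ∈ W.S1 ∧ x * y = y * x := by
  rw [C1, mem_inf, mem_centralizer_singleton_iff]

theorem C1_le : W.C1 y ≤ W.S1 := inf_le_left

/-- `C_T(y)` -/
def CT (y : G) : Subgroup G := W.pp (W.C1 y) (W.C1 y) W.C1_le W.C1_le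

theorem sw_CT {x : G} (hx : x ∈ W.CT y) : W.sw x ∈ W.CT y := by
  obtain ⟨a, ha, b, hb, rfl⟩ := W.mem_pp.1 hx
  refine W.mem_pp.2 ⟨b, hb, a, ha, ?_⟩
  rw [sw_mul, sw_sw, W.comm_sw (W.S1_le hb.1) (W.S1_le ha.1)]

theorem CT_comm (hY : W.Outer T0 y) {x : G} (hx : x ∈ W.CT y) : x * y = y * x := by
  obtain ⟨a, ha, b, hb, rfl⟩ := W.mem_pp.1 hx
  have h1 := (W.mem_C1.1 ha).2
  have h2 : W.sw b * y = y * W.sw b := by
    have := congrArg W.sw (W.mem_C1.1 hb).2
    rwa [sw_mul, sw_mul, W.sw_y hY] at this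
  calc a * W.sw b * y = (a * y) * W.sw b := by rw [mul_assoc, h2, ← mul_assoc]
    _ = y * (a * W.sw b) := by rw [h1]; group

theorem y_not_T (hA : W.Amb O) (hY : W.Outer T0 y) (hP : W.Syl T0 y P) : y ∉ W.T :=
  fun h => W.y_not_I1 hA hY hP (W.T_le_I1 hP h)

/-- step a -/
theorem F1_a (hA : W.Amb O) (hY : W.Outer T0 y) (hP : W.Syl T0 y P) {h : G} (hh : h⁻¹ * y * h = W.t)
    (hin : ∀ x ∈ W.CT y, h⁻¹ * x * h ∈ T0) {w : G} (hw : w ∈ W.C1 y) (hww : w * w = 1) : h⁻¹ * w * h ∈ W.K := by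
  by_contra hn
  have hw1 : w ≠ 1 := by
    rintro rfl
    apply hn
    simp
  obtain ⟨hwS, hwy⟩ := W.mem_C1.1 hw
  have hwT : w ∈ W.CT y := W.mem_pp.2 ⟨w, hw, 1, one_mem _, by rw [sw_one, mul_one]⟩
  have hww' : h⁻¹ * w * h * (h⁻¹ * w * h) = 1 := by
    calc h⁻¹ * w * h * (h⁻¹ * w * h) = h⁻¹ * (w * w) * h := by group
      _ = 1 := by rw [hww]; group
  have c1 := W.card_cenK hY (hin w hwT) hn hww'
  -- `V = C_{C1}(w) C2`
  let D : Subgroup G := W.S1 ⊓ centralizer ({y} : Set G) ⊓ centralizer ({w} : Set G)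
  have hD : D ≤ W.S1 := inf_le_left.trans inf_le_left
  have hD1 : D ≤ W.C1 y := inf_le_left
  have hDw : ∀ x ∈ D, x * w = w * x := fun x hx => mem_centralizer_singleton_iff.1 hx.2
  have c2 : 8 ≤ Nat.card D := hY.eight w hwS hwy hww hw1
  let V : Subgroup G := W.pp D (W.C1 y) hD W.C1_le
  have hVC : V ≤ W.CT y := by
    intro x hx
    obtain ⟨a, ha, b, hb, rfl⟩ := W.mem_pp.1 hx
    exact W.mem_pp.2 ⟨a, hD1 ha, b, hb, rfl⟩
  have hVw : ∀ x ∈ V, x * w = w * x := by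
    intro x hx
    obtain ⟨a, ha, b, hb, rfl⟩ := W.mem_pp.1 hx
    calc a * W.sw b * w = a * (w * W.sw b) := by rw [mul_assoc, ← W.comm_sw (W.S1_le hwS) (W.S1_le hb.1)]
      _ = w * (a * W.sw b) := by rw [← mul_assoc, hDw a ha]; group
  have c3 : Nat.card V = Nat.card D * W.q ^ 2 := by
    rw [W.card_pp]
    have : Nat.card (W.C1 y) = W.q ^ 2 := hY.card_cen
    rw [this]
  let V' : Subgroup G := V.map (MulAut.conj h⁻¹).toMonoidHom
  have hV' : ∀ {x : G}, x ∈ V' ↔ ∃ z ∈ V, h⁻¹ * z * h = x := by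
    intro x
    constructor
    · rintro ⟨z, hz, rfl⟩
      exact ⟨z, hz, by show h⁻¹ * z * h = h⁻¹ * z * h⁻¹⁻¹; rw [inv_inv]⟩
    · rintro ⟨z, hz, rfl⟩
      exact ⟨z, hz, by show h⁻¹ * z * h⁻¹⁻¹ = h⁻¹ * z * h; rw [inv_inv]⟩
  have c4 : Nat.card V' = Nat.card V :=
    (Nat.card_congr (V.equivMapOfInjective (MulAut.conj h⁻¹).toMonoidHom (MulAut.conj h⁻¹).injective).toEquiv).symm
  have c5 := W.cyc4 hY (V := V') (by
    intro x hx
    obtain ⟨z, hz, rfl⟩ := hV'.1 hx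
    exact hin z (hVC hz)) (by
    intro x hx
    obtain ⟨z, hz, rfl⟩ := hV'.1 hx
    have e : (h⁻¹ * z * h) ^ 4 = h⁻¹ * z ^ 4 * h := by
      have := conj_pow (i := 4) (a := h⁻¹) (b := z)
      rwa [inv_inv] at this
    rw [e, W.pow4T (W.pp_le_T hz)]
    simp)
  have c6 : 2 * Nat.card (V' ⊓ W.K : Subgroup G) ≤
      Nat.card (W.K ⊓ centralizer ({h⁻¹ * w * h} : Set G) : Subgroup G) := by
    refine two_mul_card_le (u := W.t) ?_ ?_ ?_
    · intro x hx
      refine ⟨hx.2, ?_⟩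
      obtain ⟨z, hz, rfl⟩ := hV'.1 hx.1
      refine mem_centralizer_singleton_iff.2 ?_
      calc h⁻¹ * z * h * (h⁻¹ * w * h) = h⁻¹ * (z * w) * h := by group
        _ = h⁻¹ * (w * z) * h := by rw [hVw z hz]
        _ = h⁻¹ * w * h * (h⁻¹ * z * h) := by group
    · refine ⟨W.t_mem_K, mem_centralizer_singleton_iff.2 ?_⟩
      rw [← hh]
      calc h⁻¹ * y * h * (h⁻¹ * w * h) = h⁻¹ * (y * w) * h := by group
        _ = h⁻¹ * (w * y) * h := by rw [hwy]
        _ = h⁻¹ * w * h * (h⁻¹ * y * h) := by group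
    · intro hx
      obtain ⟨z, hz, e⟩ := hV'.1 hx.1
      rw [← hh] at e
      have e2 : z = y := mul_left_cancel (mul_right_cancel e)
      rw [e2] at hz
      exact W.y_not_T hA hY hP (W.pp_le_T hz)
  have c7 : 16 ≤ W.q ^ 2 := by
    have : 4 ^ 2 ≤ W.q ^ 2 := Nat.pow_le_pow_left W.q4 2
    omega
  rw [c4, c3] at c5
  have c8 : 8 * W.q ^ 2 ≤ Nat.card D * W.q ^ 2 := Nat.mul_le_mul_right _ c2
  omega

/-- step b -/
theorem F1_b (hA : W.Amb O) (hY : W.Outer T0 y) (hP : W.Syl T0 y P) {h : G} (hh : h⁻¹ * y * h = W.t)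
    (hin : ∀ x ∈ W.CT y, h⁻¹ * x * h ∈ T0) : ∃ x ∈ W.C1 y, x * x ≠ 1 ∧ h⁻¹ * x * h ∈ W.K := by
  obtain ⟨g1, hg1, g2, hg2, h1, h2, h12, hcase⟩ := hY.four
  have m1 : g1 ∈ W.C1 y := W.mem_C1.2 ⟨hg1, h1⟩
  have m2 : g2 ∈ W.C1 y := W.mem_C1.2 ⟨hg2, h2⟩
  have hmul : ∀ a b : G, h⁻¹ * (a * b) * h = (h⁻¹ * a * h) * (h⁻¹ * b * h) := by intro a b; group
  rcases hcase with ⟨e1, e2⟩ | ⟨e1, e2⟩
  · refine ⟨g1 * g2, mul_mem m1 m2, h12, ?_⟩
    rw [hmul]
    exact mul_mem (W.F1_a hA hY hP hh hin m1 e1) (W.F1_a hA hY hP hh hin m2 e2)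
  · by_cases k1 : h⁻¹ * g1 * h ∈ W.K
    · exact ⟨g1, m1, e1, k1⟩
    by_cases k2 : h⁻¹ * g2 * h ∈ W.K
    · exact ⟨g2, m2, e2, k2⟩
    refine ⟨g1 * g2, mul_mem m1 m2, h12, ?_⟩
    have hT : ∀ {a : G}, a ∈ W.C1 y → h⁻¹ * a * h ∈ T0 := by
      intro a ha
      exact hin a (W.mem_pp.2 ⟨a, ha, 1, one_mem _, by rw [sw_one, mul_one]⟩)
    have h4 : ∀ a ∈ W.C1 y, h⁻¹ * a * h * (h⁻¹ * a * h) ∈ W.K := by
      intro a ha
      rw [← hmul]
      refine W.F1_a hA hY hP hh hin (mul_mem ha ha) ?_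
      have := W.pow4 (W.C1_le ha)
      rw [show (4 : ℕ) = 2 + 2 from rfl, pow_add, pow_two] at this
      exact this
    rw [hmul]
    exact W.cyc2 hY (hT m1) (hT m2) k1 k2 (h4 _ m1) (h4 _ m2)

/-- type `(s, s)` -/
theorem F1_ss (hA : W.Amb O) (hY : W.Outer T0 y) (hP : W.Syl T0 y P) {g : G} (hg : g⁻¹ * W.t * g = y) : False := by
  obtain ⟨h, hh, hin⟩ := W.into hY g (R := W.CT y) (W.two_pp hP) (by
    intro x hx
    rw [hg]
    exact W.CT_comm hY hx)
  rw [hg] at hh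
  have htt := W.tinv
  have hyt := hY.T0_t y hY.y_mem
  have hh2 : (W.t * h)⁻¹ * y * (W.t * h) = W.t := by
    calc (W.t * h)⁻¹ * y * (W.t * h) = h⁻¹ * (W.t⁻¹ * (y * W.t)) * h := by group
      _ = h⁻¹ * y * h := by rw [hyt]; group
      _ = W.t := hh
  have hin2 : ∀ x ∈ W.CT y, (W.t * h)⁻¹ * x * (W.t * h) ∈ T0 := by
    intro x hx
    have := hin _ (W.sw_CT hx)
    have e : (W.t * h)⁻¹ * x * (W.t * h) = h⁻¹ * W.sw x * h := by
      show _ = h⁻¹ * (W.t * x * W.t) * h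
      rw [mul_inv_rev, htt]; group
    rw [e]; exact this
  obtain ⟨x1, hx1, hx1n, k1⟩ := W.F1_b hA hY hP hh hin
  obtain ⟨x2, hx2, hx2n, k2⟩ := W.F1_b hA hY hP hh2 hin2
  have e2 : (W.t * h)⁻¹ * x2 * (W.t * h) = h⁻¹ * W.sw x2 * h := by
    show _ = h⁻¹ * (W.t * x2 * W.t) * h
    rw [mul_inv_rev, htt]; group
  rw [e2] at k2
  have hc : x1 * W.sw x2 = W.sw x2 * x1 := W.comm_sw (W.S1_le hx1.1) (W.S1_le hx2.1)
  obtain ⟨z1, hz1⟩ : ∃ z, z = h⁻¹ * x1 * h := ⟨_, rfl⟩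
  obtain ⟨z2, hz2⟩ : ∃ z, z = h⁻¹ * W.sw x2 * h := ⟨_, rfl⟩
  have hz12 : z1 * z2 = z2 * z1 := by
    rw [hz1, hz2]
    calc h⁻¹ * x1 * h * (h⁻¹ * W.sw x2 * h) = h⁻¹ * (x1 * W.sw x2) * h := by group
      _ = h⁻¹ * (W.sw x2 * x1) * h := by rw [hc]
      _ = _ := by group
  rw [← hz1] at k1
  rw [← hz2] at k2
  -- components of `K`
  have key : ∀ z ∈ W.K, ∃ a ∈ W.S1, ∃ i : G, (i = 1 ∨ i = W.t) ∧ z = a * W.sw a * i := by
    rintro z ⟨a, ha, rfl | rfl⟩
    · exact ⟨a, ha, 1, Or.inl rfl, by rw [mul_one]⟩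
    · exact ⟨a, ha, W.t, Or.inr rfl, rfl⟩
  obtain ⟨a, ha, i, hi, ea⟩ := key z1 k1
  obtain ⟨b, hb, j, hj, eb⟩ := key z2 k2
  have hcen : ∀ i : G, (i = 1 ∨ i = W.t) → i * i = 1 ∧ ∀ c ∈ W.S1, i * (c * W.sw c) = (c * W.sw c) * i := by
    rintro i (rfl | rfl)
    · exact ⟨by group, fun c _ => by group⟩
    · exact ⟨W.tt, fun c hc => (W.diag_comm (W.S1_le hc)).symm⟩
  have hij : i * j = j * i := by
    rcases hi with rfl | rfl
    · group
    · rcases hj with rfl | rfl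
      · group
      · rfl
  have sq : ∀ c ∈ W.S1, ∀ i : G, (i = 1 ∨ i = W.t) → c * W.sw c * i * (c * W.sw c * i) = (c * c) * W.sw (c * c) := by
    intro c hc i hi
    calc c * W.sw c * i * (c * W.sw c * i) = c * W.sw c * (i * (c * W.sw c)) * i := by group
      _ = c * W.sw c * (c * W.sw c) * (i * i) := by rw [(hcen i hi).2 c hc]; group
      _ = c * W.sw c * (c * W.sw c) := by rw [(hcen i hi).1, mul_one]
      _ = _ := W.mul_comp (W.S1_le hc) (W.S1_le hc)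
  have hab : a * b = b * a := by
    have e3 : a * W.sw a * i * (b * W.sw b * j) = (a * b) * W.sw (a * b) * (i * j) := by
      calc a * W.sw a * i * (b * W.sw b * j) = a * W.sw a * (i * (b * W.sw b)) * j := by group
        _ = a * W.sw a * (b * W.sw b) * (i * j) := by rw [(hcen i hi).2 b hb]; group
        _ = _ := by rw [W.mul_comp (W.S1_le ha) (W.S1_le hb)]
    have e4 : b * W.sw b * j * (a * W.sw a * i) = (b * a) * W.sw (b * a) * (i * j) := by
      calc b * W.sw b * j * (a * W.sw a * i) = b * W.sw b * (j * (a * W.sw a)) * i := by group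
        _ = b * W.sw b * (a * W.sw a) * (j * i) := by rw [(hcen j hj).2 a ha]; group
        _ = _ := by rw [W.mul_comp (W.S1_le hb) (W.S1_le ha), hij]
    rw [ea, eb, e3, e4] at hz12
    exact (W.comp_eq (mul_mem ha hb) (mul_mem ha hb) (mul_mem hb ha) (mul_mem hb ha) (mul_right_cancel hz12)).1
  have e5 : z1 * z1 = (a * a) * W.sw (a * a) := by rw [ea, sq a ha i hi]
  have e6 : z2 * z2 = (b * b) * W.sw (b * b) := by rw [eb, sq b hb j hj]
  have hx1' : z1 * z1 = h⁻¹ * (x1 * x1) * h := by rw [hz1]; group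
  have hx2' : z2 * z2 = h⁻¹ * W.sw (x2 * x2) * h := by rw [hz2, sw_mul]; group
  have ha2 : a * a ≠ 1 := by
    intro h0
    apply hx1n
    rw [h0, sw_one, mul_one] at e5
    rw [e5] at hx1'
    have := congrArg (fun z => h * z * h⁻¹) hx1'
    simpa [mul_assoc] using this.symm
  have hb2 : b * b ≠ 1 := by
    intro h0
    apply hx2n
    rw [h0, sw_one, mul_one] at e6
    rw [e6] at hx2'
    have h7 : W.sw (x2 * x2) = 1 := by
      have := congrArg (fun z => h * z * h⁻¹) hx2'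
      simpa [mul_assoc] using this.symm
    rw [← W.sw_sw (x2 * x2), h7, sw_one]
  have hsq := W.sq4 a ha b hb hab ha2 hb2
  rw [hsq, ← e6] at e5
  rw [hx1', hx2'] at e5
  have e7 : x1 * x1 = W.sw (x2 * x2) := mul_left_cancel (mul_right_cancel e5)
  apply hx2n
  refine W.disj _ (mul_mem hx2.1 hx2.1) ?_
  show W.sw (x2 * x2) ∈ W.S1
  rw [← e7]
  exact mul_mem hx1.1 hx1.1

/-- **(F1)** -/
theorem F1 (hA : W.Amb O) (hY : W.Outer T0 y) (hP : W.Syl T0 y P) (g : G) : g⁻¹ * W.t * g ∉ W.S0 P := by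
  intro hv
  have hvv : g⁻¹ * W.t * g * (g⁻¹ * W.t * g) = 1 := by
    calc g⁻¹ * W.t * g * (g⁻¹ * W.t * g) = g⁻¹ * (W.t * W.t) * g := by group
      _ = 1 := by rw [W.tt]; group
  have hsv : W.sw (g⁻¹ * W.t * g) * W.sw (g⁻¹ * W.t * g) = 1 := by rw [← sw_mul, hvv, sw_one]
  rcases W.type1 hP hv hvv with h1 | h1 <;> rcases W.type1 hP (W.sw_S0 hA hY hP hv) hsv with h2 | h2
  · exact W.F1_11 hY (W.inter hA hY hP h1 h2)
  · exact W.F1_1s hA hY hP h1 h2
  · have e : W.sw (g⁻¹ * W.t * g) = (g * W.t)⁻¹ * W.t * (g * W.t) := by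
      show W.t * (g⁻¹ * W.t * g) * W.t = _
      rw [mul_inv_rev, W.tinv]; group
    refine W.F1_1s hA hY hP (g := g * W.t) ?_ ?_
    · rw [← e]; exact h2
    · rw [← e, sw_sw]; exact h1
  · obtain ⟨r, hr, e⟩ := W.conj_y hA hY hP hvv h1 h2
    refine W.F1_ss hA hY hP (g := g * r⁻¹) ?_
    calc (g * r⁻¹)⁻¹ * W.t * (g * r⁻¹) = r * (g⁻¹ * W.t * g) * r⁻¹ := by group
      _ = y := by rw [e]; group

end Wr

end Cfsg.Agent.StdSpFour.SplitA
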