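import Mathlib

/-!
S1778, type Sp₄(q), end of case (A): the facts (Y1)–(Y6) on the outer involution `y`.
-/

set_option autoImplicit false

namespace Cfsg.Agent.StdSpFour.SplitA

open Subgroup

/-- (Y1)–(Y6) -/
structure YFacts {G : Type*} [Group G] (q : ℕ) (U Z : Subgroup G) (y : G) : Prop where
  /-- (Y1) -/
  card_cen : Nat.card (U ⊓ centralizer ({y} : Set G) : Subgroup G) = q ^ 2
  /-- (Y2) -/
  rank_cen : ∀ E : Subgroup G, E ≤ U → (∀ x ∈ E, x * y = y * x) → (∀ x ∈ E, x * x = 1) → 2 * Nat.card E ≤ q ^ 2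
  /-- (Y2'') -/
  four : ∃ g1 ∈ U, ∃ g2 ∈ U, g1 * y = y * g1 ∧ g2 * y = y * g2 ∧
    g1 * g2 * (g1 * g2) ≠ 1 ∧ ((g1 * g1 = 1 ∧ g2 * g2 = 1) ∨ (g1 * g1 ≠ 1 ∧ g2 * g2 ≠ 1))
  /-- (Y3) -/
  h90 : ∀ u ∈ U, y * u * (y * u) = 1 → ∃ v ∈ U, y * u = v⁻¹ * y * v
  /-- (Y5) -/
  eight : ∀ w ∈ U, w * y = y * w → w * w = 1 → w ≠ 1 →
    8 ≤ Nat.card (U ⊓ centralizer ({y} : Set G) ⊓ centralizer ({w} : Set G) : Subgroup G)
  /-- (Y6) -/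
  card_Z : q ≤ Nat.card (Z ⊓ centralizer ({y} : Set G) : Subgroup G)

end Cfsg.Agent.StdSpFour.SplitA
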