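import Cfsg.Agent.StdSpFour.GraphY
import Cfsg.Agent.StdSpFour.SplitA.YFacts

/-!
S1778, type Sp₄(q), end of case (A): `YFacts` for a graph involution.
-/

set_option autoImplicit false

namespace Cfsg.Agent.StdSpFour.GraphY

open Subgroup Env SplitA

variable {F G : Type*} [Field F] [CharP F 2] [Finite F] [Group G] {B : Base F G} {σ : F ≃+* F} {y : G}

theorem yFacts (Y : GraphY B σ y) (hF : 4 ≤ Nat.card F) {U Z : Subgroup G} (hU : ∀ x, x ∈ U ↔ IsU B x)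
    (hZ : ∀ x, x ∈ Z ↔ ∃ m r, x = B.zs m * B.zl r) : YFacts (Nat.card F) U Z y where
  card_cen := Y.card_cent hU
  rank_cen E h1 h2 h3 := Y.card_elem_two hU (le_inf h1 fun x hx => mem_centralizer_singleton_iff.2 (h2 x hx)) h3
  four := by
    obtain ⟨g1, h1, g2, h2, h3, h4, h5⟩ := Y.exists_four hU hF
    exact ⟨g1, h1.1, g2, h2.1, mem_centralizer_singleton_iff.1 h1.2, mem_centralizer_singleton_iff.1 h2.2, h5,
      Or.inr ⟨h3, h4⟩⟩
  h90 u hu h := by
    obtain ⟨w, hw, e⟩ := Y.conj_of_sq hU hu h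
    exact ⟨w⁻¹, inv_mem hw, by rw [inv_inv]; exact e⟩
  eight w hw h1 h2 _ := by
    rw [Y.card_cent_inv hU ⟨hw, mem_centralizer_singleton_iff.2 h1⟩ h2]
    calc 8 ≤ 4 ^ 2 := by norm_num
      _ ≤ Nat.card F ^ 2 := Nat.pow_le_pow_left hF 2
  card_Z := (Y.card_centZ hU hZ).ge

end Cfsg.Agent.StdSpFour.GraphY
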