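import Cfsg.Agent.StdSpFour.SplitA.Uniq

set_option autoImplicit false
set_option linter.unusedSectionVars false

/-!
# (H): `t ^ g ∈ N(A1 A2)` implies `g ∈ N(A1 A2)`
-/

namespace Cfsg.Agent.StdSpFour.SplitA

open Subgroup
open scoped commutatorElement Pointwise

namespace Wr

universe u

variable {G : Type u} [Group G] (W : Wr G)

variable {T0 P O : Subgroup G} {y : G}

/-- the wreath situation for another involution interchanging `A1` and `A2` -/
def swapW (t' : G) (tt' : t' * t' = 1) (h : ∀ a ∈ W.A1, t' * a * t' ∈ W.A2) : Wr G :=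
  { W with
    t := t'
    tt := tt'
    t1 := by
      rintro rfl
      apply W.not_A1_A2
      intro a ha
      have := h a ha
      simpa using this
    comm := fun a ha b hb => W.comm' ha (h b hb)
    disj := by
      intro s hs hs'
      have h1 : t' * s * t' = 1 := by
        refine W.centre _ hs' fun a ha => ?_
        exact (W.comm' ha (h s (W.S1_le hs))).symm
      have hti : t'⁻¹ = t' := inv_eq_of_mul_eq_one_right tt'
      calc s = t' * (t' * s * t') * t' := by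
            calc s = (t' * t') * s * (t' * t') := by rw [tt']; group
              _ = _ := by group
        _ = 1 := by rw [h1, mul_one, tt'] }

variable [Finite G]

/-- 2-subgroups of `A` are conjugate into `U` -/
theorem sylA {R : Subgroup G} (hR : IsPGroup 2 R) (hRA : R ≤ W.A) :
    ∃ a ∈ W.A1, ∀ x ∈ R, (a * W.sw a)⁻¹ * x * (a * W.sw a) ∈ W.U := by
  have : Fact (Nat.Prime 2) := ⟨Nat.prime_two⟩
  let δ : W.A1 →* G :=
    { toFun := fun a => (a : G) * W.sw a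
      map_one' := by rw [OneMemClass.coe_one, sw_one, mul_one]
      map_mul' := fun a b => (W.mul_comp (a := (a : G)) a.2 b.2).symm }
  have hδ : ∀ a : W.A1, δ a = (a : G) * W.sw a := fun _ => rfl
  let L : Subgroup W.A1 := R.comap δ
  let φ : L →* R := (δ.comp L.subtype).codRestrict R (fun a => a.2)
  have hφ : Function.Surjective φ := by
    rintro ⟨x, hx⟩
    obtain ⟨a, ha, e⟩ := hRA hx
    refine ⟨⟨⟨a, ha⟩, ?_⟩, Subtype.ext e.symm⟩
    show a * W.sw a ∈ R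
    rw [← e]; exact hx
  obtain ⟨Q0⟩ : Nonempty (Sylow 2 L) := inferInstance
  have h1 : (Q0 : Subgroup L).map φ = ⊤ := by
    have h2 : (Q0.mapSurjective hφ : Subgroup R) = (Q0 : Subgroup L).map φ := Sylow.coe_mapSurjective hφ Q0
    rw [← h2]
    have h3 : IsPGroup 2 (⊤ : Subgroup R) := hR.of_equiv topEquiv.symm
    exact (Q0.mapSurjective hφ).3 h3 le_top |>.symm
  let Q : Subgroup G := ((Q0 : Subgroup L).map L.subtype).map W.A1.subtype
  have hQ2 : IsPGroup 2 Q := (Q0.isPGroup'.map _).map _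
  obtain ⟨a, ha, haQ⟩ := W.syl Q (by
    rintro _ ⟨x, -, rfl⟩
    exact x.2) hQ2
  refine ⟨a, ha, ?_⟩
  intro x hx
  have h4 : (⟨x, hx⟩ : R) ∈ (Q0 : Subgroup L).map φ := by rw [h1]; exact mem_top _
  obtain ⟨b, hb, e⟩ := h4
  have e1 : ((b : W.A1) : G) * W.sw ((b : W.A1) : G) = x := congrArg Subtype.val e
  have h5 := haQ _ ⟨(b : W.A1), ⟨b, hb, rfl⟩, rfl⟩
  refine ⟨a⁻¹ * (b : W.A1) * a, h5, ?_⟩
  have hbA : ((b : W.A1) : G) ∈ W.A1 := (b : W.A1).2
  rw [← e1]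
  have e2 : (a * W.sw a)⁻¹ = a⁻¹ * W.sw a⁻¹ := by
    rw [mul_inv_rev, ← sw_inv]
    exact (W.comm_sw (inv_mem ha) (inv_mem ha)).symm
  rw [e2, W.mul_comp (inv_mem ha) hbA, W.mul_comp (mul_mem (inv_mem ha) hbA) ha]

/-- the main step -/
theorem conj_B (hA : W.Amb O) (hY : W.Outer T0 y) (hP : W.Syl T0 y P) {g : G}
    (h12 : ∀ a ∈ W.A1, (g⁻¹ * W.t * g) * a * (g⁻¹ * W.t * g) ∈ W.A2) : ∀ x ∈ W.B, g⁻¹ * x * g ∈ W.B := by
  have : Fact (Nat.Prime 2) := ⟨Nat.prime_two⟩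
  obtain ⟨t', ht'⟩ : ∃ t', t' = g⁻¹ * W.t * g := ⟨_, rfl⟩
  rw [← ht'] at h12
  have tt' : t' * t' = 1 := by
    rw [ht']
    calc g⁻¹ * W.t * g * (g⁻¹ * W.t * g) = g⁻¹ * (W.t * W.t) * g := by group
      _ = 1 := by rw [W.tt]; group
  have hgt : g * t' * g⁻¹ = W.t := by rw [ht']; group
  let W' : Wr G := W.swapW t' tt' h12
  have hS' : W'.S1 = W.S1 := rfl
  have hA' : W'.A1 = W.A1 := rfl
  have hsw' : ∀ x, W'.sw x = t' * x * t' := fun _ => rfl
  -- the homomorphism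
  let f : W.A1 →* G :=
    { toFun := fun a => g * ((a : G) * W'.sw a) * g⁻¹
      map_one' := by rw [OneMemClass.coe_one, sw_one]; group
      map_mul' := fun a b => by
        have e := W'.mul_comp (a := (a : G)) (b := (a : G)) (c := (b : G)) (d := (b : G)) a.2 b.2
        show g * ((a : G) * b * W'.sw ((a : G) * b)) * g⁻¹ = g * ((a : G) * W'.sw a) * g⁻¹ * (g * ((b : G) * W'.sw b) * g⁻¹)
        rw [← e]; group }
  have hf1 : ∀ a, f a * W.t = W.t * f a := by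
    intro a
    have h1 : (a : G) * W'.sw a * t' = t' * ((a : G) * W'.sw a) := W'.diag_comm a.2
    show g * ((a : G) * W'.sw a) * g⁻¹ * W.t = W.t * (g * ((a : G) * W'.sw a) * g⁻¹)
    rw [← hgt]
    calc g * ((a : G) * W'.sw a) * g⁻¹ * (g * t' * g⁻¹) = g * ((a : G) * W'.sw a * t') * g⁻¹ := by group
      _ = g * (t' * ((a : G) * W'.sw a)) * g⁻¹ := by rw [h1]
      _ = _ := by group
  have hf2 : ∀ a, f a = 1 → ∀ b : W.A1, a * b = b * a := by
    intro a ha b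
    have h1 : (a : G) * W'.sw a = 1 := by
      have h2 : g * ((a : G) * W'.sw a) * g⁻¹ = 1 := ha
      have := congrArg (fun z => g⁻¹ * z * g) h2
      simpa [mul_assoc] using this
    have h3 : (a : G) ∈ W.A2 := by
      have h4 : (a : G) = (W'.sw a)⁻¹ := eq_inv_of_mul_eq_one_left h1
      rw [h4]
      exact inv_mem (h12 a a.2)
    exact Subtype.ext (W.comm' b.2 h3).symm
  have hf := hA.hmap f hf1 hf2
  -- Sylow
  have hU'2 : IsPGroup 2 W'.U := by
    have h1 : Nat.card W'.U = Nat.card W.S1 := W'.card_U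
    obtain ⟨n, hn⟩ := IsPGroup.iff_card.1 W.two
    exact IsPGroup.of_card (h1.trans hn)
  obtain ⟨a0, ha0, ha0U⟩ := W.sylA (R := W'.U.map (MulAut.conj g).toMonoidHom) (hU'2.map _) (by
    rintro _ ⟨x, ⟨a, ha, rfl⟩, rfl⟩
    exact (hf _).2 ⟨⟨a, W.S1_le ha⟩, rfl⟩)
  have ha0t := W.diag_comm ha0
  obtain ⟨α, hα⟩ : ∃ α, α = a0 * W.sw a0 := ⟨_, rfl⟩
  rw [← hα] at ha0U ha0t
  have hαA : α ∈ W.A := ⟨a0, ha0, hα⟩
  obtain ⟨g1, hg1⟩ : ∃ g1, g1 = α⁻¹ * g := ⟨_, rfl⟩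
  have hg1t : g1 * t' * g1⁻¹ = W.t := by
    rw [hg1]
    calc α⁻¹ * g * t' * (α⁻¹ * g)⁻¹ = α⁻¹ * (g * t' * g⁻¹) * α := by group
      _ = α⁻¹ * (α * W.t) := by rw [hgt, mul_assoc, ← ha0t]
      _ = W.t := by group
  have hU1 : ∀ u ∈ W'.U, g1 * u * g1⁻¹ ∈ W.U := by
    intro u hu
    have := ha0U _ ⟨u, hu, rfl⟩
    have e : g1 * u * g1⁻¹ = α⁻¹ * ((MulAut.conj g).toMonoidHom u) * α := by
      show _ = α⁻¹ * (g * u * g⁻¹) * α
      rw [hg1]; group
    rw [e]; exact this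
  have hU2 : ∀ u ∈ W.U, g1⁻¹ * u * g1 ∈ W'.U := by
    refine conj_inv_of_card ?_ hU1
    rw [W.card_U, W'.card_U]
    exact le_refl (Nat.card W.S1)
  -- `R = g1 (T'⟨t'⟩) g1⁻¹`
  have hc : ∀ z ∈ W.Z, ∃ c ∈ W.S1, g1⁻¹ * (z * W.sw z) * g1 = c * W'.sw c ∧ ∀ s ∈ W.S1, c * s = s * c := by
    intro z hz
    have hzS := W.Z_S1 hz
    obtain ⟨c, hc, e⟩ := hU2 _ ⟨z, hzS, rfl⟩
    refine ⟨c, hc, e, fun s hs => ?_⟩
    obtain ⟨r, hr, e2⟩ := hU1 _ ⟨s, hs, rfl⟩
    have e3 : (z * W.sw z) * (r * W.sw r) = (r * W.sw r) * (z * W.sw z) := by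
      rw [W.mul_comp (W.S1_le hzS) (W.S1_le hr), W.mul_comp (W.S1_le hr) (W.S1_le hzS), W.Zc z hz r hr]
    have e4 : (c * W'.sw c) * (s * W'.sw s) = (s * W'.sw s) * (c * W'.sw c) := by
      have e5 : s * W'.sw s = g1⁻¹ * (r * W.sw r) * g1 := by rw [← e2]; group
      rw [← e, e5]
      calc g1⁻¹ * (z * W.sw z) * g1 * (g1⁻¹ * (r * W.sw r) * g1) = g1⁻¹ * ((z * W.sw z) * (r * W.sw r)) * g1 := by group
        _ = g1⁻¹ * ((r * W.sw r) * (z * W.sw z)) * g1 := by rw [e3]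
        _ = _ := by group
    have hcA : c ∈ W'.A1 := W.S1_le hc
    have hsA : s ∈ W'.A1 := W.S1_le hs
    rw [W'.mul_comp hcA hsA, W'.mul_comp hsA hcA] at e4
    exact (W'.comp_eq (mul_mem hc hs) (mul_mem hc hs) (mul_mem hs hc) (mul_mem hs hc) e4).1
  have hR : W'.TT.map (MulAut.conj g1).toMonoidHom ≤ W.TT := by
    refine W.uniq hA hY hP ?_ ?_ ?_
    · refine IsPGroup.map ?_ _
      -- a 2-group
      have h1 : IsPGroup 2 W'.T := by
        obtain ⟨n, hn⟩ := IsPGroup.iff_card.1 W.two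
        have h2 : Nat.card W'.T = Nat.card W.S1 * Nat.card W.S1 := W'.card_T
        exact IsPGroup.of_card (n := n + n) (by rw [h2, hn, pow_add])
      intro x
      have h3 : (x : G) * x ∈ W'.T := by
        by_cases h : (x : G) ∈ W'.T
        · exact mul_mem h h
        · exact W'.TT_mul x.2 h x.2 h
      obtain ⟨k, hk⟩ := h1 ⟨_, h3⟩
      refine ⟨k + 1, Subtype.ext ?_⟩
      have h4 : ((x : G) * x) ^ 2 ^ k = 1 := congrArg Subtype.val hk
      show (x : G) ^ 2 ^ (k + 1) = 1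
      rw [pow_succ', pow_mul, pow_two]
      exact h4
    · refine ⟨t', W'.t_mem_TT, hg1t⟩
    · rintro _ ⟨x, hx, rfl⟩
      rw [mem_CZ]
      intro z hz
      obtain ⟨c, hc, e, hcs⟩ := hc z hz
      have hcx : x * (c * W'.sw c) = (c * W'.sw c) * x := by
        have hT : ∀ x ∈ W'.T, x * (c * W'.sw c) = (c * W'.sw c) * x := by
          intro x hx
          obtain ⟨a, ha, b, hb, rfl⟩ := W'.mem_T'.1 hx
          have hcA : c ∈ W'.A1 := W.S1_le hc
          rw [W'.mul_comp (W.S1_le hb) hcA, W'.mul_comp hcA (W.S1_le ha), hcs a ha, hcs b hb]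
        rcases hx with hx | hx
        · exact hT x hx
        · have e1 : x = (x * t') * t' := by rw [mul_assoc, tt', mul_one]
          have e2 : (x * t') * (c * W'.sw c) = (c * W'.sw c) * (x * t') := hT _ hx
          have e3 : (c * W'.sw c) * t' = t' * (c * W'.sw c) := W'.diag_comm (W.S1_le hc)
          calc x * (c * W'.sw c) = (x * t') * (t' * (c * W'.sw c)) := by
                calc x * (c * W'.sw c) = ((x * t') * t') * (c * W'.sw c) := by rw [← e1]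
                  _ = _ := by group
            _ = (x * t') * (c * W'.sw c) * t' := by rw [← e3]; group
            _ = (c * W'.sw c) * ((x * t') * t') := by rw [e2]; group
            _ = (c * W'.sw c) * x := by rw [← e1]
      have e5 : z * W.sw z = g1 * (c * W'.sw c) * g1⁻¹ := by rw [← e]; group
      show g1 * x * g1⁻¹ * (z * W.sw z) = z * W.sw z * (g1 * x * g1⁻¹)
      rw [e5]
      calc g1 * x * g1⁻¹ * (g1 * (c * W'.sw c) * g1⁻¹) = g1 * (x * (c * W'.sw c)) * g1⁻¹ := by group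
        _ = g1 * ((c * W'.sw c) * x) * g1⁻¹ := by rw [hcx]
        _ = _ := by group
  have hT1 : W'.T ≤ W.T.comap (MulAut.conj g1).toMonoidHom := by
    refine W'.T_le_of ?_
    intro M M' hM hM' cM cM' sM sM'
    have h2 : (W'.pp M M' hM hM').map (MulAut.conj g1).toMonoidHom ≤ W.T := by
      refine W.Je_TT ?_ ?_ ?_
      · rintro _ ⟨x, hx, rfl⟩
        rw [← map_mul, W'.pp_sq sM sM' x hx, map_one]
      · rw [card_map_conj, W'.card_pp, cM, cM']
        show W.q ^ 3 * W.q ^ 3 = W.q ^ 6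
        ring
      · rintro _ ⟨x, hx, rfl⟩
        exact hR ⟨x, W'.T_le_TT (W'.pp_le_T hx), rfl⟩
    intro x hx
    exact h2 ⟨x, hx, rfl⟩
  have hT2 : ∀ x ∈ W.T, g1⁻¹ * x * g1 ∈ W'.T := by
    refine conj_inv_of_card ?_ (fun a ha => hT1 ha)
    rw [W.card_T, W'.card_T]
    exact le_refl (Nat.card W.S1 * Nat.card W.S1)
  have hTB : ∀ x ∈ W.T, g1⁻¹ * x * g1 ∈ W.B := by
    intro x hx
    obtain ⟨a, ha, b, hb, e⟩ := W'.mem_T'.1 (hT2 x hx)
    rw [e]
    exact ⟨a, W.S1_le ha, _, h12 b (W.S1_le hb), rfl⟩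
  have hAB : ∀ x ∈ W.A, g1⁻¹ * x * g1 ∈ W.B := by
    intro x hx
    have h1 : α * x * α⁻¹ ∈ W.A := mul_mem (mul_mem hαA hx) (inv_mem hαA)
    obtain ⟨a, e⟩ := (hf _).1 h1
    have e1 : g * ((a : G) * W'.sw a) * g⁻¹ = α * x * α⁻¹ := e
    have e2 : g1⁻¹ * x * g1 = (a : G) * W'.sw a := by
      calc g1⁻¹ * x * g1 = g⁻¹ * (α * x * α⁻¹) * g := by rw [hg1]; group
        _ = (a : G) * W'.sw a := by rw [← e1]; group
    rw [e2]
    exact ⟨a, a.2, _, h12 a a.2, rfl⟩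
  let H : Subgroup G := W.B.comap (MulAut.conj g1⁻¹).toMonoidHom
  have hH : ∀ x, x ∈ H ↔ g1⁻¹ * x * g1 ∈ W.B := by
    intro x
    show g1⁻¹ * x * g1⁻¹⁻¹ ∈ W.B ↔ _
    rw [inv_inv]
  have hgen : W.A1 ≤ H ⊓ H.comap W.swHom := by
    refine W.gen _ ?_
    intro a ha s hs
    have hd : a * W.sw a ∈ H := (hH _).2 (hAB _ ⟨a, ha, rfl⟩)
    have hs1 : s ∈ H := (hH _).2 (hTB s (W.S1_le_T hs))
    have hs2 : W.sw s ∈ H := (hH _).2 (hTB _ (W.sw_mem_T hs))
    have e1 : a * s * a⁻¹ = (a * W.sw a) * s * (a * W.sw a)⁻¹ := by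
      calc a * s * a⁻¹ = a * (s * W.sw a) * (W.sw a)⁻¹ * a⁻¹ := by group
        _ = a * (W.sw a * s) * (W.sw a)⁻¹ * a⁻¹ := by rw [W.comm_sw (W.S1_le hs) ha]
        _ = _ := by group
    refine Subgroup.mem_inf.2 ⟨by rw [e1]; exact mul_mem (mul_mem hd hs1) (inv_mem hd), ?_⟩
    show W.sw (a * s * a⁻¹) ∈ H
    rw [e1, sw_mul, sw_mul, sw_inv, W.sw_diag ha]
    exact mul_mem (mul_mem hd hs2) (inv_mem hd)
  intro x hx
  have hg : g = α * g1 := by rw [hg1]; group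
  have h1 : α⁻¹ * x * α ∈ W.B := mul_mem (mul_mem (inv_mem (W.A_le_B hαA)) hx) (W.A_le_B hαA)
  have h2 : α⁻¹ * x * α ∈ H := by
    obtain ⟨a, ha, b, hb, e⟩ := W.mem_B'.1 h1
    rw [e]
    exact mul_mem (hgen ha).1 (hgen hb).2
  have e : g⁻¹ * x * g = g1⁻¹ * (α⁻¹ * x * α) * g1 := by rw [hg]; group
  rw [e]
  exact (hH _).1 h2

/-- **(H)** -/
theorem HH (hA : W.Amb O) (hY : W.Outer T0 y) (hP : W.Syl T0 y P) {g : G}
    (hg : ∀ x ∈ W.B, (g⁻¹ * W.t * g) * x * (g⁻¹ * W.t * g)⁻¹ ∈ W.B) : ∀ x ∈ W.B, g⁻¹ * x * g ∈ W.B := by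
  obtain ⟨t', ht'⟩ : ∃ t', t' = g⁻¹ * W.t * g := ⟨_, rfl⟩
  have tt' : t' * t' = 1 := by
    rw [ht']
    calc g⁻¹ * W.t * g * (g⁻¹ * W.t * g) = g⁻¹ * (W.t * W.t) * g := by group
      _ = 1 := by rw [W.tt]; group
  have hti : t'⁻¹ = t' := inv_of_sq tt'
  refine W.conj_B hA hY hP ?_
  rw [← ht'] at hg ⊢
  rcases W.perm_cases hA hg with h | h
  · exfalso
    have hR : IsPGroup 2 (zpowers t') := by
      refine IsPGroup.of_card (n := 1) ?_
      rw [Nat.card_zpowers, pow_one]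
      refine orderOf_eq_prime (by rw [pow_two]; exact tt') ?_
      intro h0
      apply W.t1
      calc W.t = g * (g⁻¹ * W.t * g) * g⁻¹ := by group
        _ = 1 := by rw [← ht', h0]; group
    obtain ⟨c, hc, hcP⟩ := hP.P_syl (zpowers t') hR (by
      intro z hz x hx
      obtain ⟨n, rfl⟩ := mem_zpowers_iff.1 hz
      have h1 : ∀ n : ℕ, ∀ x ∈ W.B, t' ^ n * x * (t' ^ n)⁻¹ ∈ W.B := by
        intro n
        induction n with
        | zero => intro x hx; simpa using hx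
        | succ n ih =>
          intro x hx
          have := hg _ (ih x hx)
          have e : t' ^ (n + 1) * x * (t' ^ (n + 1))⁻¹ = t' * (t' ^ n * x * (t' ^ n)⁻¹) * t'⁻¹ := by
            rw [pow_succ']; group
          rw [e]; exact this
      rcases Int.eq_nat_or_neg n with ⟨m, rfl | rfl⟩
      · rw [zpow_natCast]; exact h1 m x hx
      · rw [zpow_neg, zpow_natCast, ← inv_pow, hti]; exact h1 m x hx)
    have hw := hcP t' (mem_zpowers t')
    have hwS : c⁻¹ * t' * c ∈ W.S0 P := by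
      refine W.mem_S0.2 ⟨hw, fun a ha => ?_⟩
      have hcard : Nat.card W.A2 ≤ Nat.card W.A1 :=
        Nat.card_le_card_of_injective (fun b : W.A2 => (⟨W.sw b, b.2⟩ : W.A1)) (by
          intro b b' e
          have h1 : W.sw (b : G) = W.sw b' := congrArg Subtype.val e
          apply Subtype.ext
          rw [← W.sw_sw (b : G), h1, sw_sw])
      rcases W.perm_cases hA hc with h1 | h1
      · have h2 := h.1 _ (h1.1 a ha)
        have h3 := conj_inv_mem h1.1 _ h2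
        have e : c⁻¹ * t' * c * a * (c⁻¹ * t' * c)⁻¹ = c⁻¹ * (t' * (c * a * c⁻¹) * t'⁻¹) * c := by group
        rw [e]; exact h3
      · have h2 := h.2 _ (h1.1 a ha)
        have h3 := conj_inv_of_card hcard h1.1 _ h2
        have e : c⁻¹ * t' * c * a * (c⁻¹ * t' * c)⁻¹ = c⁻¹ * (t' * (c * a * c⁻¹) * t'⁻¹) * c := by group
        rw [e]; exact h3
    have e : c⁻¹ * t' * c = (g * c)⁻¹ * W.t * (g * c) := by rw [ht']; group
    rw [e] at hwS
    exact W.F1 hA hY hP _ hwS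
  · intro a ha
    have := h.1 a ha
    rwa [hti] at this

/-- elements of `C_G(t)` normalise `B` -/
theorem cen_B (hA : W.Amb O) {g : G} (hg : g * W.t = W.t * g) : ∀ x ∈ W.B, g * x * g⁻¹ ∈ W.B := hA.hC g hg

/-- **`P` is a Sylow 2-subgroup of `G`** -/
theorem P_max (hA : W.Amb O) (hY : W.Outer T0 y) (hP : W.Syl T0 y P) {R : Subgroup G} (hR : IsPGroup 2 R)
    (hle : P ≤ R) : R ≤ P := by
  by_contra hne
  obtain ⟨n, hnR, hn0, hn⟩ := exists_norm_gt hR hle hne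
  -- `n ∈ N(B)`
  have h1 : n * W.t * n⁻¹ ∈ P := hn _ (W.t_mem_P hY hP)
  have h2 := W.HH hA hY hP (g := n⁻¹) (by
    rw [inv_inv]
    exact hP.P_B _ h1)
  rw [inv_inv] at h2
  -- `P⟨n⟩` is a 2-subgroup of `N(B)`
  let NB : Subgroup G := R ⊓ normalizer (W.B : Set G)
  have hmem : ∀ {x : G}, x ∈ NB ↔ x ∈ R ∧ ∀ b ∈ W.B, x * b * x⁻¹ ∈ W.B := by
    intro x
    rw [mem_inf, mem_normalizer_iff]
    constructor
    · rintro ⟨h1, h2⟩
      exact ⟨h1, fun a ha => (h2 a).1 ha⟩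
    · rintro ⟨h1, h2⟩
      refine ⟨h1, fun a => ⟨fun ha => h2 a ha, fun ha => ?_⟩⟩
      have := conj_inv_mem h2 _ ha
      have e : x⁻¹ * (x * a * x⁻¹) * x = a := by group
      rwa [e] at this
  obtain ⟨c, hc, hcP⟩ := hP.P_syl NB (hR.to_le inf_le_left) (fun g hg x hx => (hmem.1 hg).2 x hx)
  have h3 : P ≤ NB := fun x hx => hmem.2 ⟨hle hx, hP.P_B x hx⟩
  have h4 : Nat.card NB ≤ Nat.card P := by
    rw [← card_map_conj NB c⁻¹]
    refine Subgroup.card_le_of_le ?_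
    rintro _ ⟨x, hx, rfl⟩
    show c⁻¹ * x * c⁻¹⁻¹ ∈ P
    rw [inv_inv]
    exact hcP x hx
  have h5 : P = NB := Subgroup.eq_of_le_of_card_ge h3 h4
  apply hn0
  rw [h5]
  exact hmem.2 ⟨hnR, fun b hb => h2 b hb⟩

end Wr

end Cfsg.Agent.StdSpFour.SplitA
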