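import Cfsg.Agent.StdSpFour.SplitA.Defs
import Cfsg.Agent.StdSpFour.SplitA.YFacts

/-!
S1778, type Sp₄(q), end of case (A): transfer of `YFacts` from `U = {s s^t}` to `S1`.
-/

set_option autoImplicit false

namespace Cfsg.Agent.StdSpFour.SplitA

open Subgroup

namespace Wr

variable {G : Type*} [Group G] (W : Wr G)

/-- `s ↦ s s^t` -/
def dg (s : G) : G := s * W.sw s

theorem dg_one : W.dg 1 = 1 := by rw [dg, sw_one, mul_one]

theorem dg_mul {a b : G} (ha : a ∈ W.A1) (hb : b ∈ W.A1) : W.dg (a * b) = W.dg a * W.dg b := by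
  rw [dg, dg, dg, sw_mul]
  calc a * b * (W.sw a * W.sw b) = a * (b * W.sw a) * W.sw b := by group
    _ = a * (W.sw a * b) * W.sw b := by rw [W.comm_sw hb ha]
    _ = _ := by group

theorem dg_inv {a : G} (ha : a ∈ W.A1) : W.dg a⁻¹ = (W.dg a)⁻¹ := by
  apply eq_inv_of_mul_eq_one_left
  rw [← W.dg_mul (inv_mem ha) ha, inv_mul_cancel, dg_one]

theorem dg_mem_U {s : G} (hs : s ∈ W.S1) : W.dg s ∈ W.U := ⟨s, hs, rfl⟩

theorem dg_inj {a b : G} (ha : a ∈ W.S1) (hb : b ∈ W.S1) (h : W.dg a = W.dg b) : a = b := by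
  have h1 : W.dg (b⁻¹ * a) = 1 := by
    rw [W.dg_mul (inv_mem (W.S1_le hb)) (W.S1_le ha), h, W.dg_inv (W.S1_le hb), inv_mul_cancel]
  have h2 : W.sw (b⁻¹ * a) = (b⁻¹ * a)⁻¹ := eq_inv_of_mul_eq_one_right h1
  have h3 : b⁻¹ * a = 1 := by
    apply W.disj _ (mul_mem (inv_mem hb) ha)
    show W.sw (b⁻¹ * a) ∈ W.S1
    rw [h2]
    exact inv_mem (mul_mem (inv_mem hb) ha)
  exact (inv_mul_eq_one.1 h3).symm

theorem dg_eq_one {a : G} (ha : a ∈ W.S1) : W.dg a = 1 ↔ a = 1 := by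
  constructor
  · intro h
    exact W.dg_inj ha (one_mem _) (h.trans W.dg_one.symm)
  · rintro rfl
    exact W.dg_one

theorem dg_sq {a : G} (ha : a ∈ W.A1) : W.dg (a * a) = W.dg a * W.dg a := W.dg_mul ha ha

theorem mem_diag {H : Subgroup G} (h : H ≤ W.A1) {x : G} : x ∈ W.diag H h ↔ ∃ a ∈ H, x = W.dg a := Iff.rfl

theorem card_diag {H : Subgroup G} (h : H ≤ W.S1) : Nat.card (W.diag H (h.trans W.S1_le)) = Nat.card H := by
  refine (Nat.card_congr (Equiv.ofBijective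
    (fun s : H => (⟨W.dg s, s, s.2, rfl⟩ : W.diag H (h.trans W.S1_le))) ⟨?_, ?_⟩)).symm
  · rintro ⟨a, ha⟩ ⟨b, hb⟩ e
    exact Subtype.ext (W.dg_inj (h ha) (h hb) (congrArg Subtype.val e))
  · rintro ⟨x, a, ha, rfl⟩
    exact ⟨⟨a, ha⟩, rfl⟩

variable {y : G} (yt : y * W.t = W.t * y) (yy : y * y = 1) (yS : ∀ s ∈ W.S1, y * s * y ∈ W.S1)

include yt yy in
/-- `y` acts on `dg s` -/
theorem dg_conj (s : G) : W.dg (y * s * y) = y * W.dg s * y := by
  show y * s * y * (W.t * (y * s * y) * W.t) = y * (s * (W.t * s * W.t)) * y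
  calc y * s * y * (W.t * (y * s * y) * W.t) = y * s * y * (W.t * y) * s * (y * W.t) := by group
    _ = y * s * y * (y * W.t) * s * (W.t * y) := by rw [yt]
    _ = y * s * (y * y) * W.t * s * W.t * y := by group
    _ = _ := by rw [yy]; group

include yy in
theorem comm_iff_conj (x : G) : x * y = y * x ↔ y * x * y = x := by
  constructor
  · intro h
    rw [mul_assoc, h, ← mul_assoc, yy, one_mul]
  · intro h
    calc x * y = y * x * y * y := by rw [h]
      _ = _ := by rw [mul_assoc, yy, mul_one]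

include yt yy yS in
theorem dg_comm_iff {s : G} (hs : s ∈ W.S1) : W.dg s * y = y * W.dg s ↔ s * y = y * s := by
  rw [comm_iff_conj yy, comm_iff_conj yy, ← W.dg_conj yt yy]
  constructor
  · intro h
    exact W.dg_inj (yS s hs) hs h
  · intro h
    rw [h]

theorem dg_comm_iff' {s w : G} (hs : s ∈ W.S1) (hw : w ∈ W.S1) :
    W.dg s * W.dg w = W.dg w * W.dg s ↔ s * w = w * s := by
  rw [← W.dg_mul (W.S1_le hs) (W.S1_le hw), ← W.dg_mul (W.S1_le hw) (W.S1_le hs)]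
  constructor
  · intro h
    exact W.dg_inj (mul_mem hs hw) (mul_mem hw hs) h
  · intro h
    rw [h]

include yt yy yS in
theorem diag_cen {H : Subgroup G} (h : H ≤ W.S1) :
    W.diag (H ⊓ centralizer ({y} : Set G)) ((inf_le_left.trans h).trans W.S1_le) =
      W.diag H (h.trans W.S1_le) ⊓ centralizer ({y} : Set G) := by
  ext x
  rw [mem_inf, mem_diag, mem_diag, mem_centralizer_singleton_iff]
  constructor
  · rintro ⟨a, ha, rfl⟩
    rw [mem_inf, mem_centralizer_singleton_iff] at ha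
    exact ⟨⟨a, ha.1, rfl⟩, (W.dg_comm_iff yt yy yS (h ha.1)).2 ha.2⟩
  · rintro ⟨⟨a, ha, rfl⟩, h2⟩
    refine ⟨a, ?_, rfl⟩
    rw [mem_inf, mem_centralizer_singleton_iff]
    exact ⟨ha, (W.dg_comm_iff yt yy yS (h ha)).1 h2⟩

theorem diag_cen' {H : Subgroup G} (h : H ≤ W.S1) {w : G} (hw : w ∈ W.S1) :
    W.diag (H ⊓ centralizer ({w} : Set G)) ((inf_le_left.trans h).trans W.S1_le) =
      W.diag H (h.trans W.S1_le) ⊓ centralizer ({W.dg w} : Set G) := by
  ext x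
  rw [mem_inf, mem_diag, mem_diag, mem_centralizer_singleton_iff]
  constructor
  · rintro ⟨a, ha, rfl⟩
    rw [mem_inf, mem_centralizer_singleton_iff] at ha
    exact ⟨⟨a, ha.1, rfl⟩, (W.dg_comm_iff' (h ha.1) hw).2 ha.2⟩
  · rintro ⟨⟨a, ha, rfl⟩, h2⟩
    refine ⟨a, ?_, rfl⟩
    rw [mem_inf, mem_centralizer_singleton_iff]
    exact ⟨ha, (W.dg_comm_iff' (h ha) hw).1 h2⟩

theorem Z_le_S1 : W.Z ≤ W.S1 := W.Z_Ma.trans W.Ma_le

include yt yy yS in
/-- **transfer** from `U` to `S1` -/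
theorem yFacts_of_U (Y : YFacts W.q W.U (W.diag W.Z (W.Z_le_S1.trans W.S1_le)) y) : YFacts W.q W.S1 W.Z y where
  card_cen := by
    rw [← W.card_diag inf_le_left, W.diag_cen yt yy yS le_rfl]
    exact Y.card_cen
  rank_cen E hE h1 h2 := by
    rw [← W.card_diag hE]
    refine Y.rank_cen _ ?_ ?_ ?_
    · rintro x ⟨a, ha, rfl⟩
      exact ⟨a, hE ha, rfl⟩
    · rintro x ⟨a, ha, rfl⟩
      exact (W.dg_comm_iff yt yy yS (hE ha)).2 (h1 a ha)
    · rintro x ⟨a, ha, rfl⟩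
      show W.dg a * W.dg a = 1
      rw [← W.dg_sq (W.S1_le (hE ha)), h2 a ha, dg_one]
  four := by
    obtain ⟨_, ⟨g1, h1, rfl⟩, _, ⟨g2, h2, rfl⟩, h3, h4, h5, h6⟩ := Y.four
    refine ⟨g1, h1, g2, h2, (W.dg_comm_iff yt yy yS h1).1 h3, (W.dg_comm_iff yt yy yS h2).1 h4, ?_, ?_⟩
    · intro h
      apply h5
      show W.dg g1 * W.dg g2 * (W.dg g1 * W.dg g2) = 1
      rw [← W.dg_mul (W.S1_le h1) (W.S1_le h2), ← W.dg_sq (mul_mem (W.S1_le h1) (W.S1_le h2)), h, dg_one]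
    · have key : ∀ {g : G}, g ∈ W.S1 → (g * g = 1 ↔ W.dg g * W.dg g = 1) := by
        intro g hg
        rw [← W.dg_sq (W.S1_le hg), W.dg_eq_one (mul_mem hg hg)]
      rcases h6 with ⟨h7, h8⟩ | ⟨h7, h8⟩
      · exact Or.inl ⟨(key h1).2 h7, (key h2).2 h8⟩
      · exact Or.inr ⟨fun h => h7 ((key h1).1 h), fun h => h8 ((key h2).1 h)⟩
  h90 u hu h := by
    have h1 : y * W.dg u * (y * W.dg u) = 1 := by
      have h2 : y * W.dg u * (y * W.dg u) = W.dg (y * u * y * u) := by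
        rw [W.dg_mul (W.S1_le (yS u hu)) (W.S1_le hu), W.dg_conj yt yy]; group
      rw [h2, show y * u * y * u = y * u * (y * u) by group, h, dg_one]
    obtain ⟨_, ⟨v, hv, rfl⟩, h3⟩ := Y.h90 (W.dg u) (W.dg_mem_U hu) h1
    refine ⟨v, hv, ?_⟩
    have h4 : W.dg u = W.dg (y * v⁻¹ * y * v) := by
      rw [W.dg_mul (W.S1_le (yS _ (inv_mem hv))) (W.S1_le hv), W.dg_conj yt yy, W.dg_inv (W.S1_le hv)]
      calc W.dg u = (y * y) * W.dg u := by rw [yy, one_mul]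
        _ = y * (y * W.dg u) := by group
        _ = y * ((W.dg v)⁻¹ * y * W.dg v) := by rw [h3]; rfl
        _ = _ := by group
    have h5 := W.dg_inj hu (mul_mem (yS _ (inv_mem hv)) hv) h4
    calc y * u = y * (y * v⁻¹ * y * v) := by rw [h5]
      _ = (y * y) * v⁻¹ * y * v := by group
      _ = _ := by rw [yy, one_mul]
  eight w hw h1 h2 h3 := by
    have h4 := Y.eight (W.dg w) (W.dg_mem_U hw) ((W.dg_comm_iff yt yy yS hw).2 h1)
      (by rw [← W.dg_sq (W.S1_le hw), h2, dg_one]) (fun h => h3 ((W.dg_eq_one hw).1 h))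
    rw [← W.card_diag (inf_le_left.trans inf_le_left), W.diag_cen' inf_le_left hw, W.diag_cen yt yy yS le_rfl]
    exact h4
  card_Z := by
    rw [← W.card_diag (inf_le_left.trans W.Z_le_S1), W.diag_cen yt yy yS W.Z_le_S1]
    exact Y.card_Z

end Wr

end Cfsg.Agent.StdSpFour.SplitA
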