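import Cfsg.Agent.StdSpFour.SplitA.Base
import Cfsg.Agent.StdSpFour.SplitA.Transfer
import Cfsg.Agent.StdEven.CoreQuot
import Cfsg.Agent.Schreier.Basic

set_option autoImplicit false
set_option linter.unusedSectionVars false

/-!
# S1778, `Sp₄(q)`, case (A), split: the fields `perm` and `hmap` of `Wr.Amb`

`QS A`: normal subgroups of `A` are `⊤` or central.

* `qs_A1`: `QS ↥W.A1` from `QS ↥W.A`.
* `perm`: the normaliser of `A1 A2` permutes `A1`, `A2`.
* `hmap`: homomorphisms from `A1` to `C_G(t)` with central kernel have image `A`.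
-/

namespace Cfsg.Agent.StdSpFour.SplitA.InstPerm

open Subgroup Cfsg.Agent.StdEven.CoreQuot Cfsg.Agent.SignalizersComponents Cfsg.Agent.StdEven.Syl
  Cfsg.Agent.StdEven.Loc Cfsg.Agent.Schreier.Basic
open scoped commutatorElement

section general

/-- normal subgroups are `⊤` or central -/
def QS (A : Type*) [Group A] : Prop := ∀ N : Subgroup A, N.Normal → N = ⊤ ∨ N ≤ center A

theorem hom_comm {A M : Type*} [Group A] [Group M] (hp : commutator A = ⊤) (f : A →* M)
    (hc : ∀ a b, f a * f b = f b * f a) (a : A) : f a = 1 := by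
  have h : commutator A ≤ f.ker := by
    rw [commutator_def, commutator_le]
    intro x _ y _
    rw [MonoidHom.mem_ker, map_commutatorElement, commutatorElement_eq_one_iff_mul_comm]
    exact hc x y
  rw [hp] at h
  exact h (mem_top a)

theorem qs_of_quasisimple {A : Type*} [Group A] (h : Cfsg.IsQuasisimple A) : QS A := by
  intro N hN
  have hs := h.2
  have hp := h.1.commutator_eq_top
  have hn : (N.map (QuotientGroup.mk' (center A))).Normal := hN.map _ (QuotientGroup.mk'_surjective _)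
  rcases hs.eq_bot_or_eq_top_of_normal _ hn with h1 | h1
  · right
    intro x hx
    have h2 : QuotientGroup.mk' (center A) x ∈ N.map (QuotientGroup.mk' (center A)) := ⟨x, hx, rfl⟩
    rw [h1, mem_bot] at h2
    exact (QuotientGroup.eq_one_iff x).1 h2
  · left
    rw [eq_top_iff, ← hp, commutator_def, commutator_le]
    intro a _ b _
    have key : ∀ x : A, ∃ n ∈ N, ∃ z ∈ center A, x = n * z := by
      intro x
      have h2 : QuotientGroup.mk' (center A) x ∈ N.map (QuotientGroup.mk' (center A)) := by rw [h1]; exact mem_top _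
      obtain ⟨n, hn, e⟩ := h2
      exact ⟨n, hn, n⁻¹ * x, (QuotientGroup.eq.1 e), by group⟩
    obtain ⟨n, hn, z, hz, rfl⟩ := key a
    obtain ⟨m, hm, w, hw, rfl⟩ := key b
    have cz := mem_center_iff.1 hz
    have cw := mem_center_iff.1 hw
    have e : ⁅n * z, m * w⁆ = ⁅n, m⁆ := by
      rw [commutatorElement_def, commutatorElement_def]
      calc n * z * (m * w) * (n * z)⁻¹ * (m * w)⁻¹ = n * (z * (m * w)) * z⁻¹ * n⁻¹ * w⁻¹ * m⁻¹ := by group
        _ = n * (m * w * z) * z⁻¹ * n⁻¹ * w⁻¹ * m⁻¹ := by rw [← cz]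
        _ = n * m * (w * n⁻¹) * w⁻¹ * m⁻¹ := by group
        _ = n * m * (n⁻¹ * w) * w⁻¹ * m⁻¹ := by rw [cw]
        _ = _ := by group
    rw [e, commutatorElement_def]
    exact mul_mem (mul_mem (mul_mem hn hm) (inv_mem hn)) (inv_mem hm)

end general

variable {G : Type*} [Group G] (W : Wr G)

/-- the homomorphism `a ↦ a a^t` -/
def dgH : ↥W.A1 →* ↥W.A where
  toFun a := ⟨W.dg a, a, a.2, rfl⟩
  map_one' := Subtype.ext W.dg_one
  map_mul' a b := Subtype.ext (W.dg_mul a.2 b.2)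

theorem dgH_surj : Function.Surjective (dgH W) := by
  rintro ⟨_, a, ha, rfl⟩
  exact ⟨⟨a, ha⟩, rfl⟩

theorem ker_dgH : (dgH W).ker ≤ center ↥W.A1 := by
  intro a ha
  have h1 : (a : G) * W.sw a = 1 := congrArg Subtype.val ha
  have h2 : (a : G) = (W.sw a)⁻¹ := eq_inv_of_mul_eq_one_left h1
  rw [mem_center_iff]
  intro b
  apply Subtype.ext
  show (b : G) * a = a * b
  have h3 : (b : G) * W.sw a = W.sw a * b := W.comm_sw b.2 a.2
  rw [h2]
  calc (b : G) * (W.sw a)⁻¹ = (W.sw a)⁻¹ * (W.sw a * b) * (W.sw a)⁻¹ := by group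
    _ = (W.sw a)⁻¹ * (b * W.sw a) * (W.sw a)⁻¹ := by rw [h3]
    _ = (W.sw a)⁻¹ * b := by group

/-- an element of `G` whose commutators with `A1` are central in `A1` centralises `A1` -/
theorem cent_of_comm (hp : commutator ↥W.A1 = ⊤) {x : G}
    (h : ∀ a : ↥W.A1, ∃ z ∈ center ↥W.A1, x * a * x⁻¹ = z * a) : ∀ a ∈ W.A1, x * a = a * x := by
  choose f hf hfx using h
  let φ : ↥W.A1 →* ↥(center ↥W.A1) :=
    { toFun := fun a => ⟨f a, hf a⟩
      map_one' := by
        apply Subtype.ext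
        apply Subtype.ext
        have h1 := hfx 1
        simp only [OneMemClass.coe_one, mul_one, mul_inv_cancel] at h1
        exact h1.symm
      map_mul' := by
        intro a b
        apply Subtype.ext
        apply Subtype.ext
        show (f (a * b) : G) = f a * f b
        have h1 := hfx (a * b)
        have h2 : x * (a * b : G) * x⁻¹ = f a * a * (f b * b) := by
          rw [← hfx a, ← hfx b]; group
        have h3 : (a : G) * f b = f b * a := congrArg Subtype.val (mem_center_iff.1 (hf b) a)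
        rw [Subgroup.coe_mul] at h1
        rw [h1] at h2
        have h4 : (f (a * b) : G) * (a * b) = f a * f b * (a * b) := by
          rw [h2]
          calc (f a : G) * a * (f b * b) = f a * (a * f b) * b := by group
            _ = _ := by rw [h3]; group
        exact mul_right_cancel h4 }
  intro a ha
  have h1 : ((φ ⟨a, ha⟩ : ↥(center ↥W.A1)) : ↥W.A1) = 1 := by
    rw [hom_comm hp φ (fun a b => Subtype.ext (mem_center_iff.1 (φ b).2 (φ a))) ⟨a, ha⟩]; rfl
  have h2 : f ⟨a, ha⟩ = 1 := h1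
  have h3 := hfx ⟨a, ha⟩
  rw [h2] at h3
  simp only [OneMemClass.coe_one, one_mul] at h3
  exact mul_inv_eq_iff_eq_mul.1 h3

/-- `A1` inherits `QS` from `A` -/
theorem qs_A1 (hp : commutator ↥W.A1 = ⊤) (hq : QS ↥W.A) : QS ↥W.A1 := by
  intro N hN
  rcases hq _ (hN.map _ (dgH_surj W)) with h | h
  · left
    rw [eq_top_iff, ← hp, commutator_def, commutator_le]
    intro a _ b _
    have key : ∀ x : ↥W.A1, ∃ n ∈ N, ∃ z ∈ center ↥W.A1, x = n * z := by
      intro x
      have h2 : dgH W x ∈ N.map (dgH W) := by rw [h]; exact mem_top _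
      obtain ⟨n, hn, e⟩ := h2
      refine ⟨n, hn, n⁻¹ * x, ker_dgH W ?_, by group⟩
      rw [MonoidHom.mem_ker, map_mul, map_inv, e, inv_mul_cancel]
    obtain ⟨n, hn, z, hz, rfl⟩ := key a
    obtain ⟨m, hm, w, hw, rfl⟩ := key b
    have cz := mem_center_iff.1 hz
    have cw := mem_center_iff.1 hw
    have e : ⁅n * z, m * w⁆ = ⁅n, m⁆ := by
      rw [commutatorElement_def, commutatorElement_def]
      calc n * z * (m * w) * (n * z)⁻¹ * (m * w)⁻¹ = n * (z * (m * w)) * z⁻¹ * n⁻¹ * w⁻¹ * m⁻¹ := by group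
        _ = n * (m * w * z) * z⁻¹ * n⁻¹ * w⁻¹ * m⁻¹ := by rw [← cz]
        _ = n * m * (w * n⁻¹) * w⁻¹ * m⁻¹ := by group
        _ = n * m * (n⁻¹ * w) * w⁻¹ * m⁻¹ := by rw [cw]
        _ = _ := by group
    rw [e, commutatorElement_def]
    exact mul_mem (mul_mem (mul_mem hn hm) (inv_mem hn)) (inv_mem hm)
  · right
    intro n hn
    rw [mem_center_iff]
    intro a
    have h1 := cent_of_comm W hp (x := (n : G)) (fun a => by
      refine ⟨n * a * n⁻¹ * a⁻¹, ker_dgH W ?_, by simp⟩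
      have h2 := mem_center_iff.1 (h ⟨n, hn, rfl⟩) (dgH W a)
      rw [MonoidHom.mem_ker, map_mul, map_mul, map_mul, ← h2, map_inv, map_inv]
      group)
    exact Subtype.ext (h1 a a.2).symm

/-- elements of `B` normalise `A1` -/
theorem B_A1 {b : G} (hb : b ∈ W.B) {a : G} (ha : a ∈ W.A1) : b * a * b⁻¹ ∈ W.A1 := by
  obtain ⟨c, hc, d, hd, rfl⟩ := W.mem_B'.1 hb
  have e : c * W.sw d * a * (c * W.sw d)⁻¹ = c * a * c⁻¹ := by
    have h1 : W.sw d * a = a * W.sw d := (W.comm_sw ha hd).symm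
    calc c * W.sw d * a * (c * W.sw d)⁻¹ = c * (W.sw d * a) * (W.sw d)⁻¹ * c⁻¹ := by group
      _ = _ := by rw [h1]; group
  rw [e]
  exact mul_mem (mul_mem hc ha) (inv_mem hc)

/-- **the field `perm` of `Wr.Amb`** -/
theorem perm [Finite G] (hp : commutator ↥W.A1 = ⊤) (hq : QS ↥W.A1) (g : G)
    (hg : ∀ x ∈ W.B, g * x * g⁻¹ ∈ W.B) :
    (∀ a ∈ W.A1, g * a * g⁻¹ ∈ W.A1) ∨ (∀ a ∈ W.A1, g * a * g⁻¹ ∈ W.A2) := by
  have hg' := conj_inv_mem hg
  have hB := W.A1_le_B
  -- `N = A1 ∩ A1 ^ g`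
  let N : Subgroup ↥W.A1 := (W.A1.comap (MulAut.conj g⁻¹).toMonoidHom).subgroupOf W.A1
  have memN : ∀ {x : ↥W.A1}, x ∈ N ↔ g⁻¹ * (x : G) * g ∈ W.A1 := by
    intro x
    rw [mem_subgroupOf, mem_comap]
    show g⁻¹ * (x : G) * g⁻¹⁻¹ ∈ W.A1 ↔ _
    rw [inv_inv]
  have hN : N.Normal := by
    refine ⟨fun x hx b => ?_⟩
    rw [memN] at hx ⊢
    have e : g⁻¹ * ((b * x * b⁻¹ : ↥W.A1) : G) * g = (g⁻¹ * b * g) * (g⁻¹ * x * g) * (g⁻¹ * b * g)⁻¹ := by
      rw [Subgroup.coe_mul, Subgroup.coe_mul, Subgroup.coe_inv]; group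
    rw [e]
    exact B_A1 W (hg' _ (hB b.2)) hx
  rcases hq N hN with h | h
  · left
    have h1 : ∀ a ∈ W.A1, g⁻¹ * a * g⁻¹⁻¹ ∈ W.A1 := by
      intro a ha
      rw [inv_inv]
      exact memN.1 (h ▸ mem_top (⟨a, ha⟩ : ↥W.A1))
    intro a ha
    have := conj_inv_mem h1 a ha
    rwa [inv_inv] at this
  · right
    -- `A1 ^ g` centralises `A1`
    have h1 : ∀ a ∈ W.A1, ∀ b ∈ W.A1, g * a * g⁻¹ * b = b * (g * a * g⁻¹) := by
      intro a ha
      refine cent_of_comm W hp ?_
      intro b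
      have hx : g * a * g⁻¹ ∈ W.B := hg a (hB ha)
      have h2 : g * a * g⁻¹ * b * (g * a * g⁻¹)⁻¹ ∈ W.A1 := B_A1 W hx b.2
      refine ⟨⟨g * a * g⁻¹ * b * (g * a * g⁻¹)⁻¹ * (b : G)⁻¹, mul_mem h2 (inv_mem b.2)⟩, h ?_, by
        simp⟩
      rw [memN]
      have h3 : g⁻¹ * b * g ∈ W.B := hg' _ (hB b.2)
      have h4 := B_A1 W h3 (inv_mem ha)
      have e : g⁻¹ * (g * a * g⁻¹ * b * (g * a * g⁻¹)⁻¹ * (b : G)⁻¹) * g =
          a * ((g⁻¹ * b * g) * a⁻¹ * (g⁻¹ * b * g)⁻¹) := by group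
      show g⁻¹ * (g * a * g⁻¹ * b * (g * a * g⁻¹)⁻¹ * (b : G)⁻¹) * g ∈ W.A1
      rw [e]
      exact mul_mem ha h4
    have h2 : ∀ a ∈ W.A1, ∃ c d : G, c ∈ W.A1 ∧ d ∈ W.A1 ∧ g * a * g⁻¹ = c * W.sw d ∧ ∀ b ∈ W.A1, c * b = b * c := by
      intro a ha
      obtain ⟨c, hc, d, hd, e⟩ := W.mem_B'.1 (hg a (hB ha))
      refine ⟨c, d, hc, hd, e, fun b hb => ?_⟩
      have h3 := h1 a ha b hb
      rw [e] at h3
      have h4 := W.comm_sw hb hd
      have h5 : c * b * W.sw d = b * c * W.sw d := by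
        calc c * b * W.sw d = c * (b * W.sw d) := by group
          _ = c * W.sw d * b := by rw [h4]; group
          _ = _ := by rw [h3]; group
      exact mul_right_cancel h5
    let H : Subgroup ↥W.A1 := (W.A2.comap (MulAut.conj g).toMonoidHom).subgroupOf W.A1
    have hH : H = ⊤ := by
      rw [eq_top_iff, ← hp, commutator_def, commutator_le]
      intro a _ b _
      obtain ⟨c, d, hc, hd, e, hc'⟩ := h2 a a.2
      obtain ⟨c1, d1, hc1, hd1, e1, hc1'⟩ := h2 b b.2
      rw [mem_subgroupOf, mem_comap]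
      show g * ((⁅a, b⁆ : ↥W.A1) : G) * g⁻¹ ∈ W.A2
      have e2 : g * ((⁅a, b⁆ : ↥W.A1) : G) * g⁻¹ = ⁅g * (a : G) * g⁻¹, g * (b : G) * g⁻¹⁆ := by
        rw [commutatorElement_def, commutatorElement_def]
        push_cast
        group
      have e3 : ⁅c * W.sw d, c1 * W.sw d1⁆ = W.sw ⁅d, d1⁆ := by
        have k1 : W.sw (d * d1 * d⁻¹ * d1⁻¹) = W.sw d * W.sw d1 * (W.sw d)⁻¹ * (W.sw d1)⁻¹ := by
          rw [W.sw_mul, W.sw_mul, W.sw_mul, W.sw_inv, W.sw_inv]
        rw [commutatorElement_def, commutatorElement_def, k1]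
        have k2 : ∀ {u v : G}, u ∈ W.A1 → v ∈ W.A1 → W.sw v * u = u * W.sw v := fun hu hv => (W.comm_sw hu hv).symm
        have k3 : c * c1 = c1 * c := hc' c1 hc1
        calc c * W.sw d * (c1 * W.sw d1) * (c * W.sw d)⁻¹ * (c1 * W.sw d1)⁻¹
            = (c * c1) * W.sw (d * d1) * (c * W.sw d)⁻¹ * (c1 * W.sw d1)⁻¹ := by rw [W.mul_comp hd hc1]
          _ = (c1 * c) * W.sw (d * d1) * (c * W.sw d)⁻¹ * (c1 * W.sw d1)⁻¹ := by rw [k3]
          _ = (c1 * c) * W.sw (d * d1) * ((c1 * W.sw d1) * (c * W.sw d))⁻¹ := by group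
          _ = (c1 * c) * W.sw (d * d1) * ((c1 * c) * W.sw (d1 * d))⁻¹ := by rw [W.mul_comp hd1 hc]
          _ = (c1 * c) * (W.sw (d * d1) * (W.sw (d1 * d))⁻¹) * (c1 * c)⁻¹ := by group
          _ = (W.sw (d * d1) * (W.sw (d1 * d))⁻¹) := by
            rw [← W.sw_inv, ← W.sw_mul]
            rw [W.comm_sw (mul_mem hc1 hc) (mul_mem (mul_mem hd hd1) (inv_mem (mul_mem hd1 hd)))]
            group
          _ = _ := by rw [W.sw_mul, W.sw_mul]; group
      rw [e2, e, e1, e3]
      refine W.sw_mem_A2 ?_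
      rw [commutatorElement_def]
      exact mul_mem (mul_mem (mul_mem hd hd1) (inv_mem hd)) (inv_mem hd1)
    intro a ha
    have h3 : (⟨a, ha⟩ : ↥W.A1) ∈ H := by rw [hH]; exact mem_top _
    exact h3

section hmap

variable [Finite G] {T : Subgroup G} (H : Hyp W.A W.t T)
include H

/-- elements of a perfect subgroup of `C_G(t)` -/
theorem exists_of_perfect (hS : Sch ↥W.A) {Q : Subgroup G} (hQ : ⁅Q, Q⁆ = Q) (hQt : ∀ x ∈ Q, x * W.t = W.t * x)
    {x : G} (hx : x ∈ Q) : ∃ a ∈ W.A, ∃ o ∈ core W.A W.t, x = a * o := by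
  have hQN : Q ≤ normalizer (W.A : Set G) := fun x hx => H.mem_normalizer (hQt x hx)
  have htt := H.tt
  have hinner : ∀ x ∈ Q, ∃ a ∈ W.A, (a⁻¹ * x ∈ core W.A W.t ∨ W.t * (a⁻¹ * x) ∈ core W.A W.t) := by
    let f : ↥(normalizer (W.A : Set G)) →* MulAut ↥W.A := W.A.normalizerMonoidHom
    have h1 : ⁅(Q.subgroupOf (normalizer (W.A : Set G))).map f, (Q.subgroupOf (normalizer (W.A : Set G))).map f⁆ =
        (Q.subgroupOf (normalizer (W.A : Set G))).map f := by
      apply map_perfect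
      apply Subgroup.map_injective (normalizer (W.A : Set G)).subtype_injective
      rw [Subgroup.map_commutator, subgroupOf_map_subtype, inf_eq_left.mpr hQN, hQ]
    have h2 := hS _ h1
    intro x hx
    obtain ⟨a, ha⟩ := h2 ⟨⟨x, hQN hx⟩, mem_subgroupOf.mpr hx, rfl⟩
    refine ⟨a, a.2, ?_⟩
    have hat : (a : G) * W.t = W.t * a := (comm_of_centralizer H.htA a.2).symm
    apply H.mem_core_or
    · rw [mem_centralizer_iff]
      intro b hb
      have h3 := congrArg (fun φ : MulAut ↥W.A => ((φ ⟨b, hb⟩ : ↥W.A) : G)) ha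
      have h4 : (a : G) * b * (a : G)⁻¹ = x * b * x⁻¹ := h3
      calc b * ((a : G)⁻¹ * x) = (a : G)⁻¹ * (a * b * (a : G)⁻¹) * x := by group
        _ = (a : G)⁻¹ * (x * b * x⁻¹) * x := by rw [h4]
        _ = (a : G)⁻¹ * x * b := by group
    · calc (a : G)⁻¹ * x * W.t = (a : G)⁻¹ * (x * W.t) := by group
        _ = (a : G)⁻¹ * (W.t * a) * ((a : G)⁻¹ * x) := by rw [hQt x hx]; group
        _ = (a : G)⁻¹ * (a * W.t) * ((a : G)⁻¹ * x) := by rw [hat]
        _ = W.t * ((a : G)⁻¹ * x) := by group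
  -- `A O`
  let AO : Subgroup G :=
    { carrier := {x | ∃ a ∈ W.A, ∃ o ∈ core W.A W.t, x = a * o}
      one_mem' := ⟨1, one_mem _, 1, one_mem _, by group⟩
      mul_mem' := by
        rintro _ _ ⟨a, ha, o, ho, rfl⟩ ⟨b, hb, p, hp, rfl⟩
        have e := comm_of_centralizer (H.core_le ho) hb
        refine ⟨a * b, mul_mem ha hb, o * p, mul_mem ho hp, ?_⟩
        calc a * o * (b * p) = a * (o * b) * p := by group
          _ = _ := by rw [e]; group
      inv_mem' := by
        rintro _ ⟨a, ha, o, ho, rfl⟩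
        refine ⟨a⁻¹, inv_mem ha, o⁻¹, inv_mem ho, ?_⟩
        have e := comm_of_centralizer (H.core_le (inv_mem ho)) (inv_mem ha)
        rw [mul_inv_rev, e] }
  have key : ∀ x ∈ Q, ∃ a ∈ W.A, ∃ o ∈ core W.A W.t, x = a * o ∨ x = a * o * W.t := by
    intro x hx
    obtain ⟨a, ha, h1 | h1⟩ := hinner x hx
    · exact ⟨a, ha, _, h1, Or.inl (mul_inv_cancel_left a x).symm⟩
    · refine ⟨a, ha, _, h1, Or.inr ?_⟩
      have h2 := H.comm_t h1
      calc x = a * (W.t * W.t) * (a⁻¹ * x) := by rw [htt]; group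
        _ = a * (W.t * (W.t * (a⁻¹ * x))) := by group
        _ = a * (W.t * (a⁻¹ * x) * W.t) := congrArg (a * ·) h2.symm
        _ = _ := by group
  have hle : Q ≤ AO := by
    rw [← hQ, commutator_le]
    intro x hx y hy
    -- the elements `a o t^i` multiply with exponents modulo two
    let AT : Subgroup G :=
      { carrier := {x | x * W.t = W.t * x ∧ (x ∈ AO ∨ x * W.t ∈ AO)}
        one_mem' := ⟨by group, Or.inl (one_mem _)⟩
        mul_mem' := by
          rintro a b ⟨ha, ha'⟩ ⟨hb, hb'⟩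
          refine ⟨by rw [mul_assoc, hb, ← mul_assoc, ha, mul_assoc], ?_⟩
          rcases ha' with h1 | h1 <;> rcases hb' with h2 | h2
          · exact Or.inl (mul_mem h1 h2)
          · right; rw [mul_assoc]; exact mul_mem h1 h2
          · right
            have e : a * b * W.t = (a * W.t) * b := by rw [mul_assoc, hb]; group
            rw [e]; exact mul_mem h1 h2
          · left
            have e : a * b = (a * W.t) * (b * W.t) := by
              calc a * b = a * (W.t * W.t) * b := by rw [htt]; group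
                _ = a * W.t * (W.t * b) := by group
                _ = _ := by rw [hb]
            rw [e]; exact mul_mem h1 h2
        inv_mem' := by
          rintro a ⟨ha, ha'⟩
          have h0 : a⁻¹ * W.t = W.t * a⁻¹ := by
            calc a⁻¹ * W.t = a⁻¹ * (W.t * a) * a⁻¹ := by group
              _ = a⁻¹ * (a * W.t) * a⁻¹ := by rw [ha]
              _ = W.t * a⁻¹ := by group
          refine ⟨h0, ?_⟩
          rcases ha' with h1 | h1
          · exact Or.inl (inv_mem h1)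
          · right
            have e : (a * W.t)⁻¹ = a⁻¹ * W.t := by rw [mul_inv_rev, W.tinv, h0]
            rw [← e]; exact inv_mem h1 }
    have memAT : ∀ x ∈ Q, x ∈ AT := by
      intro x hx
      refine ⟨hQt x hx, ?_⟩
      obtain ⟨a, ha, o, ho, e | e⟩ := key x hx
      · exact Or.inl ⟨a, ha, o, ho, e⟩
      · right
        refine ⟨a, ha, o, ho, ?_⟩
        rw [e, mul_assoc, htt, mul_one]
    have norm : ∀ {x y : G}, x * W.t = W.t * x → x ∈ AO → (y * W.t = W.t * y ∧ (y ∈ AO ∨ y * W.t ∈ AO)) →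
        ⁅x, y⁆ ∈ AO := by
      intro x y hxt hx hy
      rw [commutatorElement_def]
      rcases hy.2 with h1 | h1
      · exact mul_mem (mul_mem (mul_mem hx h1) (inv_mem hx)) (inv_mem h1)
      · have hxt' : W.t * x⁻¹ = x⁻¹ * W.t := by
          calc W.t * x⁻¹ = x⁻¹ * (x * W.t) * x⁻¹ := by group
            _ = x⁻¹ * (W.t * x) * x⁻¹ := by rw [hxt]
            _ = _ := by group
        have e : x * y * x⁻¹ * y⁻¹ = x * (y * W.t) * x⁻¹ * (y * W.t)⁻¹ := by
          symm
          calc x * (y * W.t) * x⁻¹ * (y * W.t)⁻¹ = x * y * (W.t * x⁻¹) * W.t⁻¹ * y⁻¹ := by group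
            _ = _ := by rw [hxt']; group
        rw [e]
        exact mul_mem (mul_mem (mul_mem hx h1) (inv_mem hx)) (inv_mem h1)
    obtain ⟨hxt, hx1⟩ := memAT x hx
    obtain ⟨hyt, hy1⟩ := memAT y hy
    rcases hx1 with h1 | h1
    · exact norm hxt h1 ⟨hyt, hy1⟩
    · have e : ⁅x, y⁆ = ⁅x * W.t, y⁆ := by
        have hyt' : W.t * y = y * W.t := hyt.symm
        rw [commutatorElement_def, commutatorElement_def]
        symm
        calc x * W.t * y * (x * W.t)⁻¹ * y⁻¹ = x * (W.t * y) * W.t⁻¹ * x⁻¹ * y⁻¹ := by group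
          _ = _ := by rw [hyt']; group
      rw [e]
      refine norm ?_ h1 ⟨hyt, hy1⟩
      calc x * W.t * W.t = W.t * x * W.t := by rw [hxt]
        _ = W.t * (x * W.t) := by group
  exact hle hx

/-- **the field `hmap` of `Wr.Amb`** -/
theorem hmap (hS : Sch ↥W.A) (hp : commutator ↥W.A1 = ⊤) (f : ↥W.A1 →* G) (hft : ∀ a, f a * W.t = W.t * f a)
    (hk : ∀ a, f a = 1 → ∀ b : ↥W.A1, a * b = b * a) (x : G) : x ∈ W.A ↔ ∃ a, f a = x := by
  have hqA : QS ↥W.A := qs_of_quasisimple H.std.1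
  have hq := qs_A1 W hp hqA
  -- the image is perfect
  have hQ : ⁅f.range, f.range⁆ = f.range := by
    rw [MonoidHom.range_eq_map, ← map_commutator]
    congr 1
  have h1 : ∀ b : ↥W.A1, ∃ a ∈ W.A, ∃ o ∈ core W.A W.t, f b = a * o := fun b =>
    exists_of_perfect W H hS hQ (by rintro _ ⟨a, rfl⟩; exact hft a) ⟨b, rfl⟩
  -- 2-elements
  have h2 : ∀ b : ↥W.A1, (∃ k : ℕ, b ^ 2 ^ k = 1) → f b ∈ W.A := by
    rintro b ⟨k, hk⟩
    obtain ⟨a, ha, o, ho, e⟩ := h1 b
    have hc : Commute a o := (comm_of_centralizer (H.core_le ho) ha).symm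
    have h3 : (a * o) ^ 2 ^ k = 1 := by rw [← e, ← map_pow, hk, map_one]
    rw [hc.mul_pow] at h3
    have h4 : o ^ 2 ^ k ∈ W.A := by
      rw [eq_inv_of_mul_eq_one_right h3]
      exact inv_mem (pow_mem ha _)
    have h5 : Nat.Coprime (2 ^ k) (orderOf o) :=
      Nat.Coprime.pow_left k (Nat.coprime_two_left.2 (H.mem_core.1 ho).2.2)
    obtain ⟨m, hm⟩ := exists_pow_eq_self_of_coprime h5
    have h6 : o ∈ W.A := by rw [← hm]; exact pow_mem h4 m
    rw [e]
    exact mul_mem ha h6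
  have h3 : ∀ b : ↥W.A1, f b ∈ W.A := by
    have hg : W.A1 ≤ ((W.A.comap f).map W.A1.subtype) := by
      apply W.gen
      intro a ha s hs
      obtain ⟨k, hk⟩ := W.two ⟨s, hs⟩
      have hk' : s ^ 2 ^ k = 1 := congrArg Subtype.val hk
      refine ⟨⟨a * s * a⁻¹, mul_mem (mul_mem ha (W.S1_le hs)) (inv_mem ha)⟩, ?_, rfl⟩
      apply h2
      refine ⟨k, Subtype.ext ?_⟩
      show (a * s * a⁻¹) ^ 2 ^ k = 1
      rw [conj_pow, hk', mul_one, mul_inv_cancel]
    intro b
    obtain ⟨c, hc, e⟩ := hg b.2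
    have : c = b := Subtype.ext e
    rw [← this]; exact hc
  let F : ↥W.A1 →* ↥W.A := f.codRestrict W.A h3
  have hF : ∀ a, (F a : G) = f a := fun a => rfl
  -- the preimage of the centre
  have hN : (center ↥W.A).comap F ≤ center ↥W.A1 := by
    rcases hq ((center ↥W.A).comap F) inferInstance with h4 | h4
    · exfalso
      have h5 : ∀ a, F a = 1 := hom_comm hp F (fun a b => by
        have : b ∈ (center ↥W.A).comap F := h4 ▸ mem_top b
        exact mem_center_iff.1 this (F a))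
      have h6 : ∀ a b : ↥W.A1, a * b = b * a := fun a b => hk a (by rw [← hF, h5]; rfl) b
      obtain ⟨s, hs, hs1⟩ := W.exists_S1
      exact hs1 (W.centre s hs (fun a ha => congrArg Subtype.val (h6 ⟨s, W.S1_le hs⟩ ⟨a, ha⟩)))
    · exact h4
  have hidx : (center ↥W.A).index ≤ ((center ↥W.A).comap F).index := by
    have i1 : (center ↥W.A).index = ((center ↥W.A).comap (dgH W)).index :=
      (index_comap_of_surjective _ (dgH_surj W)).symm
    have i2 : center ↥W.A1 ≤ (center ↥W.A).comap (dgH W) := by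
      intro z hz
      rw [mem_comap, mem_center_iff]
      intro a
      obtain ⟨b, rfl⟩ := dgH_surj W a
      rw [← map_mul, ← map_mul, mem_center_iff.1 hz b]
    rw [i1]
    have i3 : ((center ↥W.A).comap (dgH W)).index ∣ (center ↥W.A1).index := index_dvd_of_le i2
    have i4 : (center ↥W.A1).index ∣ ((center ↥W.A).comap F).index := index_dvd_of_le hN
    exact Nat.le_of_dvd (Nat.pos_of_ne_zero index_ne_zero_of_finite) (i3.trans i4)
  let g : ↥W.A1 →* ↥W.A ⧸ center ↥W.A := (QuotientGroup.mk' (center ↥W.A)).comp F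
  have hgk : g.ker = (center ↥W.A).comap F := by
    rw [← MonoidHom.comap_ker, QuotientGroup.ker_mk']
  have hgs : g.range = ⊤ := by
    apply eq_top_of_le_card
    rw [← index_ker, hgk]
    exact hidx
  have hFs : F.range = ⊤ := by
    have hpA := H.std.1.1.commutator_eq_top
    rw [eq_top_iff, ← hpA, commutator_def, commutator_le]
    intro a _ b _
    have key : ∀ x : ↥W.A, ∃ n ∈ F.range, ∃ z ∈ center ↥W.A, x = n * z := by
      intro x
      have h5 : QuotientGroup.mk' (center ↥W.A) x ∈ g.range := by rw [hgs]; exact mem_top _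
      obtain ⟨n, e⟩ := h5
      exact ⟨F n, ⟨n, rfl⟩, (F n)⁻¹ * x, QuotientGroup.eq.1 e, by group⟩
    obtain ⟨n, hn, z, hz, rfl⟩ := key a
    obtain ⟨m, hm, w, hw, rfl⟩ := key b
    have cz := mem_center_iff.1 hz
    have cw := mem_center_iff.1 hw
    have e : ⁅n * z, m * w⁆ = ⁅n, m⁆ := by
      rw [commutatorElement_def, commutatorElement_def]
      calc n * z * (m * w) * (n * z)⁻¹ * (m * w)⁻¹ = n * (z * (m * w)) * z⁻¹ * n⁻¹ * w⁻¹ * m⁻¹ := by group
        _ = n * (m * w * z) * z⁻¹ * n⁻¹ * w⁻¹ * m⁻¹ := by rw [← cz]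
        _ = n * m * (w * n⁻¹) * w⁻¹ * m⁻¹ := by group
        _ = n * m * (n⁻¹ * w) * w⁻¹ * m⁻¹ := by rw [cw]
        _ = _ := by group
    rw [e, commutatorElement_def]
    exact mul_mem (mul_mem (mul_mem hn hm) (inv_mem hn)) (inv_mem hm)
  constructor
  · intro hx
    obtain ⟨a, ha⟩ : (⟨x, hx⟩ : ↥W.A) ∈ F.range := by rw [hFs]; exact mem_top _
    exact ⟨a, congrArg Subtype.val ha⟩
  · rintro ⟨a, rfl⟩
    exact h3 a

end hmap

end Cfsg.Agent.StdSpFour.SplitA.InstPerm
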