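import Cfsg.Agent.StdSpFour.SplitA.InstPre
import Cfsg.Agent.StdSpFour.SplitA.InstPerm

set_option autoImplicit false
set_option linter.unusedSectionVars false

/-!
# The instance of `Wr.Amb`

`amb`: from `W : Wr G` with `W.A = A`, `W.t = t`, `W.U = UG S` and `A1 ≤ C_G(O)`.
-/

namespace Cfsg.Agent.StdSpFour.SplitA.Inst

open Subgroup
open Cfsg.Agent.TitsThree.B2Pkg Cfsg.Agent.TitsThree.RankTwoIdentB2
  Cfsg.Agent.TitsThree.CoreB2 Cfsg.Agent.TitsThree.RankTwoIdx Cfsg.Agent.TitsThree.RankTwoRGD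
  Cfsg.Agent.TitsThree.StdData
open Cfsg.Agent.StdRank2 Cfsg.Agent.StdRank2.OddLift Cfsg.Agent.StdRank2.B2Lift Cfsg.Agent.StdRank2.B2Std
  Cfsg.Agent.StdRank2.B2Torus Cfsg.Agent.StdRank2.B2Act Cfsg.Agent.StdRank2.B2Act.Std
  Cfsg.Agent.StdRank2.B2Par Cfsg.Agent.StdRank2.B2Par.Std
  Cfsg.Agent.StdRank2.B2Amb Cfsg.Agent.StdRank2.SpFrame Cfsg.Agent.StdRank2.SpSelf
open Cfsg.Agent.StdEven Cfsg.Agent.StdEven.CoreQuot Cfsg.Agent.StdEven.Loc Cfsg.Agent.StdEven.Syl
open Cfsg.Agent.Schreier.Basic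
open Cfsg.Agent.StdSpFour.XStart
open scoped commutatorElement Pointwise

universe u

variable {F : Type*} [Field F] [Finite F] [CharP F 2]
variable {G : Type u} [Group G] [Finite G] {A : Subgroup G} {t : G} {T : Subgroup G}

/-- `A1` is perfect -/
theorem commutator_A1 (H : Hyp A t T) (W : Wr G) (hA : W.A = A) : _root_.commutator ↥W.A1 = ⊤ := by
  subst hA
  have h1 : W.A ≤ ⁅W.A, W.A⁆ := by
    have h2 := congrArg (Subgroup.map W.A.subtype) H.perfect
    rw [map_commutator, ← MonoidHom.range_eq_map, Subgroup.range_subtype] at h2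
    exact h2.ge
  have h2 := perfect_A1 W h1
  rw [eq_top_iff]
  rintro ⟨x, hx⟩ -
  have h3 : (_root_.commutator ↥W.A1).map W.A1.subtype = ⁅W.A1, W.A1⁆ := by
    rw [commutator_def, map_commutator, ← MonoidHom.range_eq_map, Subgroup.range_subtype]
  have h4 := h2 hx
  rw [← h3] at h4
  obtain ⟨y, hy, e⟩ := h4
  have h5 : y = ⟨x, hx⟩ := Subtype.ext e
  rwa [← h5]

/-- **the instance of `Wr.Amb`** -/
theorem amb (H : Hyp A t T) (S : Std (stdSp F) ↥A) (W : Wr G) (hA : W.A = A) (ht : W.t = t) (hU : W.U = UG S)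
    (hF : 3 ≤ Nat.card F) (hS : Sch ↥A) (hO : ∀ o ∈ core A t, ∀ a ∈ W.A1, o * a = a * o) :
    W.Amb (core A t) := by
  have hP := pre H S W ht hU hF hO
  have hp := commutator_A1 H W hA
  subst hA
  subst ht
  exact
    { hC := hC H S W rfl rfl hU hP
      perm := InstPerm.perm W hp (InstPerm.qs_A1 W hp (InstPerm.qs_of_quasisimple H.std.1))
      hmap := InstPerm.hmap W H hS hp
      hCZ := hP.hCZ
      O_odd := hP.O_odd
      O_t := hP.O_t
      O_A := hP.O_A }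

end Cfsg.Agent.StdSpFour.SplitA.Inst
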