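import Cfsg.Agent.StdSpFour.SplitA.FOne
import Cfsg.Agent.StdEven.Syl

set_option autoImplicit false
set_option linter.unusedSectionVars false

/-!
# `C_G(t)` normalises `T` (up to `A`) and `A1 A2`

`Pre W O`: the facts `hCZ`, `O_odd`, `O_t`, `O_A` of `Wr.Amb`.  `Pre.conj_T`: an element of `C_G(t)` normalising `Z(U)`
normalises `T`.  `Pre.conj_B`: an element of `C_G(t)` normalising `A` and `Z(U)` normalises `A1 A2`.
-/

namespace Cfsg.Agent.StdSpFour.SplitA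

open Subgroup
open Cfsg.Agent.StdEven.Syl

universe u

variable {G : Type u} [Group G]

/-- the part of `Wr.Amb` concerning `C_G(t) ∩ C_G(Z(U))` and `O` -/
structure Pre (W : Wr G) (O : Subgroup G) : Prop where
  hCZ : ∀ x, x * W.t = W.t * x → (∀ z ∈ W.Z, x * (z * W.sw z) = z * W.sw z * x) → ∃ k ∈ W.K, ∃ o ∈ O, x = k * o
  O_odd : Odd (Nat.card O)
  O_t : ∀ o ∈ O, o * W.t = W.t * o
  O_A : ∀ o ∈ O, ∀ a ∈ W.A1, o * a = a * o

namespace Inst

open Wr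

variable (W : Wr G)

/-- `Z(U)` -/
def DZ : Subgroup G := W.diag W.Z ((W.Z_Ma.trans W.Ma_le).trans W.S1_le)

theorem mem_DZ {x : G} : x ∈ (DZ W) ↔ ∃ z ∈ W.Z, x = z * W.sw z := Iff.rfl

/-- `R = T⟨t⟩` -/
def R : Subgroup G where
  carrier := {x | x ∈ W.T ∨ W.t * x ∈ W.T}
  one_mem' := Or.inl (one_mem _)
  mul_mem' := by
    have e1 : ∀ a b : G, W.t * (a * b) = W.sw a * (W.t * b) := by
      intro a b
      show _ = W.t * a * W.t * (W.t * b)
      calc W.t * (a * b) = W.t * a * 1 * b := by group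
        _ = W.t * a * (W.t * W.t) * b := by rw [W.tt]
        _ = _ := by group
    rintro a b (ha | ha) (hb | hb)
    · exact Or.inl (mul_mem ha hb)
    · right
      rw [e1]
      exact mul_mem (W.sw_T ha) hb
    · right
      rw [← mul_assoc]
      exact mul_mem ha hb
    · left
      have e2 : a * b = W.sw (W.t * a) * (W.t * b) := by
        rw [← e1, ← mul_assoc, ← mul_assoc, W.tt, one_mul]
      rw [e2]
      exact mul_mem (W.sw_T ha) hb
  inv_mem' := by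
    rintro a (ha | ha)
    · exact Or.inl (inv_mem ha)
    · right
      have e : W.t * a⁻¹ = W.sw (W.t * a)⁻¹ := by
        show _ = W.t * (W.t * a)⁻¹ * W.t
        rw [mul_inv_rev, W.tinv]
        calc W.t * a⁻¹ = W.t * a⁻¹ * 1 := by group
          _ = W.t * a⁻¹ * (W.t * W.t) := by rw [W.tt]
          _ = _ := by group
      show W.t * a⁻¹ ∈ W.T
      rw [e]
      exact W.sw_T (inv_mem ha)

theorem mem_R {x : G} : x ∈ (R W) ↔ x ∈ W.T ∨ W.t * x ∈ W.T := Iff.rfl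

theorem T_le_R : W.T ≤ (R W) := fun _ hx => Or.inl hx

theorem t_mem_R : W.t ∈ (R W) := Or.inr (by rw [W.tt]; exact one_mem _)

theorem K_le_R : W.K ≤ (R W) := by
  rintro x ⟨a, ha, rfl | rfl⟩
  · exact Or.inl (W.U_le_T ⟨a, ha, rfl⟩)
  · exact mul_mem (Or.inl (W.U_le_T ⟨a, ha, rfl⟩)) (t_mem_R W)

theorem two_T : IsPGroup 2 W.T := fun x => ⟨2, Subtype.ext (W.pow4T x.2)⟩

theorem two_R : IsPGroup 2 (R W) := by
  rintro ⟨x, hx⟩
  refine ⟨3, Subtype.ext ?_⟩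
  show x ^ 2 ^ 3 = 1
  rcases hx with h | h
  · rw [show (2 : ℕ) ^ 3 = 4 * 2 by norm_num, pow_mul, W.pow4T h, one_pow]
  · have h1 : x * x ∈ W.T := by
      have e : x * x = W.sw (W.t * x) * (W.t * x) := by
        show x * x = W.t * (W.t * x) * W.t * (W.t * x)
        calc x * x = 1 * x * 1 * x := by group
          _ = (W.t * W.t) * x * (W.t * W.t) * x := by rw [W.tt]
          _ = _ := by group
      rw [e]
      exact mul_mem (W.sw_T h) h
    rw [show (2 : ℕ) ^ 3 = 2 * 4 by norm_num, pow_mul, pow_two]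
    exact W.pow4T h1

/-- involutions of `tT` are conjugate to `t` -/
theorem conj_of_tT {x : G} (hx : W.t * x ∈ W.T) (hxx : x * x = 1) : ∃ s ∈ W.T, x = s * W.t * s⁻¹ := by
  obtain ⟨a, ha, b, hb, e⟩ := W.mem_T'.1 hx
  have e1 : x = W.t * (a * W.sw b) := by rw [← e, ← mul_assoc, W.tt, one_mul]
  have h1 : W.sw a * b * (a * W.sw b) = 1 := by
    have e2 : W.sw (a * W.sw b) * (a * W.sw b) = x * x := by
      rw [e1]
      show W.t * (a * W.sw b) * W.t * (a * W.sw b) = _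
      group
    rw [sw_mul, sw_sw] at e2
    rw [e2, hxx]
  have h2 : (b * a) * W.sw (a * b) = 1 * W.sw 1 := by
    rw [sw_one, mul_one, ← h1, sw_mul]
    calc b * a * (W.sw a * W.sw b) = b * (a * W.sw a) * W.sw b := by group
      _ = b * (W.sw a * a) * W.sw b := by rw [W.comm_sw (W.S1_le ha) (W.S1_le ha)]
      _ = (b * W.sw a) * (a * W.sw b) := by group
      _ = _ := by rw [W.comm_sw (W.S1_le hb) (W.S1_le ha)]
  have h3 := (W.comp_eq (mul_mem hb ha) (mul_mem ha hb) (one_mem _) (one_mem _) h2).1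
  have h4 : b = a⁻¹ := eq_inv_of_mul_eq_one_left h3
  refine ⟨W.sw a, W.sw_mem_T ha, ?_⟩
  rw [e1, h4, sw_inv]
  show W.t * (a * (W.sw a)⁻¹) = W.t * a * W.t * W.t * (W.sw a)⁻¹
  calc W.t * (a * (W.sw a)⁻¹) = W.t * a * 1 * (W.sw a)⁻¹ := by group
    _ = W.t * a * (W.t * W.t) * (W.sw a)⁻¹ := by rw [W.tt]
    _ = _ := by group

/-- `T` is generated by involutions: `S1 = Ma Mb` -/
theorem T_le_of {H : Subgroup G} (h : ∀ x ∈ W.T, x * x = 1 → x ∈ H) : W.T ≤ H := by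
  have h1 : ∀ s ∈ W.S1, s ∈ H := by
    intro s hs
    obtain ⟨a, ha, b, hb, rfl⟩ := W.sup s hs
    exact mul_mem (h a (W.S1_le_T (W.Ma_le ha)) (W.sqMa a ha)) (h b (W.S1_le_T (W.Mb_le hb)) (W.sqMb b hb))
  have h2 : ∀ s ∈ W.S1, W.sw s ∈ H := by
    intro s hs
    obtain ⟨a, ha, b, hb, rfl⟩ := W.sup s hs
    rw [sw_mul]
    refine mul_mem (h _ (W.sw_mem_T (W.Ma_le ha)) ?_) (h _ (W.sw_mem_T (W.Mb_le hb)) ?_)
    · rw [← sw_mul, W.sqMa a ha, sw_one]
    · rw [← sw_mul, W.sqMb b hb, sw_one]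
  intro x hx
  obtain ⟨a, ha, b, hb, rfl⟩ := W.mem_T'.1 hx
  exact mul_mem (h1 a ha) (h2 b hb)

/-- `T⟨t⟩` centralises `Z(U)` -/
theorem R_comm {x z : G} (hx : x ∈ (R W)) (hz : z ∈ (DZ W)) : x * z = z * x := by
  obtain ⟨z, hz, rfl⟩ := hz
  have hzA : z ∈ W.A1 := W.S1_le (W.Ma_le (W.Z_Ma hz))
  have ht := W.diag_comm hzA
  have h1 : ∀ s ∈ W.T, s * (z * W.sw z) = z * W.sw z * s := by
    intro s hs
    obtain ⟨a, ha, b, hb, rfl⟩ := W.mem_T'.1 hs
    have e1 := W.Zc z hz a ha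
    have e2 := W.Zc z hz b hb
    have e3 : W.sw z * W.sw b = W.sw b * W.sw z := by rw [← sw_mul, ← sw_mul, e2]
    calc a * W.sw b * (z * W.sw z) = a * (W.sw b * z) * W.sw z := by group
      _ = a * (z * W.sw b) * W.sw z := by rw [W.comm_sw hzA (W.S1_le hb)]
      _ = (a * z) * (W.sw b * W.sw z) := by group
      _ = (z * a) * (W.sw z * W.sw b) := by rw [e1, e3]
      _ = z * (a * W.sw z) * W.sw b := by group
      _ = z * (W.sw z * a) * W.sw b := by rw [W.comm_sw (W.S1_le ha) hzA]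
      _ = _ := by group
  rcases hx with h | h
  · exact h1 x h
  · have h2 := h1 _ h
    have e : x = W.t * (W.t * x) := by rw [← mul_assoc, W.tt, one_mul]
    calc x * (z * W.sw z) = (W.t * W.t) * x * (z * W.sw z) := by rw [W.tt, one_mul]
      _ = W.t * (W.t * x * (z * W.sw z)) := by group
      _ = (W.t * (z * W.sw z)) * (W.t * x) := by rw [h2]; group
      _ = z * W.sw z * (W.t * (W.t * x)) := by rw [← ht]; group
      _ = _ := by rw [← e]

end Inst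

namespace Pre

open Inst

variable {W : Wr G} {O : Subgroup G} [Finite G] (h : Pre W O)
include h

theorem O_sw {o a : G} (ho : o ∈ O) (ha : a ∈ W.A1) : o * W.sw a = W.sw a * o := by
  have h5 := congrArg W.sw (h.O_A o ho a ha)
  have h6 : W.sw o = o := by
    show W.t * o * W.t = o
    rw [← h.O_t o ho, mul_assoc, W.tt, mul_one]
  rw [W.sw_mul, W.sw_mul, h6] at h5
  exact h5

theorem O_T {o x : G} (ho : o ∈ O) (hx : x ∈ W.T) : o * x = x * o := by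
  obtain ⟨a, ha, b, hb, rfl⟩ := W.mem_T'.1 hx
  calc o * (a * W.sw b) = (o * a) * W.sw b := by group
    _ = a * (o * W.sw b) := by rw [h.O_A o ho a (W.S1_le ha)]; group
    _ = _ := by rw [h.O_sw ho (W.S1_le hb)]; group

theorem O_R {o x : G} (ho : o ∈ O) (hx : x ∈ (R W)) : o * x = x * o := by
  rcases hx with hx | hx
  · exact h.O_T ho hx
  · have h1 := h.O_T ho hx
    have e : x = W.t * (W.t * x) := by rw [← mul_assoc, W.tt, one_mul]
    calc o * x = (o * W.t) * (W.t * x) := by rw [mul_assoc, ← e]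
      _ = W.t * (o * (W.t * x)) := by rw [h.O_t o ho]; group
      _ = W.t * (W.t * x) * o := by rw [h1]; group
      _ = x * o := by rw [← e]

/-- a 2-element of `K O` lies in `K` -/
theorem mem_K_of_two {k o : G} (hk : k ∈ W.K) (ho : o ∈ O) {n : ℕ} (hn : (k * o) ^ 2 ^ n = 1) : o = 1 := by
  have hc : Commute k o := (h.O_R ho ((K_le_R W) hk)).symm
  obtain ⟨m, hm⟩ := (two_R W) ⟨k, (K_le_R W) hk⟩
  have hm' : k ^ 2 ^ m = 1 := congrArg Subtype.val hm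
  have h1 : (k * o) ^ 2 ^ (n + m) = 1 := by rw [pow_add, pow_mul, hn, one_pow]
  have h2 : k ^ 2 ^ (n + m) = 1 := by rw [add_comm, pow_add, pow_mul, hm', one_pow]
  rw [hc.mul_pow, h2, one_mul] at h1
  have h3 : orderOf o ∣ 2 ^ (n + m) := orderOf_dvd_of_pow_eq_one h1
  have h4 : orderOf o ∣ Nat.card O := Subgroup.orderOf_dvd_natCard _ ho
  have h5 : Odd (orderOf o) := Odd.of_dvd_nat h.O_odd h4
  rw [← orderOf_eq_one_iff]
  exact Nat.eq_one_of_dvd_coprimes (Nat.Coprime.pow_left (n + m) (Nat.coprime_two_left.mpr h5)) h3 dvd_rfl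

/-- 2-elements of `C(t) ∩ C(Z(U))` lie in `K` -/
theorem mem_K {x : G} (hx : x * W.t = W.t * x) (hz : ∀ z ∈ (DZ W), x * z = z * x) {n : ℕ} (hn : x ^ 2 ^ n = 1) :
    x ∈ W.K := by
  obtain ⟨k, hk, o, ho, rfl⟩ := h.hCZ x hx (fun z hz' => hz _ ⟨z, hz', rfl⟩)
  have := h.mem_K_of_two hk ho hn
  rw [this, mul_one]
  exact hk

/-- `t` is not fused into `T` inside `N(Z(U))` -/
theorem no_fuse {n : G} (hn : ∀ z ∈ (DZ W), n * z * n⁻¹ ∈ (DZ W)) : n * W.t * n⁻¹ ∉ W.T := by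
  intro hs
  obtain ⟨a, ha, b, hb, e⟩ := W.mem_T'.1 hs
  have hss : (a * W.sw b) * (a * W.sw b) = 1 := by
    rw [← e]
    calc n * W.t * n⁻¹ * (n * W.t * n⁻¹) = n * (W.t * W.t) * n⁻¹ := by group
      _ = 1 := by rw [W.tt]; group
  obtain ⟨haa, hbb⟩ := W.comp_sq ha hb hss
  obtain ⟨M, hM, cM, sM, kM⟩ := W.exM ha haa
  obtain ⟨M', hM', cM', sM', kM'⟩ := W.exM hb hbb
  -- conjugate of `M M'^t`
  let Q : Subgroup G := (W.pp M M' hM hM').map (MulAut.conj n⁻¹).toMonoidHom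
  have hQ : ∀ x ∈ Q, x ∈ W.K ∧ x * x = 1 := by
    rintro _ ⟨m, hm, rfl⟩
    show n⁻¹ * m * n⁻¹⁻¹ ∈ W.K ∧ _
    rw [inv_inv]
    have hmm := W.pp_sq sM sM' m hm
    have hmT := W.pp_le_T hm
    have hsq : n⁻¹ * m * n * (n⁻¹ * m * n) = 1 := by
      calc n⁻¹ * m * n * (n⁻¹ * m * n) = n⁻¹ * (m * m) * n := by group
        _ = 1 := by rw [hmm]; group
    refine ⟨h.mem_K (n := 1) ?_ ?_ ?_, ?_⟩
    · have hms : m * (n * W.t * n⁻¹) = n * W.t * n⁻¹ * m := by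
        rw [e]
        obtain ⟨c, hc, d, hd, rfl⟩ := W.mem_pp.1 hm
        have e1 := kM c hc
        have e2 : W.sw b * W.sw d = W.sw d * W.sw b := by rw [← W.sw_mul, ← W.sw_mul, kM' d hd]
        rw [W.mul_comp (W.S1_le (hM' hd)) (W.S1_le ha), W.mul_comp (W.S1_le hb) (W.S1_le (hM hc)), e1,
          kM' d hd]
      calc n⁻¹ * m * n * W.t = n⁻¹ * (m * (n * W.t * n⁻¹)) * n := by group
        _ = n⁻¹ * (n * W.t * n⁻¹ * m) * n := by rw [hms]
        _ = W.t * (n⁻¹ * m * n) := by group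
    · intro z hz
      have h1 := (R_comm W) ((T_le_R W) hmT) (hn z hz)
      calc n⁻¹ * m * n * z = n⁻¹ * (m * (n * z * n⁻¹)) * n := by group
        _ = n⁻¹ * (n * z * n⁻¹ * m) * n := by rw [h1]
        _ = z * (n⁻¹ * m * n) := by group
    · rw [pow_one, pow_two]; exact hsq
    · show n⁻¹ * m * n⁻¹⁻¹ * (n⁻¹ * m * n⁻¹⁻¹) = 1
      rw [inv_inv]; exact hsq
  have h1 := W.rankK (E := Q) (fun x hx => (hQ x hx).1) (fun x hx => (hQ x hx).2)
  have h2 : Nat.card Q = W.q ^ 3 * W.q ^ 3 := by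
    have e1 := W.card_pp (h := hM) (h' := hM')
    rw [cM, cM'] at e1
    rw [← e1]
    exact (Nat.card_congr ((W.pp M M' hM hM').equivMapOfInjective (MulAut.conj n⁻¹).toMonoidHom
      (MulAut.conj n⁻¹).injective).toEquiv).symm
  rw [h2] at h1
  have h3 := W.q_ineq
  nlinarith

/-- fusion of `t` in `R` inside `N(Z(U))` -/
theorem exists_T {n : G} (hn : ∀ z ∈ (DZ W), n * z * n⁻¹ ∈ (DZ W)) (hR : n * W.t * n⁻¹ ∈ (R W)) :
    ∃ s ∈ W.T, (s⁻¹ * n) * W.t = W.t * (s⁻¹ * n) := by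
  rcases hR with h1 | h1
  · exact absurd h1 (h.no_fuse hn)
  · obtain ⟨s, hs, e⟩ := (conj_of_tT W) h1 (by
      calc n * W.t * n⁻¹ * (n * W.t * n⁻¹) = n * (W.t * W.t) * n⁻¹ := by group
        _ = 1 := by rw [W.tt]; group)
    refine ⟨s, hs, ?_⟩
    calc (s⁻¹ * n) * W.t = s⁻¹ * (n * W.t * n⁻¹) * n := by group
      _ = s⁻¹ * (s * W.t * s⁻¹) * n := by rw [e]
      _ = W.t * (s⁻¹ * n) := by group

/-- `C_G(Z(U))` -/
theorem R_le : (R W) ≤ centralizer ((DZ W) : Set G) := by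
  intro x hx
  rw [mem_centralizer_iff]
  intro z hz
  exact ((R_comm W) hx hz).symm

theorem conj_of_cen {n : G} (hn : n ∈ centralizer ((DZ W) : Set G)) : ∀ z ∈ (DZ W), n * z * n⁻¹ ∈ (DZ W) := by
  intro z hz
  have h1 := mem_centralizer_iff.1 hn z hz
  rw [← h1, mul_inv_cancel_right]
  exact hz

/-- **`R = T⟨t⟩` is a Sylow 2-subgroup of `C_G(Z(U))`** -/
theorem isSyl : IsSyl (R W) (centralizer ((DZ W) : Set G)) := by
  refine ⟨h.R_le, (two_R W), fun X hX hXC hRX => ?_⟩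
  by_contra hne
  have hlt : (R W).subgroupOf X < ⊤ := by
    rw [lt_top_iff_ne_top]
    intro h1
    rw [subgroupOf_eq_top] at h1
    exact hne (le_antisymm h1 hRX)
  have : Fact (Nat.Prime 2) := ⟨Nat.prime_two⟩
  have : Group.IsNilpotent X := hX.isNilpotent
  obtain ⟨n, hn1, hn2⟩ := SetLike.exists_of_lt (Group.normalizerCondition_of_isNilpotent ((R W).subgroupOf X) hlt)
  apply hn2
  rw [mem_subgroupOf]
  have h1 : (n : G) * W.t * (n : G)⁻¹ ∈ (R W) := by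
    have h2 := (mem_normalizer_iff.1 hn1 ⟨W.t, hRX (t_mem_R W)⟩).1 (mem_subgroupOf.2 (t_mem_R W))
    exact mem_subgroupOf.1 h2
  obtain ⟨s, hs, hc⟩ := h.exists_T (h.conj_of_cen (hXC n.2)) h1
  have h3 : s⁻¹ * (n : G) ∈ X := mul_mem (inv_mem (hRX ((T_le_R W) hs))) n.2
  obtain ⟨k, hk⟩ := hX ⟨_, h3⟩
  have h4 := h.mem_K hc (fun z hz => (mem_centralizer_iff.1 (hXC h3) z hz).symm)
    (n := k) (congrArg Subtype.val hk)
  have h5 : (n : G) = s * (s⁻¹ * n) := by group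
  rw [h5]
  exact mul_mem ((T_le_R W) hs) ((K_le_R W) h4)

/-- **uniqueness**: an element of `C_G(t)` normalising `Z(U)` normalises `R` -/
theorem conj_R {c : G} (hc : c * W.t = W.t * c) (hcZ : ∀ z ∈ (DZ W), c * z * c⁻¹ ∈ (DZ W)) :
    ∀ x ∈ (R W), c * x * c⁻¹ ∈ (R W) := by
  have hcZ' := conj_inv_mem hcZ
  obtain ⟨n, hn, hnR⟩ := h.isSyl.exists_conj (X := (R W).map (MulAut.conj c).toMonoidHom)
    ((two_R W).map _) (by
      rintro _ ⟨x, hx, rfl⟩
      rw [mem_centralizer_iff]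
      intro z hz
      have h1 := (R_comm W) hx (hcZ' z hz)
      show z * (c * x * c⁻¹) = c * x * c⁻¹ * z
      calc z * (c * x * c⁻¹) = c * (c⁻¹ * z * c * x) * c⁻¹ := by group
        _ = c * (x * (c⁻¹ * z * c)) * c⁻¹ := by rw [h1]
        _ = _ := by group)
  have h1 : n * W.t * n⁻¹ ∈ (R W) := by
    have h2 := hnR (c * W.t * c⁻¹) (conj_mem_map c (t_mem_R W))
    rw [hc, mul_inv_cancel_right] at h2
    exact h2
  obtain ⟨s, hs, hsn⟩ := h.exists_T (h.conj_of_cen hn) h1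
  obtain ⟨k, hk, o, ho, e⟩ := h.hCZ _ hsn (by
    intro z hz
    have h3 : s⁻¹ * n ∈ centralizer ((DZ W) : Set G) := mul_mem (inv_mem (h.R_le ((T_le_R W) hs))) hn
    exact (mem_centralizer_iff.1 h3 _ ⟨z, hz, rfl⟩).symm)
  intro x hx
  have h4 := hnR (c * x * c⁻¹) (conj_mem_map c hx)
  have e1 : n = s * k * o := by rw [mul_assoc, ← e]; group
  have hsk : s * k ∈ (R W) := mul_mem ((T_le_R W) hs) ((K_le_R W) hk)
  -- `o (c x c⁻¹) o⁻¹ ∈ R`
  have h5 : o * (c * x * c⁻¹) * o⁻¹ ∈ (R W) := by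
    have h6 := mul_mem (mul_mem (inv_mem hsk) h4) hsk
    have e2 : (s * k)⁻¹ * (n * (c * x * c⁻¹) * n⁻¹) * (s * k) = o * (c * x * c⁻¹) * o⁻¹ := by
      rw [e1]; group
    rwa [e2] at h6
  have h7 := h.O_R ho h5
  have e3 : c * x * c⁻¹ = o⁻¹ * (o * (c * x * c⁻¹) * o⁻¹) * o := by group
  rw [e3]
  have e4 : o⁻¹ * (o * (c * x * c⁻¹) * o⁻¹) * o = o * (c * x * c⁻¹) * o⁻¹ := by
    calc o⁻¹ * (o * (c * x * c⁻¹) * o⁻¹) * o = o⁻¹ * ((o * (c * x * c⁻¹) * o⁻¹) * o) := by group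
      _ = o⁻¹ * (o * (o * (c * x * c⁻¹) * o⁻¹)) := by rw [h7]
      _ = _ := by group
  rw [e4]
  exact h5

/-- an element of `C_G(t)` normalising `Z(U)` normalises `T` -/
theorem conj_T {c : G} (hc : c * W.t = W.t * c) (hcZ : ∀ z ∈ (DZ W), c * z * c⁻¹ ∈ (DZ W)) :
    ∀ x ∈ W.T, c * x * c⁻¹ ∈ W.T := by
  have h1 : W.T ≤ W.T.comap (MulAut.conj c).toMonoidHom := by
    apply (T_le_of W)
    intro x hx hxx
    show c * x * c⁻¹ ∈ W.T
    rcases h.conj_R hc hcZ x ((T_le_R W) hx) with h2 | h2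
    · exact h2
    · exfalso
      obtain ⟨s, hs, e⟩ := (conj_of_tT W) h2 (by
        calc c * x * c⁻¹ * (c * x * c⁻¹) = c * (x * x) * c⁻¹ := by group
          _ = 1 := by rw [hxx]; group)
      have e1 : x = (c⁻¹ * s) * W.t * (c⁻¹ * s)⁻¹ := by
        calc x = c⁻¹ * (c * x * c⁻¹) * c := by group
          _ = c⁻¹ * (s * W.t * s⁻¹) * c := by rw [e]
          _ = _ := by group
      refine h.no_fuse (n := c⁻¹ * s) ?_ (by rw [← e1]; exact hx)
      intro z hz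
      have h3 : s * z * s⁻¹ = z := by rw [(R_comm W) ((T_le_R W) hs) hz]; group
      have h4 := conj_inv_mem hcZ z hz
      have e2 : c⁻¹ * s * z * (c⁻¹ * s)⁻¹ = c⁻¹ * (s * z * s⁻¹) * c := by group
      rw [e2, h3]
      exact h4
  intro x hx
  exact h1 hx

/-- **an element of `C_G(t)` normalising `A` and `Z(U)` normalises `A1 A2`** -/
theorem conj_B {c : G} (hc : c * W.t = W.t * c) (hcZ : ∀ z ∈ (DZ W), c * z * c⁻¹ ∈ (DZ W))
    (hcA : ∀ a ∈ W.A, c * a * c⁻¹ ∈ W.A) : ∀ x ∈ W.B, c * x * c⁻¹ ∈ W.B := by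
  have h1 : W.A1 ≤ W.B.comap (MulAut.conj c).toMonoidHom := by
    apply W.gen
    intro a ha s hs
    show c * (a * s * a⁻¹) * c⁻¹ ∈ W.B
    have e1 : a * s * a⁻¹ = (a * W.sw a) * s * (a * W.sw a)⁻¹ := by
      calc a * s * a⁻¹ = a * (s * W.sw a) * (W.sw a)⁻¹ * a⁻¹ := by group
        _ = a * (W.sw a * s) * (W.sw a)⁻¹ * a⁻¹ := by rw [W.comm_sw (W.S1_le hs) ha]
        _ = _ := by group
    have h2 : c * (a * W.sw a) * c⁻¹ ∈ W.B := W.A_le_B (hcA _ ⟨a, ha, rfl⟩)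
    have h3 : c * s * c⁻¹ ∈ W.B := W.T_le_B (h.conj_T hc hcZ s (W.S1_le_T hs))
    have e2 : c * (a * s * a⁻¹) * c⁻¹ = c * (a * W.sw a) * c⁻¹ * (c * s * c⁻¹) * (c * (a * W.sw a) * c⁻¹)⁻¹ := by
      rw [e1]; group
    rw [e2]
    exact mul_mem (mul_mem h2 h3) (inv_mem h2)
  have h4 : ∀ a ∈ W.A1, c * W.sw a * c⁻¹ ∈ W.B := by
    intro a ha
    have h5 := W.sw_B (h1 ha)
    have e : W.sw ((MulAut.conj c).toMonoidHom a) = c * W.sw a * c⁻¹ := by
      show W.t * (c * a * c⁻¹) * W.t = c * (W.t * a * W.t) * c⁻¹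
      have hc' : c⁻¹ * W.t = W.t * c⁻¹ := by
        calc c⁻¹ * W.t = c⁻¹ * (W.t * c) * c⁻¹ := by group
          _ = c⁻¹ * (c * W.t) * c⁻¹ := by rw [hc]
          _ = W.t * c⁻¹ := by group
      calc W.t * (c * a * c⁻¹) * W.t = (W.t * c) * a * (c⁻¹ * W.t) := by group
        _ = (c * W.t) * a * (W.t * c⁻¹) := by rw [hc, hc']
        _ = _ := by group
    rw [e] at h5
    exact h5
  intro x hx
  obtain ⟨a, ha, b, hb, rfl⟩ := W.mem_B'.1 hx
  have e : c * (a * W.sw b) * c⁻¹ = c * a * c⁻¹ * (c * W.sw b * c⁻¹) := by group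
  rw [e]
  exact mul_mem (h1 ha) (h4 b hb)

end Pre

end Cfsg.Agent.StdSpFour.SplitA
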