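import Cfsg.Agent.StdSpFour.SplitA.UCoord
import Cfsg.Agent.StdSpFour.SplitA.YFacts

/-!
# S1778, `Sp₄(q)`, case (A), split: a field involution acting on the Sylow 2-subgroup

`y x_r(u) y = x_r(φ u)`, `φ² = 1`, `φ ≠ 1`: the fields (Y1)-(Y6) of `SplitA.Defs.Wr.Outer`.
-/

set_option autoImplicit false
set_option linter.unusedSectionVars false

namespace Cfsg.Agent.StdSpFour.SplitA.UField

open Subgroup
open scoped commutatorElement
open Cfsg.Agent.StdSpFour.SplitA.UCoord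

/-! ### the field -/

section field

variable {F : Type*} [Field F] [Finite F] [CharP F 2] {φ : F ≃+* F}

/-- additive Hilbert 90 -/
theorem hilbert (hφ : ∀ x, φ (φ x) = x) (hne : ∃ x, φ x ≠ x) {c : F} (hc : c + φ c = 0) : ∃ w, w + φ w = c := by
  obtain ⟨x, hx⟩ := hne
  have hc' : φ c = c := (CharTwo.add_eq_zero.1 hc).symm
  have h0 : x + φ x ≠ 0 := fun h => hx (CharTwo.add_eq_zero.1 h).symm
  have h1 : φ (x + φ x) = x + φ x := by rw [map_add, hφ, add_comm]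
  refine ⟨c / (x + φ x) * x, ?_⟩
  have h2 : φ (c / (x + φ x) * x) = c / (x + φ x) * φ x := by
    rw [map_mul, map_div₀, hc', h1]
  rw [h2, ← mul_add]
  exact div_mul_cancel₀ c h0

/-- the fixed field -/
def K (φ : F ≃+* F) : Set F := {x | φ x = x}

theorem card_K (hφ : ∀ x, φ (φ x) = x) (hne : ∃ x, φ x ≠ x) : Nat.card (K φ) ^ 2 = Nat.card F := by
  -- `x ↦ x + φ x` has kernel and image `K`
  let f : F →+ F :=
    { toFun := fun x => x + φ x
      map_zero' := by simp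
      map_add' := fun a b => by rw [map_add]; ring }
  have hker : (f.ker : Set F) = K φ := by
    ext x
    constructor
    · intro h
      exact (CharTwo.add_eq_zero.1 (show x + φ x = 0 from h)).symm
    · intro h
      show x + φ x = 0
      rw [show φ x = x from h, CharTwo.add_self_eq_zero]
  have hran : (f.range : Set F) = K φ := by
    ext x
    constructor
    · rintro ⟨w, rfl⟩
      show φ (w + φ w) = w + φ w
      rw [map_add, hφ, add_comm]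
    · intro h
      obtain ⟨w, hw⟩ := hilbert hφ hne (c := x) (by rw [show φ x = x from h, CharTwo.add_self_eq_zero])
      exact ⟨w, hw⟩
  have h1 : Nat.card f.ker = Nat.card (K φ) := by
    rw [← hker]; rfl
  have h2 : Nat.card f.range = Nat.card (K φ) := by
    rw [← hran]; rfl
  have h3 := AddSubgroup.card_eq_card_quotient_mul_card_addSubgroup f.ker
  have h4 : Nat.card (F ⧸ f.ker) = Nat.card f.range :=
    Nat.card_congr (QuotientAddGroup.quotientKerEquivRange f).toEquiv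
  rw [h3, h4, h1, h2]
  ring

end field

variable {F G : Type*} [Field F] [Finite F] [CharP F 2] [Group G] (C : UC F G) {φ : F ≃+* F} {y : G}

/-- `y` acts on the root groups as the field automorphism `φ` -/
structure Act (C : UC F G) (φ : F ≃+* F) (y : G) : Prop where
  inv : ∀ x, φ (φ x) = x
  ne : ∃ x, φ x ≠ x
  yy : y * y = 1
  xa : ∀ u, y * C.xa u = C.xa (φ u) * y
  xb : ∀ u, y * C.xb u = C.xb (φ u) * y
  zs : ∀ u, y * C.zs u = C.zs (φ u) * y
  zl : ∀ u, y * C.zl u = C.zl (φ u) * y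

variable {C} (A : Act C φ y)
include A

theorem y_el (u s m r : F) : y * C.el u s m r = C.el (φ u) (φ s) (φ m) (φ r) * y := by
  unfold UC.el
  calc y * (C.xa u * C.xb s * C.zs m * C.zl r) = (y * C.xa u) * C.xb s * C.zs m * C.zl r := by group
    _ = C.xa (φ u) * (y * C.xb s) * C.zs m * C.zl r := by rw [A.xa]; group
    _ = C.xa (φ u) * C.xb (φ s) * (y * C.zs m) * C.zl r := by rw [A.xb]; group
    _ = C.xa (φ u) * C.xb (φ s) * C.zs (φ m) * (y * C.zl r) := by rw [A.zs]; group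
    _ = _ := by rw [A.zl]; group

theorem y_el_y (u s m r : F) : y * C.el u s m r * y = C.el (φ u) (φ s) (φ m) (φ r) := by
  rw [y_el A, mul_assoc, A.yy, mul_one]

theorem yU {x : G} (hx : x ∈ C.U) : y * x * y ∈ C.U := by
  obtain ⟨u, s, m, r, rfl⟩ := hx
  rw [y_el_y A]
  exact ⟨_, _, _, _, rfl⟩

theorem yZ {x : G} (hx : x ∈ C.Z) : y * x * y ∈ C.Z := by
  obtain ⟨m, r, rfl⟩ := hx
  rw [y_el_y A, map_zero]
  exact ⟨_, _, rfl⟩

theorem comm_iff (u s m r : F) : C.el u s m r * y = y * C.el u s m r ↔ φ u = u ∧ φ s = s ∧ φ m = m ∧ φ r = r := by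
  rw [y_el A, mul_left_inj]
  constructor
  · intro h
    obtain ⟨h1, h2, h3, h4⟩ := C.el_inj h
    exact ⟨h1.symm, h2.symm, h3.symm, h4.symm⟩
  · rintro ⟨h1, h2, h3, h4⟩
    rw [h1, h2, h3, h4]

/-- (Y1) -/
theorem card_cen : Nat.card (C.U ⊓ centralizer ({y} : Set G) : Subgroup G) = Nat.card F ^ 2 := by
  have e : K φ × K φ × K φ × K φ ≃ (C.U ⊓ centralizer ({y} : Set G) : Subgroup G) :=
    Equiv.ofBijective (fun p => ⟨C.el p.1 p.2.1 p.2.2.1 p.2.2.2, ⟨_, _, _, _, rfl⟩,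
      mem_centralizer_singleton_iff.2 ((comm_iff A _ _ _ _).2 ⟨p.1.2, p.2.1.2, p.2.2.1.2, p.2.2.2.2⟩)⟩) (by
      constructor
      · rintro ⟨⟨u, _⟩, ⟨s, _⟩, ⟨m, _⟩, ⟨r, _⟩⟩ ⟨⟨u', _⟩, ⟨s', _⟩, ⟨m', _⟩, ⟨r', _⟩⟩ h
        obtain ⟨h1, h2, h3, h4⟩ := C.el_inj (congrArg Subtype.val h)
        simp only at h1 h2 h3 h4
        subst h1 h2 h3 h4
        rfl
      · rintro ⟨_, ⟨u, s, m, r, rfl⟩, h⟩
        obtain ⟨h1, h2, h3, h4⟩ := (comm_iff A _ _ _ _).1 (mem_centralizer_singleton_iff.1 h)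
        exact ⟨(⟨u, h1⟩, ⟨s, h2⟩, ⟨m, h3⟩, ⟨r, h4⟩), rfl⟩)
  rw [← Nat.card_congr e, Nat.card_prod, Nat.card_prod, Nat.card_prod, ← card_K A.inv A.ne]
  ring

theorem card_K_ge : 2 ≤ Nat.card (K φ) := by
  have h0 : (0 : F) ∈ K φ := map_zero φ
  have h1 : (1 : F) ∈ K φ := map_one φ
  have : Nontrivial (K φ) := ⟨⟨0, h0⟩, ⟨1, h1⟩, fun h => zero_ne_one (congrArg Subtype.val h)⟩
  exact Finite.one_lt_card

/-- centralisers of `y` in `Ma`, `Mb` -/
theorem card_cen_Ma : Nat.card (C.Ma ⊓ centralizer ({y} : Set G) : Subgroup G) = Nat.card (K φ) ^ 3 := by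
  have e : K φ × K φ × K φ ≃ (C.Ma ⊓ centralizer ({y} : Set G) : Subgroup G) :=
    Equiv.ofBijective (fun p => ⟨C.el p.1 0 p.2.1 p.2.2, ⟨_, _, _, rfl⟩,
      mem_centralizer_singleton_iff.2 ((comm_iff A _ _ _ _).2 ⟨p.1.2, map_zero φ, p.2.1.2, p.2.2.2⟩)⟩) (by
      constructor
      · rintro ⟨⟨u, _⟩, ⟨m, _⟩, ⟨r, _⟩⟩ ⟨⟨u', _⟩, ⟨m', _⟩, ⟨r', _⟩⟩ h
        obtain ⟨h1, -, h3, h4⟩ := C.el_inj (congrArg Subtype.val h)
        simp only at h1 h3 h4
        subst h1 h3 h4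
        rfl
      · rintro ⟨_, ⟨u, m, r, rfl⟩, h⟩
        obtain ⟨h1, -, h3, h4⟩ := (comm_iff A _ _ _ _).1 (mem_centralizer_singleton_iff.1 h)
        exact ⟨(⟨u, h1⟩, ⟨m, h3⟩, ⟨r, h4⟩), rfl⟩)
  rw [← Nat.card_congr e, Nat.card_prod, Nat.card_prod]
  ring

theorem card_cen_Mb : Nat.card (C.Mb ⊓ centralizer ({y} : Set G) : Subgroup G) = Nat.card (K φ) ^ 3 := by
  have e : K φ × K φ × K φ ≃ (C.Mb ⊓ centralizer ({y} : Set G) : Subgroup G) :=
    Equiv.ofBijective (fun p => ⟨C.el 0 p.1 p.2.1 p.2.2, ⟨_, _, _, rfl⟩,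
      mem_centralizer_singleton_iff.2 ((comm_iff A _ _ _ _).2 ⟨map_zero φ, p.1.2, p.2.1.2, p.2.2.2⟩)⟩) (by
      constructor
      · rintro ⟨⟨u, _⟩, ⟨m, _⟩, ⟨r, _⟩⟩ ⟨⟨u', _⟩, ⟨m', _⟩, ⟨r', _⟩⟩ h
        obtain ⟨-, h1, h3, h4⟩ := C.el_inj (congrArg Subtype.val h)
        simp only at h1 h3 h4
        subst h1 h3 h4
        rfl
      · rintro ⟨_, ⟨u, m, r, rfl⟩, h⟩
        obtain ⟨-, h1, h3, h4⟩ := (comm_iff A _ _ _ _).1 (mem_centralizer_singleton_iff.1 h)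
        exact ⟨(⟨u, h1⟩, ⟨m, h3⟩, ⟨r, h4⟩), rfl⟩)
  rw [← Nat.card_congr e, Nat.card_prod, Nat.card_prod]
  ring

/-- (Y6) -/
theorem card_Z : Nat.card (C.Z ⊓ centralizer ({y} : Set G) : Subgroup G) = Nat.card F := by
  have e : K φ × K φ ≃ (C.Z ⊓ centralizer ({y} : Set G) : Subgroup G) :=
    Equiv.ofBijective (fun p => ⟨C.el 0 0 p.1 p.2, ⟨_, _, rfl⟩,
      mem_centralizer_singleton_iff.2 ((comm_iff A _ _ _ _).2 ⟨map_zero φ, map_zero φ, p.1.2, p.2.2⟩)⟩) (by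
      constructor
      · rintro ⟨⟨m, _⟩, ⟨r, _⟩⟩ ⟨⟨m', _⟩, ⟨r', _⟩⟩ h
        obtain ⟨-, -, h3, h4⟩ := C.el_inj (congrArg Subtype.val h)
        simp only at h3 h4
        subst h3 h4
        rfl
      · rintro ⟨_, ⟨m, r, rfl⟩, h⟩
        obtain ⟨-, -, h3, h4⟩ := (comm_iff A _ _ _ _).1 (mem_centralizer_singleton_iff.1 h)
        exact ⟨(⟨m, h3⟩, ⟨r, h4⟩), rfl⟩)
  rw [← Nat.card_congr e, Nat.card_prod, ← card_K A.inv A.ne]
  ring

/-- (Y2) -/
theorem rank_cen {E : Subgroup G} (hE : E ≤ C.U) (hy : ∀ x ∈ E, x * y = y * x) (h2 : ∀ x ∈ E, x * x = 1) :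
    2 * Nat.card E ≤ Nat.card F ^ 2 := by
  have hfin : Finite C.U := by
    apply Nat.finite_of_card_ne_zero
    rw [C.cardU]
    exact pow_ne_zero _ Nat.card_pos.ne'
  have key : E ≤ C.Ma ∨ E ≤ C.Mb := by
    by_contra hcon
    push Not at hcon
    obtain ⟨hA, hB⟩ := hcon
    obtain ⟨a, ha, haM⟩ := SetLike.not_le_iff_exists.1 hB
    obtain ⟨b, hb, hbM⟩ := SetLike.not_le_iff_exists.1 hA
    have ha' : a ∈ C.Ma := (C.invM (hE ha) (h2 a ha)).resolve_right haM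
    have hb' : b ∈ C.Mb := (C.invM (hE hb) (h2 b hb)).resolve_left hbM
    refine C.nc ha' (fun h => haM (C.Z_Mb h)) hb' (fun h => hbM (C.Z_Ma h)) ?_
    have h3 := h2 _ (mul_mem ha hb)
    have h4 := h2 a ha
    have h5 := h2 b hb
    calc a * b = a * (a * b * (a * b)) * b := by rw [h3]; group
      _ = (a * a) * (b * a) * (b * b) := by group
      _ = b * a := by rw [h4, h5]; group
  have h3 : Nat.card E ≤ Nat.card (K φ) ^ 3 := by
    rcases key with h | h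
    · rw [← card_cen_Ma A]
      have : Finite (C.Ma ⊓ centralizer ({y} : Set G) : Subgroup G) :=
        Finite.of_injective _ (inclusion_injective ((inf_le_left : C.Ma ⊓ centralizer ({y} : Set G) ≤ C.Ma).trans C.Ma_le))
      exact card_le_of_le (le_inf h fun x hx => mem_centralizer_singleton_iff.2 (hy x hx))
    · rw [← card_cen_Mb A]
      have : Finite (C.Mb ⊓ centralizer ({y} : Set G) : Subgroup G) :=
        Finite.of_injective _ (inclusion_injective ((inf_le_left : C.Mb ⊓ centralizer ({y} : Set G) ≤ C.Mb).trans C.Mb_le))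
      exact card_le_of_le (le_inf h fun x hx => mem_centralizer_singleton_iff.2 (hy x hx))
  have h4 := card_K_ge A
  rw [← card_K A.inv A.ne]
  calc 2 * Nat.card E ≤ Nat.card (K φ) * Nat.card (K φ) ^ 3 := Nat.mul_le_mul h4 h3
    _ = _ := by ring

/-- (Y2'') -/
theorem four : ∃ g1 ∈ C.U, ∃ g2 ∈ C.U, g1 * y = y * g1 ∧ g2 * y = y * g2 ∧
    g1 * g2 * (g1 * g2) ≠ 1 ∧ ((g1 * g1 = 1 ∧ g2 * g2 = 1) ∨ (g1 * g1 ≠ 1 ∧ g2 * g2 ≠ 1)) := by
  refine ⟨C.el 1 0 0 0, ⟨_, _, _, _, rfl⟩, C.el 0 1 0 0, ⟨_, _, _, _, rfl⟩, ?_, ?_, ?_, Or.inl ⟨?_, ?_⟩⟩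
  · rw [comm_iff A]; simp
  · rw [comm_iff A]; simp
  · intro h
    rw [C.el_mul, C.el_sq] at h
    obtain ⟨-, -, h3, -⟩ := C.inj _ _ _ _ h
    simp at h3
  · exact C.sqMa ⟨_, _, _, rfl⟩
  · exact C.sqMb ⟨_, _, _, rfl⟩

/-- (Y5) -/
theorem eight {w : G} (hw : w ∈ C.U) (_hwy : w * y = y * w) (h2 : w * w = 1) :
    8 ≤ Nat.card (C.U ⊓ centralizer ({y} : Set G) ⊓ centralizer ({w} : Set G) : Subgroup G) := by
  have hfin : Finite C.U := by
    apply Nat.finite_of_card_ne_zero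
    rw [C.cardU]
    exact pow_ne_zero _ Nat.card_pos.ne'
  have hfin' : Finite (C.U ⊓ centralizer ({y} : Set G) ⊓ centralizer ({w} : Set G) : Subgroup G) :=
    Finite.of_injective _ (inclusion_injective
      ((inf_le_left.trans inf_le_left : C.U ⊓ centralizer ({y} : Set G) ⊓ centralizer ({w} : Set G) ≤ C.U)))
  have h4 : 8 ≤ Nat.card (K φ) ^ 3 := by
    calc 8 = 2 ^ 3 := by norm_num
      _ ≤ _ := Nat.pow_le_pow_left (card_K_ge A) 3
  refine h4.trans ?_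
  rcases C.invM hw h2 with h | h
  · rw [← card_cen_Ma A]
    exact card_le_of_le (le_inf (inf_le_inf_right _ C.Ma_le) fun x hx =>
      mem_centralizer_singleton_iff.2 (C.comm_Ma hx.1 h))
  · rw [← card_cen_Mb A]
    exact card_le_of_le (le_inf (inf_le_inf_right _ C.Mb_le) fun x hx =>
      mem_centralizer_singleton_iff.2 (C.comm_Mb hx.1 h))

/-- one step of (Y3): replace `u` by `v^y u v⁻¹` -/
theorem h90 {u : G} (hu : u ∈ C.U) (h : y * u * (y * u) = 1) : ∃ v ∈ C.U, y * u = v⁻¹ * y * v := by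
  -- reduction: `P u` := exists `v`; `P` is invariant under `u ↦ y v⁻¹ y u v`
  have step : ∀ u v : G, v ∈ C.U → (∃ w ∈ C.U, y * (y * v⁻¹ * y * u * v) = w⁻¹ * y * w) →
      ∃ w ∈ C.U, y * u = w⁻¹ * y * w := by
    rintro u v hv ⟨w, hw, h⟩
    refine ⟨w * v⁻¹, mul_mem hw (inv_mem hv), ?_⟩
    have h1 : y * (y * v⁻¹ * y * u * v) = v⁻¹ * (y * u) * v := by
      calc y * (y * v⁻¹ * y * u * v) = (y * y) * v⁻¹ * y * u * v := by group
        _ = _ := by rw [A.yy]; group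
    rw [h1] at h
    calc y * u = v * (v⁻¹ * (y * u) * v) * v⁻¹ := by group
      _ = v * (w⁻¹ * y * w) * v⁻¹ := by rw [h]
      _ = _ := by group
  have inv : ∀ u v : G, y * u * (y * u) = 1 → y * (y * v⁻¹ * y * u * v) * (y * (y * v⁻¹ * y * u * v)) = 1 := by
    intro u v h
    have h1 : y * (y * v⁻¹ * y * u * v) = v⁻¹ * (y * u) * v := by
      calc y * (y * v⁻¹ * y * u * v) = (y * y) * v⁻¹ * y * u * v := by group
        _ = _ := by rw [A.yy]; group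
    rw [h1]
    calc v⁻¹ * (y * u) * v * (v⁻¹ * (y * u) * v) = v⁻¹ * (y * u * (y * u)) * v := by group
      _ = 1 := by rw [h]; group
  -- the equation in coordinates
  have eqn : ∀ u s m r : F, y * C.el u s m r * (y * C.el u s m r) = 1 →
      φ u + u = 0 ∧ φ s + s = 0 ∧ φ m + m + u * φ s = 0 ∧ φ r + r + u ^ 2 * φ s = 0 := by
    intro u s m r h
    have h1 : y * C.el u s m r * (y * C.el u s m r) = C.el (φ u) (φ s) (φ m) (φ r) * C.el u s m r := by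
      calc y * C.el u s m r * (y * C.el u s m r) = (y * C.el u s m r * y) * C.el u s m r := by group
        _ = _ := by rw [y_el_y A]
    rw [h1, C.el_mul] at h
    exact C.inj _ _ _ _ h
  have conj : ∀ a b c d u s m r : F, y * (C.el a b c d)⁻¹ * y * C.el u s m r * C.el a b c d =
      C.el (φ a + u + a) (φ b + s + b)
        (φ (c + a * b) + m + u * φ b + c + a * (φ b + s)) (φ (d + a ^ 2 * b) + r + u ^ 2 * φ b + d + a ^ 2 * (φ b + s)) := by
    intro a b c d u s m r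
    rw [C.el_inv, y_el_y A, C.el_mul, C.el_mul]
  obtain ⟨u, s, m, r, rfl⟩ := hu
  -- step 1: kill `u`
  obtain ⟨hu, -, -, -⟩ := eqn _ _ _ _ h
  obtain ⟨a, ha⟩ := hilbert A.inv A.ne (c := u) (by rw [add_comm]; exact hu)
  apply step _ (C.el a 0 0 0) ⟨_, _, _, _, rfl⟩
  have h1 := inv _ (C.el a 0 0 0) h
  rw [conj] at h1 ⊢
  have e1 : φ a + u + a = 0 := by
    have : φ a + u + a = (a + φ a) + u := by ring
    rw [this, ha, CharTwo.add_self_eq_zero]
  rw [e1] at h1 ⊢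
  generalize φ 0 + s + 0 = s1 at h1 ⊢
  generalize φ (0 + a * 0) + m + u * φ 0 + 0 + a * (φ 0 + s) = m1 at h1 ⊢
  generalize φ (0 + a ^ 2 * 0) + r + u ^ 2 * φ 0 + 0 + a ^ 2 * (φ 0 + s) = r1 at h1 ⊢
  -- step 2: kill `s`, `m`, `r`
  obtain ⟨-, hs, hm, hr⟩ := eqn _ _ _ _ h1
  obtain ⟨b, hb⟩ := hilbert A.inv A.ne (c := s1) (by rw [add_comm]; exact hs)
  obtain ⟨c, hc⟩ := hilbert A.inv A.ne (c := m1) (by
    have : m1 + φ m1 = φ m1 + m1 + 0 * φ s1 := by ring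
    rw [this]; exact hm)
  obtain ⟨d, hd⟩ := hilbert A.inv A.ne (c := r1) (by
    have : r1 + φ r1 = φ r1 + r1 + 0 ^ 2 * φ s1 := by ring
    rw [this]; exact hr)
  apply step _ (C.el 0 b c d) ⟨_, _, _, _, rfl⟩
  rw [conj]
  refine ⟨1, one_mem _, ?_⟩
  have f1 : φ 0 + 0 + 0 = (0 : F) := by rw [map_zero]; ring
  have f2 : φ b + s1 + b = 0 := by
    have : φ b + s1 + b = (b + φ b) + s1 := by ring
    rw [this, hb, CharTwo.add_self_eq_zero]
  have f3 : φ (c + 0 * b) + m1 + 0 * φ b + c + 0 * (φ b + s1) = 0 := by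
    have h9 : c + 0 * b = c := by ring
    rw [h9]
    have : φ c + m1 + 0 * φ b + c + 0 * (φ b + s1) = (c + φ c) + m1 := by ring
    rw [this, hc, CharTwo.add_self_eq_zero]
  have f4 : φ (d + 0 ^ 2 * b) + r1 + 0 ^ 2 * φ b + d + 0 ^ 2 * (φ b + s1) = 0 := by
    have h9 : d + 0 ^ 2 * b = d := by ring
    rw [h9]
    have : φ d + r1 + 0 ^ 2 * φ b + d + 0 ^ 2 * (φ b + s1) = (d + φ d) + r1 := by ring
    rw [this, hd, CharTwo.add_self_eq_zero]
  rw [f1, f2, f3, f4, C.el_zero]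
  group

/-- (Y1)-(Y6) -/
theorem yFacts : YFacts (Nat.card F) C.U C.Z y where
  card_cen := card_cen A
  rank_cen _ h1 h2 h3 := rank_cen A h1 h2 h3
  four := four A
  h90 _ hu h := h90 A hu h
  eight _ hw h1 h2 _ := eight A hw h1 h2
  card_Z := (card_Z A).ge

end Cfsg.Agent.StdSpFour.SplitA.UField
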