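import Cfsg.Agent.StdSpFour.SplitA.YMap
import Cfsg.Agent.StdSpFour.SplitA.Transfer
import Cfsg.Agent.StdSpFour.SplitA.Graph
import Cfsg.Agent.StdSpFour.SplitA.UField
import Cfsg.Agent.StdSpFour.SplitA.Base
import Cfsg.Agent.StdRank2.OutSpCyc
import Cfsg.Agent.StdSpFour.XFus

/-!
# S1778, `Sp₄(q)`, case (A), split: the instance of `Wr.Outer`
-/

set_option autoImplicit false
set_option linter.unusedSectionVars false

namespace Cfsg.Agent.StdSpFour.SplitA.InstOuter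

open Subgroup
open Cfsg.Agent.TitsThree.B2Pkg Cfsg.Agent.TitsThree.RankTwoIdentB2
  Cfsg.Agent.TitsThree.CoreB2 Cfsg.Agent.TitsThree.RankTwoIdx Cfsg.Agent.TitsThree.RankTwoRGD
  Cfsg.Agent.TitsThree.StdData
open Cfsg.Agent.StdRank2.OddLift Cfsg.Agent.StdRank2.B2Lift Cfsg.Agent.StdRank2.B2Std
  Cfsg.Agent.StdRank2.OutB2Aut Cfsg.Agent.StdRank2.OutB2Tw Cfsg.Agent.StdRank2.OutB2G
  Cfsg.Agent.StdRank2.OutB2Data Cfsg.Agent.StdRank2.OutSpG Cfsg.Agent.StdRank2.OutSpGraph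
  Cfsg.Agent.StdRank2.OutB2Inv Cfsg.Agent.StdRank2.OutSpInv Cfsg.Agent.StdRank2.OutSpCyc
open Cfsg.Agent.StdRank2 Cfsg.Agent.StdEven Cfsg.Agent.StdEven.CoreQuot Cfsg.Agent.StdEven.Loc
open Cfsg.Agent.StdEven.Syl
open Cfsg.Agent.StdSpFour Cfsg.Agent.StdSpFour.SplitA.YMap

universe u

variable {G : Type u} [Group G]

/-! ### Facts on `W` -/

section W

variable (W : Wr G)

theorem exists_not_Z : ∃ x ∈ W.Mb, x ∉ W.Z := by
  by_contra h
  push Not at h
  have h1 : W.Mb ≤ W.Z := h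
  have h2 : W.Mb = W.Z := le_antisymm h1 W.Z_Mb
  have h3 := W.cardMb
  rw [h2, W.cardZ] at h3
  have := W.q4
  have h4 : W.q ^ 2 < W.q ^ 3 := Nat.pow_lt_pow_right (by omega) (by norm_num)
  omega

theorem exists_not_Z' : ∃ x ∈ W.Ma, x ∉ W.Z := by
  by_contra h
  push Not at h
  have h1 : W.Ma ≤ W.Z := h
  have h2 : W.Ma = W.Z := le_antisymm h1 W.Z_Ma
  have h3 := W.cardMa
  rw [h2, W.cardZ] at h3
  have := W.q4
  have h4 : W.q ^ 2 < W.q ^ 3 := Nat.pow_lt_pow_right (by omega) (by norm_num)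
  omega

/-- `Z = Z(S1)` -/
theorem mem_Z_of_comm {x : G} (hx : x ∈ W.S1) (h : ∀ s ∈ W.S1, x * s = s * x) : x ∈ W.Z := by
  obtain ⟨a, ha, b, hb, rfl⟩ := W.sup x hx
  obtain ⟨m, hm, hmZ⟩ := exists_not_Z W
  obtain ⟨m', hm', hmZ'⟩ := exists_not_Z' W
  have h1 : a ∈ W.Z := by
    by_contra h0
    apply W.nc a ha h0 m hm hmZ
    have e1 := h m (W.Mb_le hm)
    have e2 : b * m = m * b := el_comm W.sqMb hb hm
    have e3 : a * m * b = m * a * b := by
      calc a * m * b = a * (b * m) := by rw [e2]; group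
        _ = m * (a * b) := by rw [← mul_assoc, e1]
        _ = _ := by group
    exact mul_right_cancel e3
  have h2 : b ∈ W.Z := by
    by_contra h0
    apply W.nc m' hm' hmZ' b hb h0
    have e1 := h m' (W.Ma_le hm')
    have e2 : a * m' = m' * a := el_comm W.sqMa ha hm'
    have e3 : a * (b * m') = a * (m' * b) := by
      calc a * (b * m') = m' * (a * b) := by rw [← mul_assoc, e1]
        _ = (m' * a) * b := by group
        _ = _ := by rw [← e2]; group
    exact (mul_left_cancel e3).symm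
  exact mul_mem h1 h2

/-- elements of `A1 ∩ A2` centralise `A1` -/
theorem comm_of_inter {a : G} (_ha : a ∈ W.A1) (ha' : W.sw a ∈ W.A1) : ∀ b ∈ W.A1, a * b = b * a := by
  intro b hb
  have := W.comm_sw hb ha'
  rw [W.sw_sw] at this
  exact this.symm

variable {y : G} (yt : y * W.t = W.t * y) (yy : y * y = 1) (yA : ∀ a ∈ W.A1, y * a * y ∈ W.A1)
  (yU : ∀ u ∈ W.U, y * u * y ∈ W.U)

include yt yy yA yU in
/-- `y` normalises `S1` -/
theorem yS [Finite G] {s : G} (hs : s ∈ W.S1) : y * s * y ∈ W.S1 := by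
  have h1 := yU _ (W.dg_mem_U hs)
  rw [← W.dg_conj yt yy] at h1
  obtain ⟨r, hr, e⟩ := h1
  change W.dg (y * s * y) = W.dg r at e
  have hsA := yA s (W.S1_le hs)
  set a := r⁻¹ * (y * s * y) with ha
  have haA : a ∈ W.A1 := mul_mem (inv_mem (W.S1_le hr)) hsA
  have h2 : W.dg a = 1 := by
    rw [ha, W.dg_mul (inv_mem (W.S1_le hr)) hsA, e, W.dg_inv (W.S1_le hr), inv_mul_cancel]
  have h3 : W.sw a = a⁻¹ := eq_inv_of_mul_eq_one_right h2
  have hcen : ∀ b ∈ W.A1, a * b = b * a := comm_of_inter W haA (by rw [h3]; exact inv_mem haA)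
  -- `a` is a 2-element
  have htwo : IsPGroup 2 (zpowers a) := by
    obtain ⟨k, hk⟩ := W.two ⟨s, hs⟩
    obtain ⟨l, hl⟩ := W.two ⟨r, hr⟩
    have hk' : s ^ 2 ^ k = 1 := congrArg Subtype.val hk
    have hl' : r ^ 2 ^ l = 1 := congrArg Subtype.val hl
    have hys : (y * s * y) ^ 2 ^ k = 1 := by
      have e1 : y * s * y = y * s * y⁻¹ := by rw [inv_eq_of_mul_eq_one_left yy]
      rw [e1, conj_pow, hk', mul_one, mul_inv_cancel]
    have hrr : a ^ 2 ^ (k + l) = 1 := by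
      have hc : Commute r a := (hcen r (W.S1_le hr)).symm
      have e2 : r * a = y * s * y := by rw [ha]; group
      have e3 : (r * a) ^ 2 ^ (k + l) = 1 := by
        rw [e2, pow_add, pow_mul, hys, one_pow]
      rw [hc.mul_pow] at e3
      have e4 : r ^ 2 ^ (k + l) = 1 := by rw [add_comm, pow_add, pow_mul, hl', one_pow]
      rwa [e4, one_mul] at e3
    intro ⟨x, hx⟩
    obtain ⟨n, rfl⟩ := mem_zpowers_iff.1 hx
    refine ⟨k + l, Subtype.ext ?_⟩
    show (a ^ n) ^ 2 ^ (k + l) = 1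
    rw [← zpow_natCast, ← zpow_mul, mul_comm, zpow_mul, zpow_natCast, hrr, one_zpow]
  obtain ⟨b, hb, h4⟩ := W.syl (zpowers a) (by rw [zpowers_le]; exact haA) htwo
  have h5 := h4 a (mem_zpowers a)
  have h6 : b⁻¹ * a * b = a := by
    rw [mul_assoc, hcen b hb, ← mul_assoc, inv_mul_cancel, one_mul]
  rw [h6] at h5
  have h7 := W.centre a h5 hcen
  have h8 : y * s * y = r := by
    have : r * a = y * s * y := by rw [ha]; group
    rw [← this, h7, mul_one]
  rw [h8]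
  exact hr

include yy in
/-- `y` normalises `Z` -/
theorem yZ (yS : ∀ s ∈ W.S1, y * s * y ∈ W.S1) {z : G} (hz : z ∈ W.Z) : y * z * y ∈ W.Z := by
  have hzS : z ∈ W.S1 := W.Z_le_S1 hz
  refine mem_Z_of_comm W (yS z hzS) fun s hs => ?_
  have h1 := W.Zc z hz _ (yS s hs)
  calc y * z * y * s = y * (z * (y * s * y)) * y := by
        have : y * (z * (y * s * y)) * y = y * z * y * s * (y * y) := by group
        rw [this, yy, mul_one]
    _ = y * (y * s * y * z) * y := by rw [h1]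
    _ = (y * y) * s * (y * z * y) := by group
    _ = _ := by rw [yy, one_mul]

end W

/-! ### The context -/

variable [Finite G] {F : Type*} [Field F] [Finite F] [CharP F 2]

/-- the hypotheses on `A`, `T` and the coordinates `S` -/
structure Ctx (W : Wr G) (S : Std (stdSp F) ↥W.A) (T : Subgroup G) : Prop where
  H : Hyp W.A W.t T
  UT : T ⊓ W.A = UG S
  U : W.U = UG S
  q : W.q = Nat.card F
  had : AdaptedSp S T
  simple : IsSimpleGroup (↥W.A ⧸ center ↥W.A)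

variable {W : Wr G} {S : Std (stdSp F) ↥W.A} {T : Subgroup G} (C : Ctx W S T)

/-- `t` centralises: field type -/
theorem fld_mul_cent {A : Subgroup G} {S : Std (stdSp F) ↥A} {f g : G} {ρ : F ≃+* F} (h : Fld nSp S f ρ)
    (hg : g ∈ centralizer (A : Set G)) : Fld nSp S (f * g) ρ := by
  have key : ∀ a : ↥A, f * g * a * (f * g)⁻¹ = f * a * f⁻¹ := by
    intro a
    have h1 : g * (a : G) = a * g := (mem_centralizer_iff.1 hg _ a.2).symm
    calc f * g * a * (f * g)⁻¹ = f * (g * a) * g⁻¹ * f⁻¹ := by group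
      _ = _ := by rw [h1]; group
  exact
    { x := fun a => (key _).trans (h.x a)
      x' := fun a => (key _).trans (h.x' a)
      y := fun a => (key _).trans (h.y a)
      y' := fun a => (key _).trans (h.y' a)
      z₁ := fun a => (key _).trans (h.z₁ a)
      z₂ := fun a => (key _).trans (h.z₂ a)
      z₁' := fun a => (key _).trans (h.z₁' a)
      z₂' := fun a => (key _).trans (h.z₂' a) }

/-- `t` centralises: graph type -/
theorem gr_mul_cent {A : Subgroup G} {S : Std (stdSp F) ↥A} {f g : G} {ρ : F ≃+* F} (h : Gr S f ρ)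
    (hg : g ∈ centralizer (A : Set G)) : Gr S (f * g) ρ := by
  have key : ∀ a : ↥A, f * g * a * (f * g)⁻¹ = f * a * f⁻¹ := by
    intro a
    have h1 : g * (a : G) = a * g := (mem_centralizer_iff.1 hg _ a.2).symm
    calc f * g * a * (f * g)⁻¹ = f * (g * a) * g⁻¹ * f⁻¹ := by group
      _ = _ := by rw [h1]; group
  exact
    { x := fun a => (key _).trans (h.x a)
      x' := fun a => (key _).trans (h.x' a)
      y := fun a => (key _).trans (h.y a)
      y' := fun a => (key _).trans (h.y' a)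
      z₁ := fun a => (key _).trans (h.z₁ a)
      z₂ := fun a => (key _).trans (h.z₂ a)
      z₁' := fun a => (key _).trans (h.z₁' a)
      z₂' := fun a => (key _).trans (h.z₂' a) }

include C

theorem mem_K_iff {x : G} : x ∈ W.K ↔ x ∈ UG S ∨ ∃ u ∈ UG S, x = u * W.t := by
  rw [Wr.mem_K, ← C.U]
  constructor
  · rintro ⟨a, ha, rfl | rfl⟩
    · exact Or.inl ⟨a, ha, rfl⟩
    · exact Or.inr ⟨_, ⟨a, ha, rfl⟩, rfl⟩
  · rintro (⟨a, ha, rfl⟩ | ⟨_, ⟨a, ha, rfl⟩, rfl⟩)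
    · exact ⟨a, ha, Or.inl rfl⟩
    · exact ⟨a, ha, Or.inr rfl⟩

theorem UG_le_T : UG S ≤ T := by
  rw [← C.UT]
  exact inf_le_left

theorem K_le : W.K ≤ T := by
  intro x hx
  rcases (mem_K_iff C).1 hx with h | ⟨u, hu, rfl⟩
  · exact UG_le_T C h
  · exact mul_mem (UG_le_T C hu) C.H.isT.mem

theorem T_U {x u : G} (hx : x ∈ T) (hu : u ∈ UG S) : x * u * x⁻¹ ∈ UG S := by
  rw [← C.UT] at hu ⊢
  exact ⟨T.mul_mem (T.mul_mem hx hu.1) (T.inv_mem hx),
    (mem_normalizer_iff.1 (C.H.isT.syl.le hx) u).1 hu.2⟩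

/-- elements of `T` inducing an element of `U` on `A` lie in `K` -/
theorem mem_K_of_inU {x : G} (hx : x ∈ T) (h : InU W.A (UG S) x) : x ∈ W.K := by
  obtain ⟨s, hs, h⟩ := h
  have hc : s⁻¹ * x ∈ centralizer (W.A : Set G) := by
    rw [mem_centralizer_iff]
    intro a ha
    have h1 := h a ha
    calc a * (s⁻¹ * x) = s⁻¹ * (s * a * s⁻¹) * x := by group
      _ = s⁻¹ * (x * a * x⁻¹) * x := by rw [h1]
      _ = _ := by group
  rw [mem_K_iff C]
  rcases C.H.R _ (mul_mem (inv_mem (UG_le_T C hs)) hx) hc with h1 | h1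
  · left
    rw [inv_mul_eq_one] at h1
    rwa [← h1]
  · right
    exact ⟨s, hs, by rw [← h1]; group⟩

/-- **a pure involution** -/
theorem exists_pure {x : G} (hx : x ∈ T) (hxK : x ∉ W.K) (hxx : x * x ∈ UG S) :
    ∃ y ∈ T, y ∉ W.K ∧ y * y = 1 ∧ ((∃ ρ : F ≃+* F, ρ ≠ 1 ∧ ρ * ρ = 1 ∧ Fld nSp S y ρ) ∨
      ∃ ρ : F ≃+* F, frob F * ρ * ρ = 1 ∧ Gr S y ρ) := by
  obtain ⟨u, hu, ρ, h⟩ := C.had x hx
  have hyT : u * x ∈ T := mul_mem (UG_le_T C hu) hx
  have hyK : u * x ∉ W.K := by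
    intro h1
    apply hxK
    have h2 : u ∈ W.K := (mem_K_iff C).2 (Or.inl hu)
    have h3 := mul_mem (inv_mem h2) h1
    rwa [inv_mul_cancel_left] at h3
  have hmem : u * x * (u * x) ∈ UG S := by
    have e : u * x * (u * x) = u * (x * u * x⁻¹) * (x * x) := by group
    rw [e]
    exact mul_mem (mul_mem hu (T_U C hx hu)) hxx
  rcases h with ⟨-, h⟩ | ⟨-, h⟩
  · obtain ⟨h1, h2⟩ := eq_one_of_fld C.H.hZ hmem (fld_mul h h)
    refine ⟨u * x, hyT, hyK, h1, Or.inl ⟨ρ, ?_, h2, h⟩⟩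
    rintro rfl
    apply hyK
    rcases C.H.R _ hyT (fld_cent h) with h3 | h3
    · rw [h3]; exact one_mem _
    · rw [h3]; exact W.t_mem_K
  · obtain ⟨h1, h2⟩ := eq_one_of_fld C.H.hZ hmem (gr_mul h)
    exact ⟨u * x, hyT, hyK, h1, Or.inr ⟨ρ, h2, h⟩⟩

end Cfsg.Agent.StdSpFour.SplitA.InstOuter
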