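import Cfsg.Agent.StdSpFour.SplitA.InstNorm
import Cfsg.Agent.StdSpFour.XStart
import Cfsg.Agent.StdRank2.SpData

set_option autoImplicit false
set_option linter.unusedSectionVars false

/-!
# The instance of `Wr.Amb`: `hCZ`, `hC`, `A1` perfect

`pre`: `Pre W (core A t)`.  `hC`: `C_G(t)` normalises `A1 A2`.  `perfect_A1`: `A1` is perfect if `A` is.
-/

namespace Cfsg.Agent.StdSpFour.SplitA.Inst

open Subgroup
open Cfsg.Agent.TitsThree.B2Pkg Cfsg.Agent.TitsThree.RankTwoIdentB2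
  Cfsg.Agent.TitsThree.CoreB2 Cfsg.Agent.TitsThree.RankTwoIdx Cfsg.Agent.TitsThree.RankTwoRGD
  Cfsg.Agent.TitsThree.StdData
open Cfsg.Agent.StdRank2 Cfsg.Agent.StdRank2.OddLift Cfsg.Agent.StdRank2.B2Lift Cfsg.Agent.StdRank2.B2Std
  Cfsg.Agent.StdRank2.B2Torus Cfsg.Agent.StdRank2.B2Act Cfsg.Agent.StdRank2.B2Act.Std
  Cfsg.Agent.StdRank2.B2Par Cfsg.Agent.StdRank2.B2Par.Std
  Cfsg.Agent.StdRank2.B2Amb Cfsg.Agent.StdRank2.SpFrame Cfsg.Agent.StdRank2.SpSelf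
open Cfsg.Agent.StdEven Cfsg.Agent.StdEven.CoreQuot Cfsg.Agent.StdEven.Loc Cfsg.Agent.StdEven.Syl
open Cfsg.Agent.Schreier.Basic
open Cfsg.Agent.StdSpFour.XStart
open scoped commutatorElement Pointwise

universe u

section W

variable {G : Type u} [Group G] (W : Wr G)

/-- elements of `S1` centralising `S1` lie in `Z` -/
theorem mem_Z_of_comm {a : G} (ha : a ∈ W.S1) (hc : ∀ b ∈ W.S1, a * b = b * a) : a ∈ W.Z := by
  have hne : ∀ M : Subgroup G, Nat.card M = W.q ^ 3 → ∃ m ∈ M, m ∉ W.Z := by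
    intro M hM
    by_contra h
    push Not at h
    have hq := W.q4
    have hpos : 0 < W.q ^ 2 := by positivity
    have : Finite W.Z := Nat.finite_of_card_ne_zero (by rw [W.cardZ]; omega)
    have h1 : Nat.card M ≤ Nat.card W.Z := Subgroup.card_le_of_le h
    rw [hM, W.cardZ, pow_succ] at h1
    nlinarith
  obtain ⟨ma, hma, hma'⟩ := hne W.Ma W.cardMa
  obtain ⟨mb, hmb, hmb'⟩ := hne W.Mb W.cardMb
  obtain ⟨m, hm, n, hn, rfl⟩ := W.sup a ha
  by_contra hZ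
  have h1 := hc m (W.Ma_le hm)
  have h2 : m * n = n * m := by
    have h3 : m * (m * n) = m * (n * m) := by rw [← h1]; group
    exact mul_left_cancel h3
  have h3 : m ∈ W.Z ∨ n ∈ W.Z := by
    by_contra h4
    push Not at h4
    exact W.nc m hm h4.1 n hn h4.2 h2
  rcases h3 with h3 | h3
  · have h4 : m * n ∈ W.Mb := mul_mem (W.Z_Mb h3) hn
    exact W.nc ma hma hma' _ h4 hZ (hc ma (W.Ma_le hma)).symm
  · have h4 : m * n ∈ W.Ma := mul_mem hm (W.Z_Ma h3)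
    exact W.nc _ h4 hZ mb hmb hmb' (hc mb (W.Mb_le hmb))

/-- `Z(U) ≤ {z z^t}` -/
theorem mem_DZ_of_comm {x : G} (hx : x ∈ W.U) (hc : ∀ u ∈ W.U, x * u = u * x) : x ∈ DZ W := by
  obtain ⟨a, ha, rfl⟩ := hx
  refine ⟨a, mem_Z_of_comm W ha fun b hb => ?_, rfl⟩
  have h1 := hc _ ⟨b, hb, rfl⟩
  rw [W.mul_comp (W.S1_le ha) (W.S1_le hb), W.mul_comp (W.S1_le hb) (W.S1_le ha)] at h1
  exact (W.comp_eq (mul_mem ha hb) (mul_mem ha hb) (mul_mem hb ha) (mul_mem hb ha) h1).1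

theorem DZ_le_U : DZ W ≤ W.U := by
  rintro _ ⟨z, hz, rfl⟩
  exact ⟨z, W.Ma_le (W.Z_Ma hz), rfl⟩

/-- an element normalising `U` normalises `Z(U)` -/
theorem conj_DZ [Finite G] {c : G} (hc : ∀ u ∈ W.U, c * u * c⁻¹ ∈ W.U) : ∀ z ∈ DZ W, c * z * c⁻¹ ∈ DZ W := by
  intro z hz
  refine mem_DZ_of_comm W (hc z (DZ_le_U W hz)) fun u hu => ?_
  have h1 := conj_inv_mem hc u hu
  have h2 := R_comm W (T_le_R W (W.U_le_T h1)) hz
  calc c * z * c⁻¹ * u = c * (z * (c⁻¹ * u * c)) * c⁻¹ := by group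
    _ = c * (c⁻¹ * u * c * z) * c⁻¹ := by rw [h2]
    _ = u * (c * z * c⁻¹) := by group

/-- a central 2-element of `A1` is trivial -/
theorem central_two {c : G} (hc : c ∈ W.A1) (hcen : ∀ a ∈ W.A1, c * a = a * c) {n : ℕ} (hn : c ^ 2 ^ n = 1) :
    c = 1 := by
  have h1 : IsPGroup 2 (zpowers c) := by
    rintro ⟨x, k, rfl⟩
    refine ⟨n, Subtype.ext ?_⟩
    show (c ^ k) ^ 2 ^ n = 1
    rw [← zpow_natCast, ← zpow_mul, mul_comm, zpow_mul, zpow_natCast, hn, one_zpow]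
  obtain ⟨a, ha, h2⟩ := W.syl (zpowers c) (by rw [zpowers_le]; exact hc) h1
  have h3 := h2 c (mem_zpowers c)
  have h4 : a⁻¹ * c * a = c := by
    rw [mul_assoc, hcen a ha]; group
  rw [h4] at h3
  exact W.centre c h3 hcen

/-- **`A1` is perfect if `A` is** -/
theorem perfect_A1 [Finite G] (hp : W.A ≤ ⁅W.A, W.A⁆) : W.A1 ≤ ⁅W.A1, W.A1⁆ := by
  -- the diagonal of `[A1, A1]`
  have hle : ⁅W.A1, W.A1⁆ ≤ W.A1 := commutator_le.2 fun a ha b hb => by
    rw [commutatorElement_def]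
    exact mul_mem (mul_mem (mul_mem ha hb) (inv_mem ha)) (inv_mem hb)
  have h1 : ⁅W.A, W.A⁆ ≤ W.diag ⁅W.A1, W.A1⁆ hle := by
    rw [commutator_le]
    rintro _ ⟨a, ha, rfl⟩ _ ⟨b, hb, rfl⟩
    refine ⟨⁅a, b⁆, commutator_mem_commutator ha hb, ?_⟩
    rw [commutatorElement_def, commutatorElement_def]
    have e : ∀ x ∈ W.A1, (x * W.sw x)⁻¹ = x⁻¹ * W.sw x⁻¹ := by
      intro x hx
      rw [mul_inv_rev, ← W.sw_inv]
      exact (W.comm_sw (inv_mem hx) (inv_mem hx)).symm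
    rw [e a ha, e b hb, W.mul_comp ha hb, W.mul_comp (mul_mem ha hb) (inv_mem ha),
      W.mul_comp (mul_mem (mul_mem ha hb) (inv_mem ha)) (inv_mem hb)]
  have h2 : ∀ s ∈ W.S1, s ∈ ⁅W.A1, W.A1⁆ := by
    intro s hs
    obtain ⟨d, hd, e⟩ := h1 (hp ⟨s, W.S1_le hs, rfl⟩)
    have hdA := hle hd
    obtain ⟨c, hc⟩ : ∃ c, c = d⁻¹ * s := ⟨_, rfl⟩
    have hcA : c ∈ W.A1 := by rw [hc]; exact mul_mem (inv_mem hdA) (W.S1_le hs)
    have hcc : c = W.sw (d * s⁻¹) := by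
      rw [hc, W.sw_mul, W.sw_inv]
      calc d⁻¹ * s = d⁻¹ * (s * W.sw s) * (W.sw s)⁻¹ := by group
        _ = W.sw d * (W.sw s)⁻¹ := by rw [e]; group
    have hcA2 : c ∈ W.A2 := by
      rw [hcc]
      exact W.sw_mem_A2 (mul_mem hdA (inv_mem (W.S1_le hs)))
    have hcen : ∀ a ∈ W.A1, c * a = a * c := fun a ha => (W.comm' ha hcA2).symm
    -- `c` has odd order
    have hodd : Odd (orderOf c) := by
      obtain ⟨k, m, hm, hkm⟩ := Nat.exists_eq_two_pow_mul_odd (n := orderOf c) (orderOf_pos c).ne'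
      have h3 : (c ^ m) ^ 2 ^ k = 1 := by rw [← pow_mul, mul_comm, ← hkm, pow_orderOf_eq_one]
      have h4 : c ^ m = 1 := central_two W (pow_mem hcA m) (fun a ha => by
        exact (Commute.pow_left (show Commute c a from hcen a ha) m)) h3
      exact Odd.of_dvd_nat hm (orderOf_dvd_of_pow_eq_one h4)
    have hsd : s = d * c := by rw [hc]; group
    -- modulo `[A1, A1]`
    have hn : ∀ k : ℕ, s ^ k * (c ^ k)⁻¹ ∈ ⁅W.A1, W.A1⁆ := by
      intro k
      have hcs : Commute c s := hcen s (W.S1_le hs)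
      rw [← inv_pow, ← (hcs.inv_left.symm).mul_pow, hsd, mul_inv_cancel_right]
      exact pow_mem hd k
    obtain ⟨j, hj⟩ := hodd
    have h5 : s ^ orderOf c ∈ ⁅W.A1, W.A1⁆ := by
      have := hn (orderOf c)
      rwa [pow_orderOf_eq_one, inv_one, mul_one] at this
    have h6 := W.pow4 hs
    have h7 : s = (s ^ orderOf c) ^ orderOf c := by
      rw [← pow_mul, hj]
      have e2 : (2 * j + 1) * (2 * j + 1) = 4 * (j * j + j) + 1 := by ring
      rw [e2, pow_add, pow_mul, h6, one_pow, one_mul, pow_one]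
    rw [h7]
    exact pow_mem h5 _
  apply W.gen
  intro a ha s hs
  have h3 := h2 s hs
  have h4 : ⁅a, s⁆ ∈ ⁅W.A1, W.A1⁆ := commutator_mem_commutator ha (W.S1_le hs)
  have e : a * s * a⁻¹ = ⁅a, s⁆ * s := by rw [commutatorElement_def]; group
  rw [e]
  exact mul_mem h4 h3

end W

section H

variable {F : Type*} [Field F] [Finite F] [CharP F 2]
variable {G : Type u} [Group G] [Finite G] {A : Subgroup G} {t : G} {T : Subgroup G}

theorem U_comm_z₁ (S : Std (stdSp F) ↥A) {u : ↥A} (hu : u ∈ S.U) (c : F) :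
    u * S.m.z₁ (tt c) = S.m.z₁ (tt c) * u := by
  obtain ⟨a, p, b', q, rfl⟩ := exists_nf S.rel hu
  have c1 : Commute (S.m.x a) (S.m.z₁ (tt c)) := x_z₁_comm S a c
  have c2 : Commute (S.m.z₁ p) (S.m.z₁ (tt c)) := by
    change S.m.z₁ p * S.m.z₁ (tt c) = S.m.z₁ (tt c) * S.m.z₁ p
    rw [← S.rel.z₁_mul, ← S.rel.z₁_mul, eq_tt p, tt_mul, tt_mul, add_comm]
  have c3 : Commute (S.m.y b') (S.m.z₁ (tt c)) := y_z₁_comm S b' c
  have c4 : Commute (S.m.z₂ q) (S.m.z₁ (tt c)) := (z₁_z₂_comm S c q.c).symm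
  exact (((c1.mul_left c2).mul_left c3).mul_left c4).eq

theorem WG_comm (S : Std (stdSp F) ↥A) {w u : G} (hw : w ∈ XStart.WG S) (hu : u ∈ UG S) : w * u = u * w := by
  obtain ⟨v, hv, rfl⟩ := hw
  obtain ⟨u, hu, rfl⟩ := hu
  obtain ⟨b, c, rfl⟩ := (SpSelf.mem_inf S).1 hv
  have h1 := U_comm_z₁ S hu c
  have h2 := U_comm_y S hu b
  show ((S.m.z₁ (tt c) * S.m.y b : ↥A) : G) * u = u * ((S.m.z₁ (tt c) * S.m.y b : ↥A) : G)
  have h3 : S.m.z₁ (tt c) * S.m.y b * u = u * (S.m.z₁ (tt c) * S.m.y b) := by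
    rw [mul_assoc, ← h2, ← mul_assoc, ← h1, mul_assoc]
  exact congrArg Subtype.val h3

theorem WG_le_UG (S : Std (stdSp F) ↥A) : XStart.WG S ≤ UG S := by
  rintro _ ⟨v, hv, rfl⟩
  obtain ⟨b, c, rfl⟩ := (SpSelf.mem_inf S).1 hv
  exact ⟨_, mul_mem (z₁_mem (tt c)) (y_mem b), rfl⟩

/-- **`hCZ`, `O_odd`, `O_t`, `O_A`** -/
theorem pre (H : Hyp A t T) (S : Std (stdSp F) ↥A) (W : Wr G) (ht : W.t = t) (hU : W.U = UG S)
    (hF : 3 ≤ Nat.card F) (hO : ∀ o ∈ core A t, ∀ a ∈ W.A1, o * a = a * o) : Pre W (core A t) where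
  hCZ := by
    intro x hxt hxz
    rw [ht] at hxt
    have hN := H.mem_normalizer_core hxt
    have hWG : ∀ w ∈ XStart.WG S, x * w = w * x := by
      intro w hw
      have h1 : w ∈ DZ W := mem_DZ_of_comm W (by rw [hU]; exact WG_le_UG S hw) (by
        intro u hu
        rw [hU] at hu
        exact WG_comm S hw hu)
      obtain ⟨z, hz, rfl⟩ := h1
      exact hxz z hz
    have hmem : ∀ v ∈ S.VI ⊓ S.VJ, x * (v : G) = v * x := fun v hv => hWG _ ⟨v, hv, rfl⟩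
    have hB := B2Conn.base_self H S hF
    obtain ⟨u, s, m, r, h1⟩ := hB.centZ (pr A t ⟨x, hN⟩) (H.pr_comm_iff.2 hxt)
      (fun u => by
        rw [B2Conn.base_zs]
        show pr A t _ * pr A t _ = pr A t _ * pr A t _
        rw [← map_mul, ← map_mul]
        congr 1
        exact Subtype.ext (hmem _ ((SpSelf.mem_inf S).2 ⟨u, 0, by
          rw [← tt_one, mul_one' S.rel.z₁_mul, one_mul]⟩)))
      (fun u => by
        rw [B2Conn.base_zl]
        show pr A t _ * pr A t _ = pr A t _ * pr A t _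
        rw [← map_mul, ← map_mul]
        congr 1
        exact Subtype.ext (hmem _ ((SpSelf.mem_inf S).2 ⟨0, u, by
          rw [add_zero' S.rel.y_add, mul_one]⟩)))
    have h2 : NormJ.IsJ (B2Conn.base H S) (pr A t ⟨x, hN⟩) := by
      rcases h1 with h1 | h1
      · left
        exact ⟨u, s, m, r, by rw [h1, Base.v1]; simp only [mul_assoc]⟩
      · right
        refine ⟨u, s, m, r, ?_⟩
        rw [h1, ← mul_assoc, (B2Conn.base H S).tt, one_mul, Base.v1]; simp only [mul_assoc]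
    obtain ⟨n, hn, hn'⟩ := mem_im.1 ((isJ_iff H S).1 h2)
    have h3 : (n : G)⁻¹ * x ∈ core A t := by
      have h4 : pr A t (n⁻¹ * ⟨x, hN⟩) = 1 := by rw [map_mul, map_inv, hn', inv_mul_cancel]
      exact pr_eq_one.1 h4
    refine ⟨n, ?_, _, h3, by group⟩
    rcases (mem_JG S H.tt (fun a ha => comm_of_centralizer H.htA ha)).1 hn with h4 | h4
    · rw [← hU] at h4
      exact W.U_le_K h4
    · rw [← hU] at h4
      have h5 : (n : G) = t * (t * n) := by rw [← mul_assoc, H.tt, one_mul]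
      rw [h5]
      exact mul_mem (ht ▸ W.t_mem_K) (W.U_le_K h4)
  O_odd := H.odd_core
  O_t := fun o ho => by rw [ht]; exact H.comm_t ho
  O_A := hO

/-- **`hC`: `C_G(t)` normalises `A1 A2`** -/
theorem hC (H : Hyp A t T) (S : Std (stdSp F) ↥A) (W : Wr G) (hA : W.A = A) (ht : W.t = t) (hU : W.U = UG S)
    (hP : Pre W (core A t)) : ∀ c, c * W.t = W.t * c → ∀ x ∈ W.B, c * x * c⁻¹ ∈ W.B := by
  intro c hc
  have hcN : c ∈ normalizer (A : Set G) := H.mem_normalizer (by rw [← ht]; exact hc)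
  have hS : IsSyl (UG S) A := SpData.isSyl_U H.hZ S
  obtain ⟨n, hn, h1⟩ := hS.exists_conj (X := (UG S).map (MulAut.conj c).toMonoidHom) (hS.two.map _) (by
    rintro _ ⟨x, hx, rfl⟩
    exact conj_mem_of_mem_normalizer hcN (hS.le hx))
  have hnt : n * W.t = W.t * n := by
    rw [ht]
    exact (comm_of_centralizer H.htA hn).symm
  have h2 : (n * c) * W.t = W.t * (n * c) := by
    calc n * c * W.t = n * (c * W.t) := by group
      _ = (n * W.t) * c := by rw [hc]; group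
      _ = W.t * (n * c) := by rw [hnt]; group
  have h3 : ∀ u ∈ W.U, (n * c) * u * (n * c)⁻¹ ∈ W.U := by
    intro u hu
    rw [hU] at hu ⊢
    have h4 := h1 (c * u * c⁻¹) (conj_mem_map c hu)
    have e : n * (c * u * c⁻¹) * n⁻¹ = (n * c) * u * (n * c)⁻¹ := by group
    rwa [e] at h4
  have h4 := hP.conj_B h2 (conj_DZ W h3) (by
    intro a ha
    rw [hA] at ha ⊢
    have h5 := conj_mem_of_mem_normalizer hcN ha
    have e : n * c * a * (n * c)⁻¹ = n * (c * a * c⁻¹) * n⁻¹ := by group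
    rw [e]
    exact mul_mem (mul_mem hn h5) (inv_mem hn))
  have hnB : n ∈ W.B := W.A_le_B (by rw [hA]; exact hn)
  intro x hx
  have h5 := mul_mem (mul_mem (inv_mem hnB) (h4 x hx)) hnB
  have e : n⁻¹ * (n * c * x * (n * c)⁻¹) * n = c * x * c⁻¹ := by group
  rwa [e] at h5

end H

end Cfsg.Agent.StdSpFour.SplitA.Inst
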