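import Cfsg.Agent.StdSpFour.SplitA.InstY
import Cfsg.Agent.StdRank2.B2Inst

/-!
# S1778, `Sp₄(q)`, case (A), split: the instance of `Wr.Syl`
-/

set_option autoImplicit false
set_option linter.unusedSectionVars false

namespace Cfsg.Agent.StdSpFour.SplitA.InstSyl

open Subgroup
open Cfsg.Agent.TitsThree.B2Pkg Cfsg.Agent.TitsThree.RankTwoIdentB2
  Cfsg.Agent.TitsThree.CoreB2 Cfsg.Agent.TitsThree.RankTwoIdx Cfsg.Agent.TitsThree.RankTwoRGD
  Cfsg.Agent.TitsThree.StdData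
open Cfsg.Agent.StdRank2.OddLift Cfsg.Agent.StdRank2.B2Lift Cfsg.Agent.StdRank2.B2Std
  Cfsg.Agent.StdRank2.B2Inst
  Cfsg.Agent.StdRank2.OutB2Aut Cfsg.Agent.StdRank2.OutB2Tw Cfsg.Agent.StdRank2.OutB2G
  Cfsg.Agent.StdRank2.OutB2Data Cfsg.Agent.StdRank2.OutSpG Cfsg.Agent.StdRank2.OutSpGraph
  Cfsg.Agent.StdRank2.OutB2Inv Cfsg.Agent.StdRank2.OutSpInv Cfsg.Agent.StdRank2.OutSpCyc
open Cfsg.Agent.StdRank2 Cfsg.Agent.StdEven Cfsg.Agent.StdEven.CoreQuot Cfsg.Agent.StdEven.Loc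
open Cfsg.Agent.StdEven.Syl
open Cfsg.Agent.StdSpFour Cfsg.Agent.StdSpFour.SplitA.YMap Cfsg.Agent.StdSpFour.SplitA.InstOuter

universe u

/-! ### Facts on `W` -/

section W

variable {G : Type u} [Group G] (W : Wr G)

theorem eq_one_of_central {a : G} (ha : a ∈ W.A1) (h2 : IsTwo a) (hcen : ∀ b ∈ W.A1, a * b = b * a) : a = 1 := by
  obtain ⟨b, hb, h4⟩ := W.syl (zpowers a) (by rw [zpowers_le]; exact ha) h2.isPGroup_zpowers
  have h5 := h4 a (mem_zpowers a)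
  have h6 : b⁻¹ * a * b = a := by
    rw [mul_assoc, hcen b hb, ← mul_assoc, inv_mul_cancel, one_mul]
  rw [h6] at h5
  exact W.centre a h5 hcen

theorem central_of_dg {a : G} (ha : a ∈ W.A1) (h : W.dg a = 1) : ∀ b ∈ W.A1, a * b = b * a := by
  have h3 : W.sw a = a⁻¹ := eq_inv_of_mul_eq_one_right h
  exact comm_of_inter W ha (by rw [h3]; exact inv_mem ha)

/-- 2-elements of `A1` lying over `U` belong to `S1` -/
theorem mem_S1_of_dg {x : G} (hx : x ∈ W.A1) (h2 : IsTwo x) (hU : W.dg x ∈ W.U) : x ∈ W.S1 := by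
  obtain ⟨r, hr, e⟩ := hU
  change W.dg x = W.dg r at e
  have haA : r⁻¹ * x ∈ W.A1 := mul_mem (inv_mem (W.S1_le hr)) hx
  have h3 : W.dg (r⁻¹ * x) = 1 := by
    rw [W.dg_mul (inv_mem (W.S1_le hr)) hx, e, W.dg_inv (W.S1_le hr), inv_mul_cancel]
  have hcen := central_of_dg W haA h3
  obtain ⟨k, hk⟩ := h2
  obtain ⟨l, hl⟩ := W.two ⟨r, hr⟩
  have hl' : r ^ 2 ^ l = 1 := congrArg Subtype.val hl
  have hrr : (r⁻¹ * x) ^ 2 ^ (k + l) = 1 := by
    have hc : Commute r (r⁻¹ * x) := (hcen r (W.S1_le hr)).symm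
    have e2 : r * (r⁻¹ * x) = x := by group
    have e3 : (r * (r⁻¹ * x)) ^ 2 ^ (k + l) = 1 := by rw [e2, pow_add, pow_mul, hk, one_pow]
    rw [hc.mul_pow] at e3
    have e4 : r ^ 2 ^ (k + l) = 1 := by rw [add_comm, pow_add, pow_mul, hl', one_pow]
    rwa [e4, one_mul] at e3
  have h7 := eq_one_of_central W haA ⟨_, hrr⟩ hcen
  rw [inv_mul_eq_one] at h7
  rw [← h7]
  exact hr

/-- `x ∈ C(t)` normalising `A1` and `U` normalises `S1` -/
theorem conj_S1 {x s : G} (xt : x * W.t = W.t * x) (xA : ∀ a ∈ W.A1, x * a * x⁻¹ ∈ W.A1)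
    (xU : ∀ u ∈ W.U, x * u * x⁻¹ ∈ W.U) (hs : s ∈ W.S1) : x * s * x⁻¹ ∈ W.S1 := by
  apply mem_S1_of_dg W (xA s (W.S1_le hs))
  · obtain ⟨k, hk⟩ := W.two ⟨s, hs⟩
    exact IsTwo.conj ⟨k, congrArg Subtype.val hk⟩ x
  · have h1 := xU _ (W.dg_mem_U hs)
    have e : W.dg (x * s * x⁻¹) = x * W.dg s * x⁻¹ := by
      have xt' : x⁻¹ * W.t = W.t * x⁻¹ := by
        calc x⁻¹ * W.t = x⁻¹ * (W.t * x) * x⁻¹ := by group
          _ = x⁻¹ * (x * W.t) * x⁻¹ := by rw [xt]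
          _ = _ := by group
      show x * s * x⁻¹ * (W.t * (x * s * x⁻¹) * W.t) = x * (s * (W.t * s * W.t)) * x⁻¹
      calc x * s * x⁻¹ * (W.t * (x * s * x⁻¹) * W.t) = x * s * x⁻¹ * (W.t * x) * s * (x⁻¹ * W.t) := by group
        _ = x * s * x⁻¹ * (x * W.t) * s * (W.t * x⁻¹) := by rw [xt, xt']
        _ = _ := by group
    rw [e]
    exact h1

theorem conj_S2 {x s : G} (xt : x * W.t = W.t * x) (hS : ∀ s ∈ W.S1, x * s * x⁻¹ ∈ W.S1) (hs : s ∈ W.S2) :
    x * s * x⁻¹ ∈ W.S2 := by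
  rw [W.mem_S2] at hs ⊢
  have h1 := hS _ hs
  have xt' : x⁻¹ * W.t = W.t * x⁻¹ := by
    calc x⁻¹ * W.t = x⁻¹ * (W.t * x) * x⁻¹ := by group
      _ = x⁻¹ * (x * W.t) * x⁻¹ := by rw [xt]
      _ = _ := by group
  have e : W.sw (x * s * x⁻¹) = x * W.sw s * x⁻¹ := by
    show W.t * (x * s * x⁻¹) * W.t = x * (W.t * s * W.t) * x⁻¹
    calc W.t * (x * s * x⁻¹) * W.t = (W.t * x) * s * (x⁻¹ * W.t) := by group
      _ = (x * W.t) * s * (W.t * x⁻¹) := by rw [xt, xt']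
      _ = _ := by group
  rw [e]
  exact h1

/-- `x ∈ C(t)` normalising `A1` and `U` normalises `T = S1 S2` -/
theorem conj_T {x u : G} (xt : x * W.t = W.t * x) (xA : ∀ a ∈ W.A1, x * a * x⁻¹ ∈ W.A1)
    (xU : ∀ u ∈ W.U, x * u * x⁻¹ ∈ W.U) (hu : u ∈ W.T) : x * u * x⁻¹ ∈ W.T := by
  obtain ⟨a, ha, b, hb, rfl⟩ := hu
  have hS : ∀ s ∈ W.S1, x * s * x⁻¹ ∈ W.S1 := fun s hs => conj_S1 W xt xA xU hs
  exact ⟨_, hS a ha, _, conj_S2 W xt hS hb, by group⟩

theorem t_T {u : G} (hu : u ∈ W.T) : W.t * u * W.t⁻¹ ∈ W.T := by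
  obtain ⟨a, ha, b, hb, rfl⟩ := hu
  rw [W.tinv]
  refine ⟨W.sw b, hb, W.sw a, W.sw_mem_S2 ha, ?_⟩
  have h1 : W.t * (a * b) * W.t = W.sw (a * b) := rfl
  rw [h1, W.comm' (W.S1_le ha) (W.S2_le hb), W.sw_mul]

theorem two_T : IsPGroup 2 W.T := by
  rintro ⟨_, a, ha, b, hb, rfl⟩
  obtain ⟨k, hk⟩ := W.two ⟨a, ha⟩
  obtain ⟨l, hl⟩ := W.two ⟨_, hb⟩
  have hk' : a ^ 2 ^ k = 1 := congrArg Subtype.val hk
  have hl' : (W.swHom b) ^ 2 ^ l = 1 := congrArg Subtype.val hl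
  rw [← map_pow] at hl'
  have hb' : b ^ 2 ^ l = 1 := by
    have := congrArg W.sw hl'
    rw [W.sw_one] at this
    rwa [show W.sw (W.swHom (b ^ 2 ^ l)) = b ^ 2 ^ l from W.sw_sw _] at this
  refine ⟨k + l, Subtype.ext ?_⟩
  show (a * b) ^ 2 ^ (k + l) = 1
  have hc : Commute a b := W.comm' (W.S1_le ha) (W.S2_le hb)
  rw [hc.mul_pow]
  have e1 : a ^ 2 ^ (k + l) = 1 := by rw [pow_add, pow_mul, hk', one_pow]
  have e2 : b ^ 2 ^ (k + l) = 1 := by rw [add_comm, pow_add, pow_mul, hb', one_pow]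
  rw [e1, e2, mul_one]

end W

/-! ### The Sylow subgroup `P` -/

section P

variable {G : Type u} [Group G] [Finite G] {W : Wr G}

theorem mem_normalizer_of {H : Subgroup G} {g : G} (h : ∀ a ∈ H, g * a * g⁻¹ ∈ H) : g ∈ normalizer (H : Set G) := by
  rw [mem_normalizer_iff]
  intro a
  refine ⟨h a, fun h1 => ?_⟩
  have := conj_inv_mem h _ h1
  have e : g⁻¹ * (g * a * g⁻¹) * g = a := by group
  rwa [e] at this

theorem conj_mem_of {H : Subgroup G} {g : G} (h : g ∈ normalizer (H : Set G)) : ∀ a ∈ H, g * a * g⁻¹ ∈ H :=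
  fun a ha => (mem_normalizer_iff.1 h a).1 ha

theorem T0_T {O T0 : Subgroup G} (hA : W.Amb O) (ht : W.t ∈ T0) (h1 : ∀ x ∈ T0, x * W.t = W.t * x)
    (h2 : ∀ x ∈ T0, ∀ u ∈ W.U, x * u * x⁻¹ ∈ W.U) {x : G} (hx : x ∈ T0) : x ∈ normalizer (W.T : Set G) := by
  rcases hA.perm x (hA.hC x (h1 x hx)) with h3 | h3
  · exact mem_normalizer_of fun u hu => conj_T W (h1 x hx) h3 (h2 x hx) hu
  · have h4 : x * W.t ∈ normalizer (W.T : Set G) := by
      refine mem_normalizer_of fun u hu => conj_T W ?_ ?_ ?_ hu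
      · rw [mul_assoc, W.tt, mul_one, ← mul_assoc, ← h1 x hx, mul_assoc, W.tt, mul_one]
      · intro a ha
        have h5 := h3 a ha
        rw [W.mem_A2] at h5
        have xt' : x⁻¹ * W.t = W.t * x⁻¹ := (h1 _ (inv_mem hx))
        have e : x * W.t * a * (x * W.t)⁻¹ = W.sw (x * a * x⁻¹) := by
          show _ = W.t * (x * a * x⁻¹) * W.t
          rw [mul_inv_rev, W.tinv]
          calc x * W.t * a * (W.t * x⁻¹) = (x * W.t) * a * (W.t * x⁻¹) := by group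
            _ = (W.t * x) * a * (x⁻¹ * W.t) := by rw [h1 x hx, xt']
            _ = _ := by group
        rw [e]
        exact h5
      · exact h2 _ (mul_mem hx ht)
    have h5 : W.t ∈ normalizer (W.T : Set G) := mem_normalizer_of fun u hu => t_T W hu
    have h6 := mul_mem h4 h5
    rwa [mul_assoc, W.tt, mul_one] at h6

/-- **the Sylow 2-subgroup `P` of `N(B)` above `T0` and `T`** -/
theorem exists_P {O T0 : Subgroup G} (hA : W.Amb O) (two : IsPGroup 2 T0) (ht : W.t ∈ T0)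
    (h1 : ∀ x ∈ T0, x * W.t = W.t * x) (h2 : ∀ x ∈ T0, ∀ u ∈ W.U, x * u * x⁻¹ ∈ W.U) :
    ∃ P : Subgroup G, IsSyl P (normalizer (W.B : Set G)) ∧ T0 ≤ P ∧ W.T ≤ P := by
  have : Fact (Nat.Prime 2) := ⟨Nat.prime_two⟩
  have h3 : T0 ≤ normalizer (W.T : Set G) := fun x hx => T0_T hA ht h1 h2 hx
  have h4 : IsPGroup 2 (T0 ⊔ W.T : Subgroup G) := IsPGroup.to_sup_of_normal_right' two (two_T W) h3
  have h5 : T0 ⊔ W.T ≤ normalizer (W.B : Set G) := by
    rw [sup_le_iff]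
    constructor
    · exact fun x hx => mem_normalizer_of (hA.hC x (h1 x hx))
    · intro x hx
      apply le_normalizer
      obtain ⟨a, ha, b, hb, rfl⟩ := hx
      exact ⟨a, W.S1_le ha, b, W.S2_le hb, rfl⟩
  obtain ⟨P, hP, h6⟩ := exists_isSyl h4 h5
  exact ⟨P, hP, le_sup_left.trans h6, le_sup_right.trans h6⟩

/-- `P ∩ A1 = S1` -/
theorem mem_S1 {P : Subgroup G} (hP : IsPGroup 2 P) (hT : W.T ≤ P) {x : G} (hx : x ∈ P) (hxA : x ∈ W.A1) :
    x ∈ W.S1 := by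
  have h1 : W.S1 ≤ P ⊓ W.A1 := by
    intro s hs
    exact ⟨hT ⟨s, hs, 1, one_mem _, (mul_one s).symm⟩, W.S1_le hs⟩
  have h2 : IsPGroup 2 (P ⊓ W.A1 : Subgroup G) := hP.to_le inf_le_left
  obtain ⟨a, ha, h3⟩ := W.syl (P ⊓ W.A1) inf_le_right h2
  have h4 : Nat.card (P ⊓ W.A1 : Subgroup G) ≤ Nat.card W.S1 := by
    refine Nat.card_le_card_of_injective (fun x : (P ⊓ W.A1 : Subgroup G) => (⟨a⁻¹ * x * a, h3 x x.2⟩ : W.S1)) ?_
    intro x y e
    have e' : a⁻¹ * (x : G) * a = a⁻¹ * (y : G) * a := congrArg Subtype.val e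
    exact Subtype.ext (mul_left_cancel (mul_right_cancel e'))
  have h5 : W.S1 = P ⊓ W.A1 := Subgroup.eq_of_le_of_card_ge h1 h4
  rw [h5]
  exact ⟨hx, hxA⟩

end P

/-! ### The package of `A1` -/

section Pkg

variable {G : Type u} [Group G] [Finite G] (W : Wr G)

/-- `A1 → A`, `a ↦ a a^t` -/
def dgHom : ↥W.A1 →* ↥W.A where
  toFun a := ⟨W.dg a, a, a.2, rfl⟩
  map_one' := Subtype.ext W.dg_one
  map_mul' a b := Subtype.ext (W.dg_mul a.2 b.2)

theorem dgHom_coe (a : ↥W.A1) : ((dgHom W a : ↥W.A) : G) = W.dg a := rfl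

theorem ker_le : (dgHom W).ker ≤ center ↥W.A1 := by
  intro a ha
  rw [MonoidHom.mem_ker] at ha
  have h1 : W.dg (a : G) = 1 := congrArg Subtype.val ha
  rw [mem_center_iff]
  intro b
  exact Subtype.ext (central_of_dg W a.2 h1 b b.2).symm

theorem odd_center : Odd (Nat.card (center ↥W.A1)) := by
  by_contra h
  rw [Nat.not_odd_iff_even, even_iff_two_dvd] at h
  have : Fact (Nat.Prime 2) := ⟨Nat.prime_two⟩
  obtain ⟨z, hz⟩ := exists_prime_orderOf_dvd_card' 2 h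
  have h1 : ((z : ↥W.A1) : G) = 1 := by
    apply eq_one_of_central W (z : ↥W.A1).2
    · refine ⟨1, ?_⟩
      have h2 := pow_orderOf_eq_one z
      rw [hz] at h2
      have h3 := congrArg (fun z : center ↥W.A1 => ((z : ↥W.A1) : G)) h2
      simpa using h3
    · intro b hb
      exact (congrArg Subtype.val (mem_center_iff.1 z.2 ⟨b, hb⟩)).symm
  have h2 : z = 1 := Subtype.ext (Subtype.ext h1)
  rw [h2, orderOf_one] at hz
  omega

theorem cov : Cov (dgHom W) where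
  surj := by
    rintro ⟨_, a, ha, rfl⟩
    exact ⟨⟨a, ha⟩, rfl⟩
  central := ker_le W
  odd := by
    have h1 : Nat.card (dgHom W).ker ∣ Nat.card (center ↥W.A1) := card_dvd_of_le (ker_le W)
    exact Odd.of_dvd_nat (odd_center W) h1

/-- `A1 / Z(A1)` is simple if `A / Z(A)` is -/
theorem simple_A1 (hp : _root_.commutator ↥W.A1 = ⊤) (hs : IsSimpleGroup (↥W.A ⧸ center ↥W.A)) :
    IsSimpleGroup (↥W.A1 ⧸ center ↥W.A1) := by
  set g : ↥W.A1 →* ↥W.A ⧸ center ↥W.A := (QuotientGroup.mk' (center ↥W.A)).comp (dgHom W) with hg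
  have hsurj : Function.Surjective g := (QuotientGroup.mk'_surjective _).comp (cov W).surj
  have hker : g.ker = center ↥W.A1 := by
    apply le_antisymm
    · intro a ha
      have h1 : dgHom W a ∈ center ↥W.A := by
        rw [MonoidHom.mem_ker] at ha
        exact (QuotientGroup.eq_one_iff _).1 ha
      -- `b ↦ [a, b]` is a homomorphism to the centre
      have h2 : ∀ b : ↥W.A1, a * b * a⁻¹ * b⁻¹ ∈ center ↥W.A1 := by
        intro b
        apply ker_le W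
        rw [MonoidHom.mem_ker]
        have h3 := mem_center_iff.1 h1 (dgHom W b)
        rw [map_mul, map_mul, map_mul, map_inv, map_inv, ← h3]
        group
      let φ : ↥W.A1 →* ↥(center ↥W.A1) :=
        { toFun := fun b => ⟨a * b * a⁻¹ * b⁻¹, h2 b⟩
          map_one' := Subtype.ext (by show a * 1 * a⁻¹ * 1⁻¹ = 1; group)
          map_mul' := fun b c => Subtype.ext (by
            show a * (b * c) * a⁻¹ * (b * c)⁻¹ = (a * b * a⁻¹ * b⁻¹) * (a * c * a⁻¹ * c⁻¹)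
            have h3 := mem_center_iff.1 (h2 c) b
            calc a * (b * c) * a⁻¹ * (b * c)⁻¹ = (a * b * a⁻¹) * (a * c * a⁻¹ * c⁻¹) * b⁻¹ := by group
              _ = (a * b * a⁻¹ * b⁻¹) * (b * (a * c * a⁻¹ * c⁻¹)) * b⁻¹ := by group
              _ = (a * b * a⁻¹ * b⁻¹) * ((a * c * a⁻¹ * c⁻¹) * b) * b⁻¹ := by rw [h3]
              _ = _ := by group) }
      have h3 : _root_.commutator ↥W.A1 ≤ φ.ker := by
        rw [commutator_def, commutator_le]
        intro x _ y _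
        rw [MonoidHom.mem_ker, map_commutatorElement, commutatorElement_eq_one_iff_mul_comm]
        exact Subtype.ext (mem_center_iff.1 (φ y).2 (φ x))
      rw [hp] at h3
      rw [mem_center_iff]
      intro b
      have h4 : a * b * a⁻¹ * b⁻¹ = 1 := congrArg Subtype.val (h3 (mem_top b))
      rw [mul_inv_eq_one, mul_inv_eq_iff_eq_mul] at h4
      exact h4.symm
    · intro a ha
      rw [MonoidHom.mem_ker]
      refine (QuotientGroup.eq_one_iff _).2 ?_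
      rw [mem_center_iff]
      intro b
      obtain ⟨c, rfl⟩ := (cov W).surj b
      rw [← map_mul, ← map_mul, mem_center_iff.1 ha c]
  let e : ↥W.A1 ⧸ center ↥W.A1 ≃* ↥W.A ⧸ center ↥W.A :=
    (QuotientGroup.quotientMulEquivOfEq hker.symm).trans (QuotientGroup.quotientKerEquivOfSurjective g hsurj)
  have hn : Nontrivial (↥W.A1 ⧸ center ↥W.A1) := e.toEquiv.nontrivial
  exact IsSimpleGroup.isSimpleGroup_of_surjective (e.symm : (↥W.A ⧸ center ↥W.A) →* _) e.symm.surjective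

variable {F : Type*} [Field F] [Finite F] [CharP F 2]

/-- **the package of `A1`** -/
theorem exists_std (hp : _root_.commutator ↥W.A1 = ⊤) (S : Std (stdSp F) ↥W.A) (hU : W.U = UG S) :
    ∃ S' : Std (stdSp F) ↥W.A1, UG S' = W.S1 := by
  obtain ⟨S', h1, -⟩ := Std.exists_lift (cov W) hp S
  refine ⟨S', ?_⟩
  have h2 : S.U = S'.U.map (dgHom W) := by
    show UU S.m = (UU S'.m).map (dgHom W)
    rw [← h1, UU_map]
  have h3 : ∀ x ∈ UG S', x ∈ W.S1 := by
    rintro _ ⟨u, hu, rfl⟩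
    apply mem_S1_of_dg W u.2
    · exact (isTwo_of_mem_UU S'.rel hu).map W.A1.subtype
    · rw [hU]
      have h4 : dgHom W u ∈ S.U := by
        rw [h2]
        exact ⟨u, hu, rfl⟩
      exact ⟨_, h4, rfl⟩
  apply le_antisymm h3
  intro s hs
  have h4 : W.dg s ∈ UG S := by
    rw [← hU]
    exact W.dg_mem_U hs
  obtain ⟨v, hv, e⟩ := h4
  have hv' : v ∈ S.U := hv
  rw [h2] at hv'
  obtain ⟨u, hu, rfl⟩ := hv'
  have h5 : ((u : ↥W.A1) : G) ∈ UG S' := ⟨u, hu, rfl⟩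
  have h6 : (u : G) = s := W.dg_inj (h3 _ h5) hs e
  rw [← h6]
  exact h5

end Pkg

/-! ### The instance -/

section Final

variable {G : Type u} [Group G] [Finite G] {F : Type*} [Field F] [Finite F] [CharP F 2]
variable {W : Wr G} {S : Std (stdSp F) ↥W.A} {T : Subgroup G}

theorem mem_I1 {P : Subgroup G} {x : G} : x ∈ W.I1 P ↔ x ∈ P ∧ InU W.A1 W.S1 x := Iff.rfl

/-- **the instance of `Wr.Syl`** -/
theorem exists_syl (C : Ctx W S T) {O : Subgroup G} (hA : W.Amb O) (hp : _root_.commutator ↥W.A1 = ⊤) {y : G}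
    (hY : W.Outer T y) : ∃ P : Subgroup G, W.Syl T y P := by
  have ht : W.t ∈ T := C.H.isT.mem
  obtain ⟨P, hP, h1, h2⟩ := exists_P hA hY.T0_two ht hY.T0_t hY.T0_U
  obtain ⟨S', hS'⟩ := exists_std W hp S C.U
  have hs := simple_A1 W hp C.simple
  -- the 2-group `P ∩ N(A1)`
  set P1 : Subgroup G := P ⊓ normalizer (W.A1 : Set G) with hP1
  have h3 : IsPGroup 2 P1 := hP.two.to_le inf_le_left
  have h4 : ∀ x ∈ P1, ∀ u ∈ UG S', x * u * x⁻¹ ∈ UG S' := by
    intro x hx u hu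
    rw [hS'] at hu ⊢
    have hu' : u ∈ P := h2 ⟨u, hu, 1, one_mem _, (mul_one u).symm⟩
    refine mem_S1 hP.two h2 (P.mul_mem (P.mul_mem hx.1 hu') (P.inv_mem hx.1)) ?_
    exact conj_mem_of hx.2 u (W.S1_le hu)
  have hF : 3 ≤ Nat.card F := by
    have := InstY.hF C
    omega
  have hmem : ∀ g ∈ P, (∀ a ∈ W.A1, g * a * g⁻¹ ∈ W.A1) → g ∈ P1 := fun g hg h => ⟨hg, mem_normalizer_of h⟩
  have yA : ∀ a ∈ W.A1, y * a * y⁻¹ ∈ W.A1 := by
    intro a ha
    rw [inv_eq_of_mul_eq_one_left hY.yy]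
    exact hY.yA a ha
  have yP : y ∈ P := h1 hY.y_mem
  have yt := hY.T0_t y hY.y_mem
  refine ⟨P, ?_⟩
  exact
    { P_two := hP.two
      T0_le := h1
      T_le := h2
      P_B := fun g hg => conj_mem_of (hP.le hg)
      P_syl := by
        intro R hR hRB
        obtain ⟨n, hn, h5⟩ := hP.exists_conj hR (fun x hx => mem_normalizer_of (hRB x hx))
        refine ⟨n⁻¹, conj_mem_of (inv_mem hn), fun x hx => ?_⟩
        rw [inv_inv]
        exact h5 x hx
      cyc1 := by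
        intro g hg hgA hgg hg1
        rw [mem_I1] at hgg hg1 ⊢
        have hg1' : ¬ InU W.A1 (UG S') g := by
          rw [hS']
          exact fun h => hg1 ⟨hg, h⟩
        have hgg' : InU W.A1 (UG S') (g * g) := by
          rw [hS']
          exact hgg.2
        have hyy : InU W.A1 (UG S') (y * y) := ⟨1, one_mem _, fun a _ => by rw [hY.yy]⟩
        have hy1 : ¬ InU W.A1 (UG S') y := by
          rw [hS']
          rintro ⟨s, hs, h5⟩
          apply hY.y_not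
          apply mem_K_of_inU C hY.y_mem
          refine ⟨W.dg s, ?_, ?_⟩
          · rw [← C.U]
            exact W.dg_mem_U hs
          · rintro _ ⟨a, ha, rfl⟩
            have hsA := W.S1_le hs
            have h6 := h5 a ha
            have yi : y⁻¹ = y := inv_eq_of_mul_eq_one_left hY.yy
            have e1 : y * (a * W.sw a) * y⁻¹ = W.dg (y * a * y) := by
              rw [W.dg_conj yt hY.yy, yi]; rfl
            have e2 : y * a * y = s * a * s⁻¹ := by rw [← h6, yi]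
            rw [e1, e2, W.dg_mul (mul_mem hsA ha) (inv_mem hsA), W.dg_mul hsA ha, W.dg_inv hsA]
            rfl
        have h5 := unique_two (odd_center W) S' (T := P1) inf_le_right hF h3 h4 (hmem g hg hgA) (hmem y yP yA)
          hgg' hg1' hyy hy1
        rw [hS'] at h5
        exact ⟨mul_mem yP hg, h5⟩
      comm1 := by
        intro g hg hgA h hh hhA
        rw [mem_I1]
        have h5 := comm_mem (odd_center W) S' (T := P1) inf_le_right hF h3 h4 (hmem g hg hgA) (hmem h hh hhA)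
        rw [hS'] at h5
        refine ⟨?_, h5⟩
        exact mul_mem (mul_mem (mul_mem hg hh) (inv_mem hg)) (inv_mem hh) }

/-- **`Wr.Outer` and `Wr.Syl`** from an element of `T \ K` with square in `U` -/
theorem exists_outer_syl (C : Ctx W S T) {O : Subgroup G} (hA : W.Amb O) (hp : _root_.commutator ↥W.A1 = ⊤)
    (hx : ∃ x ∈ T, x ∉ W.K ∧ x * x ∈ UG S) : ∃ (y : G) (P : Subgroup G), W.Outer T y ∧ W.Syl T y P := by
  obtain ⟨y, hY⟩ := InstY.exists_outer C hA hx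
  obtain ⟨P, hP⟩ := exists_syl C hA hp hY
  exact ⟨y, P, hY, hP⟩

end Final

end Cfsg.Agent.StdSpFour.SplitA.InstSyl
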