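import Cfsg.Agent.StdSpFour.SplitA.InstOuter

/-!
# S1778, `Sp₄(q)`, case (A), split: the instance of `Wr.Outer`, end
-/

set_option autoImplicit false
set_option linter.unusedSectionVars false

namespace Cfsg.Agent.StdSpFour.SplitA.InstY

open Subgroup
open Cfsg.Agent.TitsThree.B2Pkg Cfsg.Agent.TitsThree.RankTwoIdentB2
  Cfsg.Agent.TitsThree.CoreB2 Cfsg.Agent.TitsThree.RankTwoIdx Cfsg.Agent.TitsThree.RankTwoRGD
  Cfsg.Agent.TitsThree.StdData
open Cfsg.Agent.StdRank2.OddLift Cfsg.Agent.StdRank2.B2Lift Cfsg.Agent.StdRank2.B2Std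
  Cfsg.Agent.StdRank2.OutB2Aut Cfsg.Agent.StdRank2.OutB2Tw Cfsg.Agent.StdRank2.OutB2G
  Cfsg.Agent.StdRank2.OutB2Data Cfsg.Agent.StdRank2.OutSpG Cfsg.Agent.StdRank2.OutSpGraph
  Cfsg.Agent.StdRank2.OutB2Inv Cfsg.Agent.StdRank2.OutSpInv Cfsg.Agent.StdRank2.OutSpCyc
open Cfsg.Agent.StdRank2 Cfsg.Agent.StdEven Cfsg.Agent.StdEven.CoreQuot Cfsg.Agent.StdEven.Loc
open Cfsg.Agent.StdEven.Syl
open Cfsg.Agent.StdSpFour Cfsg.Agent.StdSpFour.SplitA.YMap Cfsg.Agent.StdSpFour.SplitA.InstOuter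
open Cfsg.Agent.StdSpFour.SplitA.UCoord Cfsg.Agent.StdSpFour.Env

universe u

variable {G : Type u} [Group G] [Finite G] {F : Type*} [Field F] [Finite F] [CharP F 2]
variable {W : Wr G} {S : Std (stdSp F) ↥W.A} {T : Subgroup G} (C : Ctx W S T)

include C

/-- `T → X` -/
def phi : ↥T →* XQ W.A W.t := (pr W.A W.t).comp (Subgroup.inclusion C.H.T_le)

theorem phi_mk {x : G} (hx : x ∈ T) : phi C ⟨x, hx⟩ = pr W.A W.t ⟨x, C.H.T_le hx⟩ := rfl

theorem phi_inj : Function.Injective (phi C) := by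
  rintro ⟨x, hx⟩ ⟨y, hy⟩ h
  rw [phi_mk, phi_mk] at h
  have h1 := C.H.pr_inj (Y := T) C.H.isT.syl.two (x := ⟨x, C.H.T_le hx⟩) (y := ⟨y, C.H.T_le hy⟩) hx hy h
  exact Subtype.ext (congrArg (fun z : ↥(NO W.A W.t) => (z : G)) h1)

theorem mp_U : mp (phi C) W.U = (ofBase (B2Conn.base C.H S)).U := by
  ext x
  have h1 : x ∈ (ofBase (B2Conn.base C.H S)).U ↔ IsU (B2Conn.base C.H S) x := by
    rw [UC.mem_U]
    constructor
    · rintro ⟨u, s, m, r, rfl⟩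
      exact ⟨u, s, m, r, by rw [Base.v1]; show _ * _ * _ * _ = _; rw [← mul_assoc, ← mul_assoc]; rfl⟩
    · rintro ⟨u, s, m, r, rfl⟩
      exact ⟨u, s, m, r, by rw [Base.v1]; show _ = _ * _ * _ * _; rw [← mul_assoc, ← mul_assoc]; rfl⟩
  rw [h1, XStart.isU_iff, mem_mp, mem_im]
  constructor
  · rintro ⟨e, he, h2, rfl⟩
    refine ⟨⟨e, C.H.T_le he⟩, ?_, rfl⟩
    rw [C.U] at h2
    exact h2
  · rintro ⟨n, hn, rfl⟩
    refine ⟨n, UG_le_T C hn, ?_, rfl⟩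
    rw [C.U]
    exact hn

theorem mp_Z : mp (phi C) (W.diag W.Z (W.Z_le_S1.trans W.S1_le)) = (ofBase (B2Conn.base C.H S)).Z := by
  have hUT : W.U ≤ T := by rw [C.U]; exact UG_le_T C
  ext x
  constructor
  · intro hx
    obtain ⟨e, he, h1, rfl⟩ := mem_mp.1 hx
    have h2 : e ∈ W.U := by
      obtain ⟨z, hz, rfl⟩ := h1
      exact ⟨z, W.Z_le_S1 hz, rfl⟩
    apply UC.mem_Z_of_comm
    · rw [← mp_U C]
      exact mem_mp.2 ⟨e, he, h2, rfl⟩
    · intro x hx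
      rw [← mp_U C] at hx
      obtain ⟨u, hu, h3, rfl⟩ := mem_mp.1 hx
      rw [← map_mul, ← map_mul]
      refine congrArg (phi C) (Subtype.ext ?_)
      obtain ⟨z, hz, rfl⟩ := h1
      obtain ⟨s, hs, rfl⟩ := h3
      exact (W.dg_comm_iff' (W.Z_le_S1 hz) hs).2 (W.Zc z hz s hs)
  · intro hx
    have h1 : x ∈ mp (phi C) W.U := by
      rw [mp_U C]
      exact UC.Z_le _ hx
    obtain ⟨e, he, h2, rfl⟩ := mem_mp.1 h1
    refine mem_mp.2 ⟨e, he, ?_, rfl⟩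
    obtain ⟨z, hz, rfl⟩ := h2
    refine ⟨z, mem_Z_of_comm W hz fun s hs => ?_, rfl⟩
    rw [← W.dg_comm_iff' hz hs]
    have h3 : phi C ⟨W.dg s, hUT (W.dg_mem_U hs)⟩ ∈ (ofBase (B2Conn.base C.H S)).U := by
      rw [← mp_U C]
      exact mem_mp.2 ⟨_, _, W.dg_mem_U hs, rfl⟩
    have h4 := UC.Zc _ hx h3
    rw [← map_mul, ← map_mul] at h4
    exact congrArg Subtype.val (phi_inj C h4)

theorem hF : 4 ≤ Nat.card F := by
  rw [← C.q]
  exact W.q4

theorem phi_rel {y : G} (hy : y ∈ T) {a b : ↥W.A} (e : y * a * y⁻¹ = b) :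
    phi C ⟨y, hy⟩ * pr W.A W.t ⟨a, C.H.A_le a.2⟩ * (phi C ⟨y, hy⟩)⁻¹ = pr W.A W.t ⟨b, C.H.A_le b.2⟩ := by
  rw [phi_mk, ← map_inv, ← map_mul, ← map_mul]
  exact congrArg (pr W.A W.t) (Subtype.ext e)

theorem phi_sq {y : G} (hy : y ∈ T) (yy : y * y = 1) : phi C ⟨y, hy⟩ * phi C ⟨y, hy⟩ = 1 := by
  rw [← map_mul, ← map_one (phi C)]
  exact congrArg (phi C) (Subtype.ext yy)

/-- `YFacts` for `U`, field involutions -/
theorem yFacts_fld {y : G} (hy : y ∈ T) (yy : y * y = 1) {ρ : F ≃+* F} (h1 : ρ ≠ 1) (h2 : ρ * ρ = 1)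
    (h : Fld nSp S y ρ) : YFacts W.q W.U (W.diag W.Z (W.Z_le_S1.trans W.S1_le)) y := by
  have hUT : W.U ≤ T := by rw [C.U]; exact UG_le_T C
  have hZU : W.diag W.Z (W.Z_le_S1.trans W.S1_le) ≤ W.U := by
    rintro _ ⟨z, hz, rfl⟩
    exact ⟨z, W.Z_le_S1 hz, rfl⟩
  apply YMap.yFacts (phi_inj C) hUT (hZU.trans hUT) hy
  rw [mp_U C, mp_Z C, C.q]
  refine UField.yFacts (φ := ρ) ?_
  have key : ∀ {a b : ↥W.A}, y * a * y⁻¹ = b →
      phi C ⟨y, hy⟩ * pr W.A W.t ⟨a, C.H.A_le a.2⟩ = pr W.A W.t ⟨b, C.H.A_le b.2⟩ * phi C ⟨y, hy⟩ := by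
    intro a b e
    rw [← phi_rel C hy e]
    group
  exact
    { inv := fun x => by
        have := congrArg (fun f : F ≃+* F => f x) h2
        exact this
      ne := by
        by_contra h3
        push Not at h3
        exact h1 (RingEquiv.ext h3)
      yy := phi_sq C hy yy
      xa := fun u => key (h.x u)
      xb := fun u => key (h.z₂ (SpFrame.tt u))
      zs := fun u => key (h.y u)
      zl := fun u => key (h.z₁ (SpFrame.tt u)) }

/-- `YFacts` for `U`, graph involutions -/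
theorem yFacts_gr {y : G} (hy : y ∈ T) (yy : y * y = 1) {ρ : F ≃+* F} (h : Gr S y ρ) :
    YFacts W.q W.U (W.diag W.Z (W.Z_le_S1.trans W.S1_le)) y := by
  have hUT : W.U ≤ T := by rw [C.U]; exact UG_le_T C
  have hZU : W.diag W.Z (W.Z_le_S1.trans W.S1_le) ≤ W.U := by
    rintro _ ⟨z, hz, rfl⟩
    exact ⟨z, W.Z_le_S1 hz, rfl⟩
  apply YMap.yFacts (phi_inj C) hUT (hZU.trans hUT) hy
  rw [mp_U C, mp_Z C, C.q]
  have Y : GraphY (B2Conn.base C.H S) ρ.symm (phi C ⟨y, hy⟩) :=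
    GraphY.of_gm (phi_sq C hy yy) (fun u => phi_rel C hy (h.x u)) (fun u => phi_rel C hy (h.z₂ (SpFrame.tt u)))
      (fun u => phi_rel C hy (h.y u))
  refine Y.yFacts (hF C) ?_ ?_
  · intro x
    rw [UC.mem_U]
    constructor
    · rintro ⟨u, s, m, r, rfl⟩
      exact ⟨u, s, m, r, by rw [Base.v1]; show _ * _ * _ * _ = _; rw [← mul_assoc, ← mul_assoc]; rfl⟩
    · rintro ⟨u, s, m, r, rfl⟩
      exact ⟨u, s, m, r, by rw [Base.v1]; show _ = _ * _ * _ * _; rw [← mul_assoc, ← mul_assoc]; rfl⟩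
  · intro x
    rw [UC.mem_Z]
    have h0 : ∀ m r, (ofBase (B2Conn.base C.H S)).el 0 0 m r = (B2Conn.base C.H S).zs m * (B2Conn.base C.H S).zl r := by
      intro m r
      rw [UC.el, UC.xa_zero, UC.xb_zero, one_mul, one_mul]
      rfl
    constructor
    · rintro ⟨m, r, rfl⟩
      exact ⟨m, r, h0 m r⟩
    · rintro ⟨m, r, rfl⟩
      exact ⟨m, r, (h0 m r).symm⟩

/-- `T` is a Sylow 2-subgroup of `C_G(t)` -/
theorem T_syl (R : Subgroup G) (hR : IsPGroup 2 R) (hRt : ∀ x ∈ R, x * W.t = W.t * x) :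
    ∃ c, c * W.t = W.t * c ∧ ∀ x ∈ R, c⁻¹ * x * c ∈ T := by
  have h1 : IsSyl T (centralizer ({W.t} : Set G)) :=
    C.H.isT.syl.mono (fun x hx => mem_centralizer_singleton_iff.2 (C.H.isT.cent x hx))
      (fun x hx => C.H.mem_normalizer (mem_centralizer_singleton_iff.1 hx))
  obtain ⟨n, hn, h2⟩ := h1.exists_conj hR (fun x hx => mem_centralizer_singleton_iff.2 (hRt x hx))
  have h3 := mem_centralizer_singleton_iff.1 hn
  refine ⟨n⁻¹, ?_, fun x hx => ?_⟩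
  · calc n⁻¹ * W.t = n⁻¹ * (W.t * n) * n⁻¹ := by group
      _ = n⁻¹ * (n * W.t) * n⁻¹ := by rw [h3]
      _ = _ := by group
  · rw [inv_inv]
    exact h2 x hx

/-- `T / K` is cyclic -/
theorem cyc : ∃ f ∈ T, ∀ x ∈ T, ∃ n : ℕ, f ^ n * x ∈ W.K := by
  have := C.simple
  obtain ⟨f, hf, h⟩ := exists_gen C.H.hZ S C.H.isT.syl.le (by have := hF C; omega) C.H.isT.syl.two
    (fun y hy u hu => T_U C hy hu)
  refine ⟨f, hf, fun x hx => ?_⟩
  obtain ⟨n, hn⟩ := h x hx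
  exact ⟨n, mem_K_of_inU C (mul_mem (pow_mem hf n) hx) hn⟩

/-- `YFacts` for `U` -/
theorem yFacts {y : G} (hy : y ∈ T) (yy : y * y = 1) (h : (∃ ρ : F ≃+* F, ρ ≠ 1 ∧ ρ * ρ = 1 ∧ Fld nSp S y ρ) ∨
      ∃ ρ : F ≃+* F, frob F * ρ * ρ = 1 ∧ Gr S y ρ) :
    YFacts W.q W.U (W.diag W.Z (W.Z_le_S1.trans W.S1_le)) y := by
  rcases h with ⟨ρ, h1, h2, h3⟩ | ⟨ρ, -, h2⟩
  · exact yFacts_fld C hy yy h1 h2 h3
  · exact yFacts_gr C hy yy h2

/-- **the instance of `Wr.Outer`** -/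
theorem outer_of {O : Subgroup G} (hA : W.Amb O) {y : G} (hy : y ∈ T) (hyK : y ∉ W.K) (yy : y * y = 1)
    (yA : ∀ a ∈ W.A1, y * a * y⁻¹ ∈ W.A1) (h : (∃ ρ : F ≃+* F, ρ ≠ 1 ∧ ρ * ρ = 1 ∧ Fld nSp S y ρ) ∨
      ∃ ρ : F ≃+* F, frob F * ρ * ρ = 1 ∧ Gr S y ρ) : W.Outer T y := by
  have yi : y⁻¹ = y := inv_eq_of_mul_eq_one_left yy
  have yt := C.H.isT.cent y hy
  have yA' : ∀ a ∈ W.A1, y * a * y ∈ W.A1 := by
    intro a ha
    have := yA a ha
    rwa [yi] at this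
  have yU : ∀ u ∈ W.U, y * u * y ∈ W.U := by
    intro u hu
    rw [C.U] at hu ⊢
    have := T_U C hy hu
    rwa [yi] at this
  have yS' : ∀ s ∈ W.S1, y * s * y ∈ W.S1 := fun s hs => yS W yt yy yA' yU hs
  have Y := W.yFacts_of_U yt yy yS' (yFacts C hy yy h)
  exact
    { T0_two := C.H.isT.syl.two
      T0_t := C.H.isT.cent
      K_le := InstOuter.K_le C
      T0_syl := T_syl C
      T0_U := by
        intro x hx u hu
        rw [C.U] at hu ⊢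
        exact T_U C hx hu
      cyc := cyc C
      y_mem := hy
      y_not := hyK
      yy := yy
      yA := yA'
      yS := yS'
      yZ := fun z hz => yZ W yy yS' hz
      card_cen := Y.card_cen
      rank_cen := Y.rank_cen
      four := Y.four
      h90 := Y.h90
      eight := Y.eight
      card_Z := Y.card_Z }

/-- **the instance of `Wr.Outer`**, from an element of `T \ K` with square in `U` -/
theorem exists_outer {O : Subgroup G} (hA : W.Amb O) (hx : ∃ x ∈ T, x ∉ W.K ∧ x * x ∈ UG S) :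
    ∃ y, W.Outer T y := by
  obtain ⟨x, hx, hxK, hxx⟩ := hx
  obtain ⟨y, hy, hyK, yy, h⟩ := exists_pure C hx hxK hxx
  have yt := C.H.isT.cent y hy
  rcases hA.perm y (hA.hC y yt) with h1 | h1
  · exact ⟨y, outer_of C hA hy hyK yy h1 h⟩
  · have htA : W.t ∈ centralizer (W.A : Set G) := C.H.htA
    refine ⟨y * W.t, outer_of C hA (mul_mem hy C.H.isT.mem) ?_ ?_ ?_ ?_⟩
    · intro h2
      apply hyK
      have h3 := mul_mem h2 W.t_mem_K
      rwa [mul_assoc, W.tt, mul_one] at h3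
    · calc y * W.t * (y * W.t) = y * (W.t * y) * W.t := by group
        _ = (y * y) * (W.t * W.t) := by rw [← yt]; group
        _ = 1 := by rw [yy, W.tt, mul_one]
    · intro a ha
      have h2 := h1 a ha
      rw [W.mem_A2] at h2
      have e : y * W.t * a * (y * W.t)⁻¹ = W.sw (y * a * y⁻¹) := by
        show _ = W.t * (y * a * y⁻¹) * W.t
        rw [mul_inv_rev, W.tinv]
        have yi : y⁻¹ = y := inv_eq_of_mul_eq_one_left yy
        rw [yi]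
        calc y * W.t * a * (W.t * y) = (y * W.t) * a * (W.t * y) := by group
          _ = (W.t * y) * a * (y * W.t) := by rw [yt]
          _ = _ := by group
      rw [e]
      exact h2
    · rcases h with ⟨ρ, h2, h3, h4⟩ | ⟨ρ, h2, h3⟩
      · exact Or.inl ⟨ρ, h2, h3, fld_mul_cent h4 htA⟩
      · exact Or.inr ⟨ρ, h2, gr_mul_cent h3 htA⟩

end Cfsg.Agent.StdSpFour.SplitA.InstY
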