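import Cfsg.Agent.StdSpFour.SplitA.OutTab

set_option autoImplicit false

/-!
# S1778, `Sp₄(q)`, case (A), split: `P ∩ E = T`

`outData`, `inf_eq` : **`P ∩ E = T`** from (F1), (H), (hW), (hD).
-/

namespace Cfsg.Agent.StdSpFour.SplitA.Wr

open Subgroup Cfsg.Agent.StdRank2.OutSplit
open scoped commutatorElement

universe u

variable {G : Type u} [Group G] [Finite G] (W : Wr G) {O T0 : Subgroup G} {y : G} {P : Sylow 2 G}

/-- all the facts -/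
theorem outData (hA : W.Amb O) (hO : W.Outer T0 y) (hP : W.Syl T0 y (P : Subgroup G))
    (hF1 : ∀ g : G, g⁻¹ * W.t * g ∉ W.S0 (P : Subgroup G))
    (hH : ∀ g : G, g⁻¹ * W.t * g ∈ (P : Subgroup G) → ∀ x ∈ W.B, g * x * g⁻¹ ∈ W.B)
    (hW : ∀ g : G, (∀ x ∈ W.T, g⁻¹ * x * g ∈ (P : Subgroup G)) → ∀ x ∈ W.T, g⁻¹ * x * g ∈ W.T)
    (hD : ∀ a ∈ W.S1, ∀ b ∈ W.S2, a ≠ 1 → b ≠ 1 → a * a = 1 → b * b = 1 → ∀ g : G,
      g⁻¹ * (a * b) * g ∉ W.S1 ∧ g⁻¹ * (a * b) * g ∉ W.S2)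
    {E : Subgroup G} (hEn : E.Normal) (hE : commutator E = ⊤) (hGE : ∀ g : G, g ∈ E ∨ W.t * g ∈ E) :
    ∃ (A : Type u) (_ : CommGroup A) (ψ : W.S0 (P : Subgroup G) →* A),
      OutData P (W.S0 (P : Subgroup G)) W.T W.S1 W.S2 E W.Z W.t ψ := by
  obtain ⟨A, hAc, ψ, hψ⟩ := exists_psi (S0 := W.S0 (P : Subgroup G)) (I := W.I1 (P : Subgroup G)) W.I1_S0 (by
    intro a ha b hb
    obtain ⟨ha1, ha2⟩ := (mem_S0n W).1 ha
    obtain ⟨hb1, hb2⟩ := (mem_S0n W).1 hb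
    exact hP.comm1 a ha1 (fun x hx => norm_conj ha2 hx) b hb1 (fun x hx => norm_conj hb2 hx))
  have hs := W.swapData hA hO hP hW hD
  have hsw : ∀ x : G, W.t * x * W.t = W.sw x := fun _ => rfl
  have hyS := W.y_S0 hA hO hP
  have hy2 : ψ ⟨y, hyS⟩ * ψ ⟨y, hyS⟩ = 1 := by
    rw [← map_mul]
    have : (⟨y, hyS⟩ : W.S0 (P : Subgroup G)) * ⟨y, hyS⟩ = 1 := Subtype.ext hO.yy
    rw [this, map_one]
  -- outer involutory types are equal to the type of `y`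
  have hτ : ∀ x (hx : x ∈ W.S0 (P : Subgroup G)), x * x = 1 → x ∉ W.I1 (P : Subgroup G) →
      ψ ⟨x, hx⟩ = ψ ⟨y, hyS⟩ := by
    intro x hx hx2 hxI
    obtain ⟨hxP, hxN⟩ := (mem_S0n W).1 hx
    have h1 := hP.cyc1 x hxP (fun a ha => norm_conj hxN ha) (by rw [hx2]; exact one_mem _) hxI
    have h2 := (hψ _ (mul_mem hyS hx)).2 h1
    have h3 : ψ ⟨y, hyS⟩ * ψ ⟨x, hx⟩ = 1 := by rw [← map_mul]; exact h2
    exact mul_left_cancel (h3.trans hy2.symm)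
  have hswI : ∀ x ∈ W.S0 (P : Subgroup G), x * W.t = W.t * x → x ∉ W.T → x ∉ W.I1 (P : Subgroup G) := by
    intro x hx hxt hxT hxI
    apply hxT
    rw [W.mem_T_iff hA hO hP]
    refine ⟨hxI, ?_⟩
    rw [W.conj_P hxt.symm]
    exact hxI
  refine ⟨A, hAc, ψ, ?_⟩
  refine
    { swap := hs
      ht := W.tt
      htP := W.tP hO hP
      F1 := hF1
      hE := hE
      hEn := hEn
      hGE := hGE
      norm := W.normS hA hO hP
      hN := ?_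
      hZ1 := W.Z_Ma.trans W.Ma_le
      hZc := fun z hz a ha => W.Zc z hz a ha
      hZ' := W.comm_ge.trans (commutator_mono W.Ma_le W.Mb_le)
      hZ2 := fun z hz => W.sqMa z (W.Z_Ma hz)
      hZ4 := W.Z_two
      hZn := W.Z_norm hA hO hP
      hilb := W.hilb hA hO hP hs
      split := W.split hA hO hP hs
      M3 := ?_
      tab := ?_ }
  · intro x hx hx'
    rw [hψ, hψ, hsw]
    exact W.mem_T_iff hA hO hP
  · intro x hx hx2 hxt hxT g hg hgx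
    have hxI := hswI x hx hxt hxT
    obtain ⟨h1, h2, h3⟩ := W.M3' hA hO hP hH hx hx2 hxt hxI hg hgx
    have h4 : W.t * (g⁻¹ * x * g) * W.t ∈ W.S0 (P : Subgroup G) := W.sw_S0n hA hO hP h1
    have hg2 : (g⁻¹ * x * g) * (g⁻¹ * x * g) = 1 := by
      calc (g⁻¹ * x * g) * (g⁻¹ * x * g) = g⁻¹ * (x * x) * g := by group
        _ = 1 := by rw [hx2]; group
    have e1 := hτ x hx hx2 hxI
    refine ⟨h1, h4, ?_, ?_⟩
    · rw [e1, hτ _ h1 hg2 h2]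
    · rw [e1, hτ _ h4 ?_ h3]
      rw [hsw, ← sw_mul, hg2, sw_one]
  · intro x hx hx2 hxt hxT
    have hxI := hswI x hx hxt hxT
    refine ⟨⊥, ?_, ?_⟩
    · rw [mem_bot]
      exact fun h => hxI ((hψ x hx).1 h)
    · intro g _ h h' hne
      rw [mem_bot] at hne
      have hg2 : (g⁻¹ * x * g) * (g⁻¹ * x * g) = 1 := by
        calc (g⁻¹ * x * g) * (g⁻¹ * x * g) = g⁻¹ * (x * x) * g := by group
          _ = 1 := by rw [hx2]; group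
      have hg2' : W.sw (g⁻¹ * x * g) * W.sw (g⁻¹ * x * g) = 1 := by rw [← sw_mul, hg2, sw_one]
      refine W.tab' hA hO hP hx hxT hxt hx2 h (fun hiff => hne ?_)
      by_cases h1 : g⁻¹ * x * g ∈ W.I1 (P : Subgroup G)
      · rw [(hψ _ h).2 h1, (hψ _ h').2 (hiff.1 h1), one_mul]
      · have h2 : W.sw (g⁻¹ * x * g) ∉ W.I1 (P : Subgroup G) := fun h' => h1 (hiff.2 h')
        rw [hτ _ h hg2 h1, hτ _ h' hg2' h2, hy2]

/-- **`P ∩ E = T`** -/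
theorem inf_eq (hA : W.Amb O) (hO : W.Outer T0 y) (hP : W.Syl T0 y (P : Subgroup G))
    (hF1 : ∀ g : G, g⁻¹ * W.t * g ∉ W.S0 (P : Subgroup G))
    (hH : ∀ g : G, g⁻¹ * W.t * g ∈ (P : Subgroup G) → ∀ x ∈ W.B, g * x * g⁻¹ ∈ W.B)
    (hW : ∀ g : G, (∀ x ∈ W.T, g⁻¹ * x * g ∈ (P : Subgroup G)) → ∀ x ∈ W.T, g⁻¹ * x * g ∈ W.T)
    (hD : ∀ a ∈ W.S1, ∀ b ∈ W.S2, a ≠ 1 → b ≠ 1 → a * a = 1 → b * b = 1 → ∀ g : G,
      g⁻¹ * (a * b) * g ∉ W.S1 ∧ g⁻¹ * (a * b) * g ∉ W.S2)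
    {E : Subgroup G} (hEn : E.Normal) (hE : commutator E = ⊤) (hGE : ∀ g : G, g ∈ E ∨ W.t * g ∈ E) :
    (P : Subgroup G) ⊓ E = W.T := by
  obtain ⟨A, _, ψ, D⟩ := W.outData hA hO hP hF1 hH hW hD hEn hE hGE
  exact D.inf_eq

end Cfsg.Agent.StdSpFour.SplitA.Wr
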