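import Cfsg.Agent.StdSpFour.SplitA.Weak
import Cfsg.Agent.StdSpFour.SplitA.Out

set_option autoImplicit false
set_option linter.unusedSectionVars false

/-!
# S1778, `Sp₄(q)`, case (A), split: `P ∩ E = T`

From `Wr`, `Amb`, `Outer`, `Syl` alone.
-/

namespace Cfsg.Agent.StdSpFour.SplitA

open Subgroup
open scoped commutatorElement Pointwise

namespace Wr

universe u

variable {G : Type u} [Group G] [Finite G] (W : Wr G)

variable {T0 P O : Subgroup G} {y : G}

/-- `P` as a Sylow 2-subgroup of `G` -/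
theorem exists_sylow (hA : W.Amb O) (hY : W.Outer T0 y) (hP : W.Syl T0 y P) : ∃ Q : Sylow 2 G, (Q : Subgroup G) = P :=
  ⟨⟨P, hP.P_two, fun {_} hR hle => le_antisymm (W.P_max hA hY hP hR hle) hle⟩, rfl⟩

/-- **`P ∩ E = T`**, `E` perfect normal with `G = E⟨t⟩` -/
theorem final (hA : W.Amb O) (hY : W.Outer T0 y) (hP : W.Syl T0 y P)
    {E : Subgroup G} (hEn : E.Normal) (hE : _root_.commutator E = ⊤) (hGE : ∀ g : G, g ∈ E ∨ W.t * g ∈ E) : P ⊓ E = W.T := by
  obtain ⟨Q, rfl⟩ := W.exists_sylow hA hY hP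
  refine W.inf_eq hA hY hP (W.F1 hA hY hP) ?_ (fun g hg => W.hW hA hY hP hg) (W.hD hA hY hP) hEn hE hGE
  intro g hg
  have h1 := W.HH hA hY hP (g := g) (hP.P_B _ hg)
  -- inverse
  have h2 := conj_inv_mem (H := W.B) (g := g⁻¹) (by
    intro x hx
    rw [inv_inv]
    exact h1 x hx)
  intro x hx
  have := h2 x hx
  rwa [inv_inv] at this

/-- `t ∉ E` -/
theorem t_not_mem (hA : W.Amb O) (hY : W.Outer T0 y) (hP : W.Syl T0 y P)
    {E : Subgroup G} (hEn : E.Normal) (hE : _root_.commutator E = ⊤) (hGE : ∀ g : G, g ∈ E ∨ W.t * g ∈ E) : W.t ∉ E := by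
  intro h
  have h1 := W.final hA hY hP hEn hE hGE
  apply W.t_not_T
  rw [← h1]
  exact ⟨W.t_mem_P hY hP, h⟩

end Wr

end Cfsg.Agent.StdSpFour.SplitA
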