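import Cfsg.Agent.StdSpFour.SplitA.Base
import Cfsg.Agent.StdRank2.OutSplit.Diag

set_option autoImplicit false

/-!
# S1778, `Sp₄(q)`, case (A), split: basic facts on `S0 = P ∩ N(A1)`

* `nn` : elements of `N(A1 A2)` normalise `A1` and `A2` or interchange them.
* `S0`, `hidx`, `P ∩ A1 = S1`, `norm`.
* `mem_T_iff` : `x ∈ S0` lies in `T` iff `x` and `t x t` induce elements of `S1` on `A1`.
* `Z_center` : `Z = Z(S1)`.
* `psi` : the type homomorphism `S0 → S0 / I1`.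
-/

namespace Cfsg.Agent.StdSpFour.SplitA.Wr

open Subgroup Cfsg.Agent.StdRank2.OutSplit
open scoped commutatorElement

variable {G : Type*} [Group G] [Finite G] (W : Wr G) {O T0 : Subgroup G} {y : G} {P : Sylow 2 G}


omit [Finite G] in
theorem mem_S0n {P : Subgroup G} {x : G} : x ∈ W.S0 P ↔ x ∈ P ∧ x ∈ normalizer (W.A1 : Set G) := Iff.rfl

theorem mem_norm {H : Subgroup G} {g : G} (h : ∀ a ∈ H, g * a * g⁻¹ ∈ H) : g ∈ normalizer (H : Set G) :=
  mem_normalizer_fintype h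

omit [Finite G] in
theorem norm_conj {H : Subgroup G} {g : G} (h : g ∈ normalizer (H : Set G)) {a : G} (ha : a ∈ H) : g * a * g⁻¹ ∈ H :=
  (mem_normalizer_iff.1 h a).1 ha

omit [Finite G] in
theorem norm_conj' {H : Subgroup G} {g : G} (h : g ∈ normalizer (H : Set G)) {a : G} (ha : a ∈ H) :
    g⁻¹ * a * g ∈ H := by
  have := norm_conj (inv_mem h) ha
  rwa [inv_inv] at this

omit [Finite G] in
theorem swE (x : G) : W.sw x = W.t * x * W.t := rfl

omit [Finite G] in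
theorem sw_mem_A1 {x : G} (hx : x ∈ W.A2) : W.sw x ∈ W.A1 := hx

omit [Finite G] in
theorem sw_mem_S1 {x : G} (hx : x ∈ W.S2) : W.sw x ∈ W.S1 := hx

omit [Finite G] in
theorem sw_t : W.sw W.t = W.t := by
  rw [swE, W.tt, one_mul]

theorem Ma_ne : ∃ x ∈ W.Ma, x ≠ 1 := by
  by_contra h
  push Not at h
  have h1 : W.Ma = ⊥ := (Subgroup.eq_bot_iff_forall _).2 h
  have h2 := W.cardMa
  rw [h1, Subgroup.card_bot] at h2
  have h3 : 4 ^ 3 ≤ W.q ^ 3 := Nat.pow_le_pow_left W.q4 3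
  omega

/-- `A1 ≠ A2` -/
theorem not_le : ¬ W.A1 ≤ W.A2 := by
  intro h
  obtain ⟨x, hx, hx1⟩ := W.Ma_ne
  have hxS := W.Ma_le hx
  apply hx1
  refine W.centre x hxS (fun a ha => ?_)
  exact (W.comm' ha (h (W.S1_le hxS))).symm

/-- conjugation by an element, finite version: `g A1 g⁻¹ ≤ A2` implies equality -/
theorem card_A2 : Nat.card W.A2 = Nat.card W.A1 := by
  refine Nat.card_congr
    { toFun := fun x => ⟨W.sw x, W.sw_mem_A1 x.2⟩
      invFun := fun x => ⟨W.sw x, W.sw_mem_A2 x.2⟩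
      left_inv := fun x => Subtype.ext (W.sw_sw x)
      right_inv := fun x => Subtype.ext (W.sw_sw x) }

omit [Finite G] in
theorem card_cj (H : Subgroup G) (g : G) : Nat.card (H.map (MulAut.conj g).toMonoidHom) = Nat.card H :=
  Nat.card_congr (H.equivMapOfInjective _ (MulAut.conj g).injective).toEquiv.symm

theorem conj_surj {H K : Subgroup G} (hc : Nat.card H = Nat.card K) {g : G} (h : ∀ a ∈ H, g * a * g⁻¹ ∈ K) {b : G}
    (hb : b ∈ K) : g⁻¹ * b * g ∈ H := by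
  have hle : H.map (MulAut.conj g).toMonoidHom ≤ K := by
    rintro _ ⟨a, ha, rfl⟩
    exact h a ha
  have he : H.map (MulAut.conj g).toMonoidHom = K :=
    Subgroup.eq_of_le_of_card_ge hle (by rw [card_cj, hc])
  rw [← he] at hb
  obtain ⟨a, ha, rfl⟩ := hb
  have e : g⁻¹ * ((MulAut.conj g).toMonoidHom a) * g = a := by
    show g⁻¹ * (g * a * g⁻¹) * g = a
    group
  rw [e]
  exact ha

variable (hA : W.Amb O)
include hA

omit [Finite G] in
theorem t_B : ∀ x ∈ W.B, W.t * x * W.t⁻¹ ∈ W.B := hA.hC W.t rfl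

/-- **elements of `N(A1 A2)`** normalise `A1` and `A2` or interchange them -/
theorem nn {g : G} (hg : ∀ x ∈ W.B, g * x * g⁻¹ ∈ W.B) :
    (g ∈ normalizer (W.A1 : Set G) ∧ g ∈ normalizer (W.A2 : Set G)) ∨
      ((∀ a ∈ W.A1, g * a * g⁻¹ ∈ W.A2) ∧ ∀ a ∈ W.A2, g * a * g⁻¹ ∈ W.A1) := by
  have hgt : ∀ x ∈ W.B, g * W.t * x * (g * W.t)⁻¹ ∈ W.B := by
    intro x hx
    have := hg _ (W.t_B hA x hx)
    have e : g * (W.t * x * W.t⁻¹) * g⁻¹ = g * W.t * x * (g * W.t)⁻¹ := by group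
    rwa [e] at this
  -- `g A2 g⁻¹` is in `A1` or `A2`
  have h2 : (∀ a ∈ W.A2, g * a * g⁻¹ ∈ W.A1) ∨ (∀ a ∈ W.A2, g * a * g⁻¹ ∈ W.A2) := by
    have e : ∀ a, g * W.t * (W.sw a) * (g * W.t)⁻¹ = g * a * g⁻¹ := by
      intro a
      rw [mul_inv_rev, W.tinv, swE]
      calc g * W.t * (W.t * a * W.t) * (W.t * g⁻¹) = g * (W.t * W.t) * a * (W.t * W.t) * g⁻¹ := by group
        _ = g * a * g⁻¹ := by rw [W.tt, mul_one, mul_one]
    rcases hA.perm _ hgt with h | h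
    · left
      intro a ha
      have := h _ (W.sw_mem_A1 ha)
      rwa [e] at this
    · right
      intro a ha
      have := h _ (W.sw_mem_A1 ha)
      rwa [e] at this
  rcases hA.perm g hg with h1 | h1 <;> rcases h2 with h2 | h2
  · -- both in `A1`
    exfalso
    apply W.not_le
    intro a ha
    have h3 := conj_surj (H := W.A2) (K := W.A1) W.card_A2 h2 (h1 a ha)
    have e : g⁻¹ * (g * a * g⁻¹) * g = a := by group
    rwa [e] at h3
  · exact Or.inl ⟨mem_norm h1, mem_norm h2⟩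
  · exact Or.inr ⟨h1, h2⟩
  · exfalso
    apply W.not_le
    intro a ha
    have h3 := conj_surj (H := W.A2) (K := W.A2) rfl h2 (h1 a ha)
    have e : g⁻¹ * (g * a * g⁻¹) * g = a := by group
    rwa [e] at h3

variable (hO : W.Outer T0 y) (hP : W.Syl T0 y (P : Subgroup G))
include hO hP

omit hA in
theorem tP : W.t ∈ (P : Subgroup G) := hP.T0_le (hO.K_le W.t_mem_K)

omit hA in
theorem swP {x : G} (hx : x ∈ (P : Subgroup G)) : W.sw x ∈ (P : Subgroup G) :=
  mul_mem (mul_mem (W.tP hO hP) hx) (W.tP hO hP)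

theorem t_not : W.t ∉ W.S0 (P : Subgroup G) := by
  intro h
  apply W.not_le
  intro a ha
  have h1 := norm_conj (mem_S0n W |>.1 h).2 ha
  rw [mem_A2, swE]
  rwa [W.tinv] at h1

/-- an element of `P ∖ S0` interchanges `A1` and `A2` -/
theorem swap_A {g : G} (hg : g ∈ (P : Subgroup G)) (h0 : g ∉ W.S0 (P : Subgroup G)) :
    (∀ a ∈ W.A1, g * a * g⁻¹ ∈ W.A2) ∧ ∀ a ∈ W.A2, g * a * g⁻¹ ∈ W.A1 := by
  rcases W.nn hA (hP.P_B g hg) with h | h
  · exact absurd ((mem_S0n W).2 ⟨hg, h.1⟩) h0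
  · exact h

theorem norm_A2 {g : G} (hg : g ∈ W.S0 (P : Subgroup G)) : g ∈ normalizer (W.A2 : Set G) := by
  rcases W.nn hA (hP.P_B g ((mem_S0n W).1 hg).1) with h | h
  · exact h.2
  · exfalso
    apply W.not_le
    intro a ha
    have h1 := norm_conj' ((mem_S0n W).1 hg).2 ha
    have h2 := h.1 _ h1
    have e : g * (g⁻¹ * a * g) * g⁻¹ = a := by group
    rwa [e] at h2

theorem hidx : ∀ a ∈ (P : Subgroup G), ∀ b ∈ (P : Subgroup G), a ∉ W.S0 (P : Subgroup G) →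
    b ∉ W.S0 (P : Subgroup G) → a * b ∈ W.S0 (P : Subgroup G) := by
  intro a ha b hb ha0 hb0
  refine (mem_S0n W).2 ⟨mul_mem ha hb, mem_norm (fun x hx => ?_)⟩
  have h1 := (W.swap_A hA hO hP hb hb0).1 x hx
  have h2 := (W.swap_A hA hO hP ha ha0).2 _ h1
  have e : a * (b * x * b⁻¹) * a⁻¹ = a * b * x * (a * b)⁻¹ := by group
  rwa [e] at h2

omit hA in
/-- `P ∩ A1 = S1` -/
theorem mem_S1 {x : G} (hx : x ∈ (P : Subgroup G)) (hxA : x ∈ W.A1) : x ∈ W.S1 := by
  have h1 : W.S1 ≤ (P : Subgroup G) ⊓ W.A1 := by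
    intro s hs
    refine ⟨hP.T_le ⟨s, hs, 1, one_mem _, by group⟩, W.S1_le hs⟩
  obtain ⟨a, ha, hc⟩ := W.syl ((P : Subgroup G) ⊓ W.A1) inf_le_right (P.isPGroup'.to_le inf_le_left)
  have h2 : ((P : Subgroup G) ⊓ W.A1).map (MulAut.conj a⁻¹).toMonoidHom ≤ W.S1 := by
    rintro _ ⟨z, hz, rfl⟩
    have := hc z hz
    have e : (MulAut.conj a⁻¹).toMonoidHom z = a⁻¹ * z * a := by
      show a⁻¹ * z * a⁻¹⁻¹ = _
      rw [inv_inv]
    rw [e]; exact this
  have h3 := Subgroup.card_le_of_le h2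
  rw [card_cj] at h3
  have h4 := Subgroup.eq_of_le_of_card_ge h1 h3
  rw [h4]
  exact ⟨hx, hxA⟩

omit hA in
theorem mem_S2' {x : G} (hx : x ∈ (P : Subgroup G)) (hxA : x ∈ W.A2) : x ∈ W.S2 := by
  rw [mem_S2]
  exact W.mem_S1 hO hP (W.swP hO hP hx) (W.sw_mem_A1 hxA)

omit hA hO in
theorem S1_P {x : G} (hx : x ∈ W.S1) : x ∈ (P : Subgroup G) := hP.T_le ⟨x, hx, 1, one_mem _, by group⟩

omit hA hO in
theorem S2_P {x : G} (hx : x ∈ W.S2) : x ∈ (P : Subgroup G) := hP.T_le ⟨1, one_mem _, x, hx, by group⟩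

omit hA hO in
theorem T_S0 : W.T ≤ W.S0 (P : Subgroup G) := by
  rintro _ ⟨a, ha, b, hb, rfl⟩
  refine (mem_S0n W).2 ⟨mul_mem (W.S1_P hP ha) (W.S2_P hP hb), mul_mem (le_normalizer (W.S1_le ha)) ?_⟩
  refine mem_norm (fun x hx => ?_)
  rw [← W.comm' hx (W.S2_le hb), mul_inv_cancel_right]
  exact hx

/-- the normalising facts -/
theorem normS : NormS (W.S0 (P : Subgroup G)) W.S1 W.S2 := by
  constructor
  · intro x hx a ha
    obtain ⟨h1, h2⟩ := (mem_S0n W).1 hx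
    refine W.mem_S1 hO hP (mul_mem (mul_mem (inv_mem h1) (W.S1_P hP ha)) h1) ?_
    exact norm_conj' h2 (W.S1_le ha)
  · intro x hx a ha
    obtain ⟨h1, h2⟩ := (mem_S0n W).1 hx
    refine W.mem_S2' hO hP (mul_mem (mul_mem (inv_mem h1) (W.S2_P hP ha)) h1) ?_
    exact norm_conj' (W.norm_A2 hA hO hP hx) (W.S2_le ha)

theorem hsw1 : ∀ u ∈ (P : Subgroup G), u ∉ W.S0 (P : Subgroup G) → ∀ a ∈ W.S1, u⁻¹ * a * u ∈ W.S2 := by
  intro u hu hu0 a ha
  have hui : u⁻¹ ∉ W.S0 (P : Subgroup G) := fun h => hu0 (inv_mem_iff.1 h)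
  have h1 := (W.swap_A hA hO hP (inv_mem hu) hui).1 a (W.S1_le ha)
  rw [inv_inv] at h1
  exact W.mem_S2' hO hP (mul_mem (mul_mem (inv_mem hu) (W.S1_P hP ha)) hu) h1

theorem hsw2 : ∀ u ∈ (P : Subgroup G), u ∉ W.S0 (P : Subgroup G) → ∀ a ∈ W.S2, u⁻¹ * a * u ∈ W.S1 := by
  intro u hu hu0 a ha
  have hui : u⁻¹ ∉ W.S0 (P : Subgroup G) := fun h => hu0 (inv_mem_iff.1 h)
  have h1 := (W.swap_A hA hO hP (inv_mem hu) hui).2 a (W.S2_le ha)
  rw [inv_inv] at h1
  exact W.mem_S1 hO hP (mul_mem (mul_mem (inv_mem hu) (W.S2_P hP ha)) hu) h1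

theorem swapData
    (hW : ∀ g : G, (∀ x ∈ W.T, g⁻¹ * x * g ∈ (P : Subgroup G)) → ∀ x ∈ W.T, g⁻¹ * x * g ∈ W.T)
    (hD : ∀ a ∈ W.S1, ∀ b ∈ W.S2, a ≠ 1 → b ≠ 1 → a * a = 1 → b * b = 1 → ∀ g : G,
      g⁻¹ * (a * b) * g ∉ W.S1 ∧ g⁻¹ * (a * b) * g ∉ W.S2) :
    SwapData (P : Subgroup G) (W.S0 (P : Subgroup G)) W.T W.S1 W.S2 where
  hidx := W.hidx hA hO hP
  hS0 := fun _ hx => ((mem_S0n W).1 hx).1
  hNS := W.T_S0 hP
  h1N := fun x hx => ⟨x, hx, 1, one_mem _, by group⟩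
  h2N := fun x hx => ⟨1, one_mem _, x, hx, by group⟩
  hsup := fun _ hx => hx
  hcomm := fun _ ha _ hb => W.comm' (W.S1_le ha) (W.S2_le hb)
  hdisj := fun a ha hb => W.disj a ha hb
  hsw1 := W.hsw1 hA hO hP
  hsw2 := W.hsw2 hA hO hP
  hW := hW
  hD := hD

/-- `S0` is invariant under `t` -/
theorem sw_S0n {x : G} (hx : x ∈ W.S0 (P : Subgroup G)) : W.sw x ∈ W.S0 (P : Subgroup G) := by
  obtain ⟨h1, h2⟩ := (mem_S0n W).1 hx
  refine (mem_S0n W).2 ⟨W.swP hO hP h1, mem_norm (fun a ha => ?_)⟩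
  have h3 := W.norm_A2 hA hO hP hx
  have h4 := norm_conj h3 (W.sw_mem_A2 ha)
  rw [mem_A2, sw_mul, sw_mul, sw_inv, sw_sw] at h4
  exact h4

/-- `T0 = C_P(t)` -/
theorem mem_T0 {x : G} (hx : x ∈ (P : Subgroup G)) (hxt : x * W.t = W.t * x) : x ∈ T0 := by
  let R : Subgroup G := (P : Subgroup G) ⊓ centralizer ({W.t} : Set G)
  have hR : IsPGroup 2 R := P.isPGroup'.to_le inf_le_left
  obtain ⟨c, -, hc⟩ := hO.T0_syl R hR (fun z hz => mem_centralizer_singleton_iff.1 hz.2)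
  have h1 : R.map (MulAut.conj c⁻¹).toMonoidHom ≤ T0 := by
    rintro _ ⟨z, hz, rfl⟩
    have := hc z hz
    have e : (MulAut.conj c⁻¹).toMonoidHom z = c⁻¹ * z * c := by
      show c⁻¹ * z * c⁻¹⁻¹ = _
      rw [inv_inv]
    rw [e]; exact this
  have h2 : T0 ≤ R := fun z hz => ⟨hP.T0_le hz, mem_centralizer_singleton_iff.2 (hO.T0_t z hz)⟩
  have h3 := Subgroup.card_le_of_le h1
  rw [card_cj] at h3
  rw [Subgroup.eq_of_le_of_card_ge h2 h3]
  exact ⟨hx, mem_centralizer_singleton_iff.2 hxt⟩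

/-- 2-elements centralising `A1` and `A2` are trivial -/
theorem cent_one {z : G} (hz : z ∈ (P : Subgroup G)) (h1 : ∀ a ∈ W.A1, z * a = a * z) (h2 : ∀ a ∈ W.A2, z * a = a * z) :
    z = 1 := by
  have : Fact (Nat.Prime 2) := ⟨Nat.prime_two⟩
  let C : Subgroup G := (P : Subgroup G) ⊓ (centralizer (W.A1 : Set G) ⊓ centralizer (W.A2 : Set G))
  have hCmem : ∀ x, x ∈ C ↔ x ∈ (P : Subgroup G) ∧ (∀ a ∈ W.A1, x * a = a * x) ∧ ∀ a ∈ W.A2, x * a = a * x := by
    intro x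
    constructor
    · rintro ⟨h1, h2, h3⟩
      exact ⟨h1, fun a ha => ((mem_centralizer_iff.1 h2) a ha).symm, fun a ha => ((mem_centralizer_iff.1 h3) a ha).symm⟩
    · rintro ⟨h1, h2, h3⟩
      exact ⟨h1, mem_centralizer_iff.2 (fun a ha => (h2 a ha).symm), mem_centralizer_iff.2 (fun a ha => (h3 a ha).symm)⟩
  -- the fixed points of `t` on `C` are trivial
  have key : ∀ x ∈ C, x * W.t = W.t * x → x = 1 := by
    intro x hx hxt
    obtain ⟨hxP, hx1, hx2⟩ := (hCmem x).1 hx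
    obtain ⟨k, hk, o, ho, hxe⟩ := hA.hCZ x hxt (by
      intro w hw
      have hwS := W.S1_le (W.Ma_le (W.Z_Ma hw))
      calc x * (w * W.sw w) = (x * w) * W.sw w := by group
        _ = w * (x * W.sw w) := by rw [hx1 w hwS]; group
        _ = w * W.sw w * x := by rw [hx2 _ (W.sw_mem_A2 hwS)]; group)
    have hk1 : ∀ a ∈ W.A1, k * a = a * k := by
      intro a ha
      have e1 := hx1 a ha
      rw [hxe] at e1
      have e2 := hA.O_A o ho a ha
      have e3 : k * a * o = a * k * o := by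
        calc k * a * o = k * (o * a) := by rw [e2]; group
          _ = a * (k * o) := by rw [← e1]; group
          _ = a * k * o := by group
      exact mul_right_cancel e3
    obtain ⟨a, ha, hka | hka⟩ := hk
    · have ha1 : a = 1 := by
        refine W.centre a ha (fun b hb => ?_)
        have e1 := hk1 b hb
        rw [hka] at e1
        have e2 := W.comm_sw hb (W.S1_le ha)
        have e3 : a * b * W.sw a = b * a * W.sw a := by
          calc a * b * W.sw a = a * (W.sw a * b) := by rw [← e2]; group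
            _ = b * (a * W.sw a) := by rw [← e1]; group
            _ = b * a * W.sw a := by group
        exact mul_right_cancel e3
      rw [ha1, sw_one, mul_one] at hka
      rw [hka, one_mul] at hxe
      -- `x = o` of odd order
      have h5 : x ∈ O := by rw [hxe]; exact ho
      obtain ⟨m, hm⟩ := P.isPGroup' ⟨x, hxP⟩
      have hm' : x ^ 2 ^ m = 1 := congrArg Subtype.val hm
      have h6 : x ^ Nat.card O = 1 := by
        have := pow_card_eq_one' (x := (⟨x, h5⟩ : O))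
        exact congrArg Subtype.val this
      have h7 : orderOf x ∣ Nat.gcd (2 ^ m) (Nat.card O) :=
        Nat.dvd_gcd (orderOf_dvd_of_pow_eq_one hm') (orderOf_dvd_of_pow_eq_one h6)
      have h8 : Nat.gcd (2 ^ m) (Nat.card O) = 1 := Nat.Coprime.pow_left m (Nat.coprime_two_left.2 hA.O_odd)
      rw [h8, Nat.dvd_one, orderOf_eq_one_iff] at h7
      exact h7
    · exfalso
      apply W.not_le
      intro b hb
      rw [mem_A2]
      -- `k b k⁻¹ = b` and `k = a sw(a) t`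
      have e1 : k * b * k⁻¹ = b := by rw [hk1 b hb, mul_inv_cancel_right]
      have hki : k⁻¹ = W.t * (a * W.sw a)⁻¹ := by
        rw [hka, mul_inv_rev (a * W.sw a) W.t, W.tinv]
      have e2 : k * b * k⁻¹ = a * W.sw a * W.sw b * (a * W.sw a)⁻¹ := by
        rw [hki, hka, W.swE b]; group
      rw [e2] at e1
      have e3 : W.sw b = (a * W.sw a)⁻¹ * b * (a * W.sw a) := by
        calc W.sw b = (a * W.sw a)⁻¹ * (a * W.sw a * W.sw b * (a * W.sw a)⁻¹) * (a * W.sw a) := by group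
          _ = (a * W.sw a)⁻¹ * b * (a * W.sw a) := by rw [e1]
      rw [e3]
      have haA := W.S1_le ha
      have e4 : (a * W.sw a)⁻¹ * b * (a * W.sw a) = a⁻¹ * b * a := by
        rw [W.comm_sw haA haA, mul_inv_rev]
        have e5 := W.comm_sw (mul_mem (mul_mem (inv_mem haA) hb) haA) haA
        have e6 : a⁻¹ * b * a = (W.sw a)⁻¹ * (a⁻¹ * b * a) * W.sw a := by
          rw [mul_assoc (W.sw a)⁻¹, e5]; group
        have e7 := W.comm_sw (mul_mem (inv_mem haA) hb) haA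
        calc a⁻¹ * (W.sw a)⁻¹ * b * (W.sw a * a) = (W.sw a)⁻¹ * (a⁻¹ * b) * W.sw a * a := by
              have e8 : a⁻¹ * (W.sw a)⁻¹ = (W.sw a)⁻¹ * a⁻¹ := by
                rw [← mul_inv_rev, ← mul_inv_rev, W.comm_sw haA haA]
              rw [e8]; group
          _ = (W.sw a)⁻¹ * (a⁻¹ * b * W.sw a) * a := by group
          _ = (W.sw a)⁻¹ * (W.sw a * (a⁻¹ * b)) * a := by rw [e7]
          _ = a⁻¹ * b * a := by group
      rw [e4]
      exact mul_mem (mul_mem (inv_mem haA) hb) haA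
  -- `C` is normalised by `t`; if it is nontrivial, `t` has a nontrivial fixed point
  by_contra hz1
  have hzC : z ∈ C := (hCmem z).2 ⟨hz, h1, h2⟩
  have htC : ∀ x ∈ C, W.sw x ∈ C := by
    intro x hx
    obtain ⟨hxP, hx1, hx2⟩ := (hCmem x).1 hx
    refine (hCmem _).2 ⟨W.swP hO hP hxP, ?_, ?_⟩
    · intro a ha
      have := congrArg W.sw (hx2 _ (W.sw_mem_A2 ha))
      rwa [sw_mul, sw_mul, sw_sw] at this
    · intro a ha
      have := congrArg W.sw (hx1 _ (W.sw_mem_A1 ha))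
      rwa [sw_mul, sw_mul, sw_sw] at this
  obtain ⟨m, hmC, hm1, -, hmt⟩ := exists_comm (P := (P : Subgroup G)) P.isPGroup' (Z := C) inf_le_left
    (fun h => hz1 (by rw [h, mem_bot] at hzC; exact hzC)) (W.tP hO hP) (by
      intro x hx
      have e : W.t * x * W.t⁻¹ = W.sw x := by rw [W.tinv]; rfl
      rw [e]
      exact htC x hx)
  exact hm1 (key m hmC hmt)

end Cfsg.Agent.StdSpFour.SplitA.Wr
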