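import Cfsg.Agent.StdSpFour.SplitA.OutTypes

set_option autoImplicit false

/-!
# S1778, `Sp₄(q)`, case (A), split: fusion of outer involutions

* `not_I1`, `M3'` : fusion of the involution `y` together with `t` preserves types.
-/

namespace Cfsg.Agent.StdSpFour.SplitA.Wr

open Subgroup Cfsg.Agent.StdRank2.OutSplit
open scoped commutatorElement

universe u

variable {G : Type u} [Group G] [Finite G] (W : Wr G) {O T0 : Subgroup G} {y : G} {P : Sylow 2 G}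

variable (hA : W.Amb O) (hO : W.Outer T0 y) (hP : W.Syl T0 y (P : Subgroup G))
include hA hO hP

/-- `S1` is self-normalising among the 2-elements of `A1` -/
theorem mem_S1_of_norm {s : G} (hs : s ∈ W.A1) (hs2 : s * s = 1) (hn : ∀ x ∈ W.S1, s * x * s⁻¹ ∈ W.S1) : s ∈ W.S1 := by
  have : Fact (Nat.Prime 2) := ⟨Nat.prime_two⟩
  have hsn : s ∈ normalizer (W.S1 : Set G) := mem_norm hn
  have hz : IsPGroup 2 (zpowers s) := by
    intro ⟨x, hx⟩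
    obtain ⟨k, rfl⟩ := mem_zpowers_iff.1 hx
    refine ⟨1, Subtype.ext ?_⟩
    show (s ^ k) ^ 2 ^ 1 = 1
    rw [pow_one, sq, ← zpow_add, ← two_mul, zpow_mul, zpow_ofNat, sq, hs2, one_zpow]
  have hle : zpowers s ≤ normalizer (W.S1 : Set G) := by
    rw [zpowers_le]; exact hsn
  have hQ : IsPGroup 2 (zpowers s ⊔ W.S1 : Subgroup G) := by
    have := IsPGroup.to_sup_of_normal_right' hz W.two hle
    exact this
  have hQA : zpowers s ⊔ W.S1 ≤ W.A1 := by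
    rw [sup_le_iff, zpowers_le]
    exact ⟨hs, W.S1_le⟩
  obtain ⟨a, -, hc⟩ := W.syl _ hQA hQ
  have h2 : (zpowers s ⊔ W.S1 : Subgroup G).map (MulAut.conj a⁻¹).toMonoidHom ≤ W.S1 := by
    rintro _ ⟨z, hz, rfl⟩
    have := hc z hz
    have e : (MulAut.conj a⁻¹).toMonoidHom z = a⁻¹ * z * a := by
      show a⁻¹ * z * a⁻¹⁻¹ = _
      rw [inv_inv]
    rw [e]; exact this
  have h3 := Subgroup.card_le_of_le h2
  rw [card_cj] at h3
  rw [Subgroup.eq_of_le_of_card_ge (le_sup_right : W.S1 ≤ zpowers s ⊔ W.S1) h3]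
  exact mem_sup_left (mem_zpowers s)

/-- **fusion to inner elements** -/
theorem not_I1 {x h : G} (hx : x ∈ W.S0 (P : Subgroup G)) (hx2 : x * x = 1) (hxI : x ∉ W.I1 (P : Subgroup G))
    (hh : ∀ a ∈ W.A1, h * a * h⁻¹ ∈ W.A1) : h⁻¹ * x * h ∉ W.I1 (P : Subgroup G) := by
  rintro ⟨hP1, s, hs, hact⟩
  apply hxI
  obtain ⟨hxP, hxN⟩ := (mem_S0n W).1 hx
  refine ⟨hxP, ?_⟩
  have hhn : h ∈ normalizer (W.A1 : Set G) := mem_norm hh
  obtain ⟨s', hs'⟩ : ∃ s', s' = h * s * h⁻¹ := ⟨_, rfl⟩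
  have hs'A : s' ∈ W.A1 := by rw [hs']; exact hh s (W.S1_le hs)
  -- `x` acts as `s'`
  have hact' : ∀ a ∈ W.A1, x * a * x⁻¹ = s' * a * s'⁻¹ := by
    intro a ha
    have h1 := hact _ (norm_conj' hhn ha)
    have h2 : h * (h⁻¹ * x * h * (h⁻¹ * a * h) * (h⁻¹ * x * h)⁻¹) * h⁻¹ = h * (s * (h⁻¹ * a * h) * s⁻¹) * h⁻¹ := by
      rw [h1]
    rw [hs']
    calc x * a * x⁻¹ = h * (h⁻¹ * x * h * (h⁻¹ * a * h) * (h⁻¹ * x * h)⁻¹) * h⁻¹ := by group
      _ = h * (s * (h⁻¹ * a * h) * s⁻¹) * h⁻¹ := h2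
      _ = h * s * h⁻¹ * a * (h * s * h⁻¹)⁻¹ := by group
  have hss : s * s = 1 := by
    refine W.centre _ (mul_mem hs hs) (fun a ha => ?_)
    have hy2 : (h⁻¹ * x * h) * (h⁻¹ * x * h) = 1 := by
      calc (h⁻¹ * x * h) * (h⁻¹ * x * h) = h⁻¹ * (x * x) * h := by group
        _ = 1 := by rw [hx2]; group
    obtain ⟨z, hz⟩ : ∃ z, z = h⁻¹ * x * h := ⟨_, rfl⟩
    rw [← hz] at hact hy2
    have h1 := hact a ha
    have h2 := hact _ (mul_mem (mul_mem (W.S1_le hs) ha) (inv_mem (W.S1_le hs)))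
    have h3 : s * s * a * (s * s)⁻¹ = a := by
      calc s * s * a * (s * s)⁻¹ = s * (s * a * s⁻¹) * s⁻¹ := by group
        _ = z * (s * a * s⁻¹) * z⁻¹ := h2.symm
        _ = z * (z * a * z⁻¹) * z⁻¹ := by rw [h1]
        _ = (z * z) * a * (z * z)⁻¹ := by group
        _ = a := by rw [hy2]; group
    calc s * s * a = (s * s * a * (s * s)⁻¹) * (s * s) := by group
      _ = a * (s * s) := by rw [h3]
  have hs'2 : s' * s' = 1 := by
    rw [hs']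
    calc h * s * h⁻¹ * (h * s * h⁻¹) = h * (s * s) * h⁻¹ := by group
      _ = 1 := by rw [hss]; group
  refine ⟨s', ?_, hact'⟩
  refine W.mem_S1_of_norm hA hO hP hs'A hs'2 (fun z hz => ?_)
  rw [← hact' z (W.S1_le hz)]
  have := (W.normS hA hO hP).1 x⁻¹ (inv_mem hx) z hz
  rwa [inv_inv] at this

omit [Finite G] hA hO hP in
theorem conj_P {x : G} (h : W.t * x = x * W.t) : W.sw x = x := by
  rw [swE, h, mul_assoc, W.tt, mul_one]

/-- (M3') for `I1` -/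
theorem M3' (hH : ∀ g : G, g⁻¹ * W.t * g ∈ (P : Subgroup G) → ∀ x ∈ W.B, g * x * g⁻¹ ∈ W.B)
    {x : G} (hx : x ∈ W.S0 (P : Subgroup G)) (hx2 : x * x = 1) (hxt : x * W.t = W.t * x)
    (hxI : x ∉ W.I1 (P : Subgroup G)) {g : G} (hg : g⁻¹ * W.t * g ∈ (P : Subgroup G))
    (hgx : g⁻¹ * x * g ∈ (P : Subgroup G)) :
    g⁻¹ * x * g ∈ W.S0 (P : Subgroup G) ∧ g⁻¹ * x * g ∉ W.I1 (P : Subgroup G) ∧
      W.sw (g⁻¹ * x * g) ∉ W.I1 (P : Subgroup G) := by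
  obtain ⟨hxP, hxN⟩ := (mem_S0n W).1 hx
  have hxN2 := W.norm_A2 hA hO hP hx
  have htx : W.t * x * W.t = x := by rw [← hxt, mul_assoc, W.tt, mul_one]
  -- conjugation by `t`
  have hswA : ∀ a ∈ W.A2, W.t * a * W.t⁻¹ ∈ W.A1 := by
    intro a ha
    rw [W.tinv]; exact W.sw_mem_A1 ha
  have hswA' : ∀ a ∈ W.A1, W.t * a * W.t⁻¹ ∈ W.A2 := by
    intro a ha
    rw [W.tinv]; exact W.sw_mem_A2 ha
  have key : ∀ h : G, ((∀ a ∈ W.A1, h * a * h⁻¹ ∈ W.A1) ∨ (∀ a ∈ W.A1, h * a * h⁻¹ ∈ W.A2)) →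
      h⁻¹ * x * h ∉ W.I1 (P : Subgroup G) := by
    intro h hh
    rcases hh with hh | hh
    · exact W.not_I1 hA hO hP hx hx2 hxI hh
    · have h1 := W.not_I1 hA hO hP (h := W.t * h) hx hx2 hxI (by
        intro a ha
        have e : W.t * h * a * (W.t * h)⁻¹ = W.t * (h * a * h⁻¹) * W.t⁻¹ := by group
        rw [e]
        exact hswA _ (hh a ha))
      have e : (W.t * h)⁻¹ * x * (W.t * h) = h⁻¹ * x * h := by
        calc (W.t * h)⁻¹ * x * (W.t * h) = h⁻¹ * (W.t⁻¹ * x * W.t) * h := by group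
          _ = h⁻¹ * x * h := by rw [W.tinv, htx]
      rwa [e] at h1
  have hnn := W.nn hA (hH g hg)
  have e2 : W.sw (g⁻¹ * x * g) = (g * W.t)⁻¹ * x * (g * W.t) := by
    rw [swE, mul_inv_rev, W.tinv]; group
  rcases hnn with ⟨h1, h2⟩ | ⟨h1, h2⟩
  · refine ⟨(mem_S0n W).2 ⟨hgx, mul_mem (mul_mem (inv_mem h1) hxN) h1⟩, key g (Or.inl fun a ha => norm_conj h1 ha), ?_⟩
    rw [e2]
    refine key _ (Or.inr fun a ha => ?_)
    have e : g * W.t * a * (g * W.t)⁻¹ = g * (W.t * a * W.t⁻¹) * g⁻¹ := by group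
    rw [e]
    exact norm_conj h2 (hswA' a ha)
  · refine ⟨(mem_S0n W).2 ⟨hgx, mem_norm (fun a ha => ?_)⟩, key g (Or.inr h1), ?_⟩
    · have e : g⁻¹ * x * g * a * (g⁻¹ * x * g)⁻¹ = g⁻¹ * (x * (g * a * g⁻¹) * x⁻¹) * g := by group
      rw [e]
      exact conj_surj (W.card_A2.symm) h1 (norm_conj hxN2 (h1 a ha))
    · rw [e2]
      refine key _ (Or.inl fun a ha => ?_)
      have e : g * W.t * a * (g * W.t)⁻¹ = g * (W.t * a * W.t⁻¹) * g⁻¹ := by group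
      rw [e]
      exact h2 _ (hswA' a ha)

end Cfsg.Agent.StdSpFour.SplitA.Wr
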