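import Cfsg.Agent.StdSpFour.SplitA.OutFuse

set_option autoImplicit false

/-!
# S1778, `Sp₄(q)`, case (A), split: the table

* `card_le` : elementary abelian subgroups of `C_{S0}(x)` have order at most `q ^ 4`, `x` an involution of `S0 ∖ T`
  which commutes with `t`.
* `exists_big` : if the involution `w` is inner on `A1` and outer on `A2`, then `C_{S0}(w)` has an elementary abelian
  subgroup of order at least `2 q ^ 4`.
* `tab'` : the table.
-/

namespace Cfsg.Agent.StdSpFour.SplitA.Wr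

open Subgroup Cfsg.Agent.StdRank2.OutSplit
open scoped commutatorElement

universe u

variable {G : Type u} [Group G] [Finite G] (W : Wr G) {O T0 : Subgroup G} {y : G} {P : Sylow 2 G}

variable (hA : W.Amb O) (hO : W.Outer T0 y) (hP : W.Syl T0 y (P : Subgroup G))
include hA hO hP

omit hA hO hP in
theorem card_le_two {H K : Subgroup G} (h : ∀ a ∈ K, a ∉ H → ∀ b ∈ K, b ∉ H → a * b ∈ H) :
    Nat.card K ≤ 2 * Nat.card (K ⊓ H : Subgroup G) := by
  by_cases hK : K ≤ H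
  · rw [inf_eq_left.2 hK]; omega
  · obtain ⟨a, ha, haH⟩ := SetLike.not_le_iff_exists.1 hK
    have h1 : (K ⊓ H).relIndex K = 2 := by
      rw [relIndex_eq_two_iff_exists_notMem_and]
      refine ⟨a, ha, fun h' => haH h'.2, ?_⟩
      intro b hb
      by_cases hbH : b ∈ H
      · right; exact ⟨hb, hbH⟩
      · left; exact ⟨mul_mem hb ha, h b hb hbH a ha haH⟩
    have h2 := relIndex_mul_relIndex ⊥ (K ⊓ H) K bot_le inf_le_left
    rw [relIndex_bot_left, relIndex_bot_left, h1] at h2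
    rw [← h2, mul_comm]

/-- first components of the elements of `X ∩ T` -/
def qr1 (X : Subgroup G) : Subgroup G where
  carrier := {a | a ∈ W.S1 ∧ ∃ b ∈ W.S2, a * b ∈ X}
  one_mem' := ⟨one_mem _, 1, one_mem _, by rw [mul_one]; exact one_mem X⟩
  mul_mem' := by
    rintro a c ⟨ha, b, hb, hab⟩ ⟨hc, d, hd, hcd⟩
    refine ⟨mul_mem ha hc, b * d, mul_mem hb hd, ?_⟩
    have h1 := W.comm' (W.S1_le hc) (W.S2_le hb)
    have e : a * c * (b * d) = (a * b) * (c * d) := by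
      calc a * c * (b * d) = a * (c * b) * d := by group
        _ = a * (b * c) * d := by rw [h1]
        _ = (a * b) * (c * d) := by group
    rw [e]; exact mul_mem hab hcd
  inv_mem' := by
    rintro a ⟨ha, b, hb, hab⟩
    refine ⟨inv_mem ha, b⁻¹, inv_mem hb, ?_⟩
    have h1 := W.comm' (inv_mem (W.S1_le ha)) (inv_mem (W.S2_le hb))
    rw [h1, ← mul_inv_rev]
    exact inv_mem hab

omit [Finite G] hA hO hP in
theorem mem_qr1 {X : Subgroup G} {a : G} : a ∈ W.qr1 X ↔ a ∈ W.S1 ∧ ∃ b ∈ W.S2, a * b ∈ X := Iff.rfl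

/-- second components, moved to `S1` -/
def qr2 (X : Subgroup G) : Subgroup G := W.qr1 (X.comap W.swHom)

omit [Finite G] hA hO hP in
theorem mem_qr2 {X : Subgroup G} {a : G} : a ∈ W.qr2 X ↔ a ∈ W.S1 ∧ ∃ b ∈ W.S2, W.sw (a * b) ∈ X := Iff.rfl

omit hA hO hP in
theorem card_pr (X : Subgroup G) (hX : X ≤ W.T) : Nat.card X ≤ Nat.card (W.qr1 X) * Nat.card (W.qr2 X) := by
  rw [← Nat.card_prod]
  have h1 : ∀ x : X, ∃ p : (W.qr1 X) × (W.qr2 X), (x : G) = p.1 * W.sw p.2 := by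
    rintro ⟨x, hx⟩
    obtain ⟨a, ha, b, hb, rfl⟩ := hX hx
    refine ⟨⟨⟨a, ha, b, hb, hx⟩, ⟨W.sw b, hb, W.sw a, W.sw_mem_S2 ha, ?_⟩⟩, ?_⟩
    · show W.sw (W.sw b * W.sw a) ∈ X
      rw [sw_mul, sw_sw, sw_sw, ← W.comm' (W.S1_le ha) (W.S2_le hb)]
      exact hx
    · show a * b = a * W.sw (W.sw b)
      rw [sw_sw]
  choose f hf using h1
  refine Nat.card_le_card_of_injective f (fun x x' h => Subtype.ext ?_)
  rw [hf x, hf x', h]

omit [Finite G] hA hO hP in
/-- components are unique -/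
theorem comp_eqn {a b c d : G} (ha : a ∈ W.S1) (hb : b ∈ W.S2) (hc : c ∈ W.S1) (hd : d ∈ W.S2) (he : a * b = c * d) :
    a = c ∧ b = d := by
  have e : c⁻¹ * a = d * b⁻¹ := by
    calc c⁻¹ * a = c⁻¹ * (a * b) * b⁻¹ := by group
      _ = d * b⁻¹ := by rw [he]; group
  have h1 : c⁻¹ * a = 1 := by
    refine W.disj _ (mul_mem (inv_mem hc) ha) ?_
    rw [e]
    have : d * b⁻¹ ∈ W.S2 := mul_mem hd (inv_mem hb)
    exact this
  have h2 : a = c := (inv_mul_eq_one.1 h1).symm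
  refine ⟨h2, ?_⟩
  rw [h2] at he
  exact mul_left_cancel he

omit [Finite G] hA hP in
theorem y_S2 {b : G} (hb : b ∈ W.S2) : y * b * y ∈ W.S2 := by
  rw [mem_S2, sw_mul, sw_mul, W.sw_yn hO]
  exact hO.yS _ hb

omit [Finite G] hA hP in
/-- components of an involution of `T` which commutes with `y` -/
theorem comp_y {a b : G} (ha : a ∈ W.S1) (hb : b ∈ W.S2) (h2 : a * b * (a * b) = 1) (hy : a * b * y = y * (a * b)) :
    (a * a = 1 ∧ a * y = y * a) ∧ (b * b = 1 ∧ b * y = y * b) := by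
  have hc := W.comm' (W.S1_le ha) (W.S2_le hb)
  have e1 : (a * a) * (b * b) = 1 * 1 := by
    rw [one_mul, ← h2]
    calc a * a * (b * b) = a * (a * b) * b := by group
      _ = a * (b * a) * b := by rw [hc]
      _ = a * b * (a * b) := by group
  obtain ⟨e2, e3⟩ := W.comp_eqn (mul_mem ha ha) (mul_mem hb hb) (one_mem _) (one_mem _) e1
  have hyy := hO.yy
  have e4 : (y * a * y) * (y * b * y) = a * b := by
    calc (y * a * y) * (y * b * y) = y * a * (y * y) * b * y := by group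
      _ = y * (a * b) * y := by rw [hyy]; group
      _ = (a * b * y) * y := by rw [hy]
      _ = a * b * (y * y) := by group
      _ = a * b := by rw [hyy, mul_one]
  obtain ⟨e5, e6⟩ := W.comp_eqn (hO.yS a ha) (W.y_S2 hO hb) ha hb e4
  refine ⟨⟨e2, ?_⟩, e3, ?_⟩
  · calc a * y = (y * a * y) * y := by rw [e5]
      _ = y * a * (y * y) := by group
      _ = y * a := by rw [hyy, mul_one]
  · calc b * y = (y * b * y) * y := by rw [e6]
      _ = y * b * (y * y) := by group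
      _ = y * b := by rw [hyy, mul_one]

/-- elementary abelian subgroups of `C_{S0}(y)` -/
theorem card_le_y {X : Subgroup G} (hX : X ≤ cen (W.S0 (P : Subgroup G)) y) (h2 : ∀ x ∈ X, x * x = 1) :
    Nat.card X ≤ W.q ^ 4 := by
  have hXS : ∀ x ∈ X, x ∈ W.S0 (P : Subgroup G) := fun x hx => (mem_cen.1 (hX hx)).1
  have hXy : ∀ x ∈ X, x * y = y * x := fun x hx => (mem_cen.1 (hX hx)).2
  have hS : ∀ x ∈ W.S0 (P : Subgroup G), x * x = 1 → x ∉ W.I1 (P : Subgroup G) → y * x ∈ W.I1 (P : Subgroup G) := by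
    intro x hx hx2 hxI
    obtain ⟨hxP, hxN⟩ := (mem_S0n W).1 hx
    exact hP.cyc1 x hxP (fun a ha => norm_conj hxN ha) (by rw [hx2]; exact one_mem _) hxI
  have hyi : y⁻¹ = y := inv_eq_of_mul_eq_one_right hO.yy
  have hprod : ∀ a ∈ W.S0 (P : Subgroup G), a * a = 1 → a ∉ W.I1 (P : Subgroup G) →
      ∀ b ∈ W.S0 (P : Subgroup G), b * b = 1 → b ∉ W.I1 (P : Subgroup G) → a * b ∈ W.I1 (P : Subgroup G) := by
    intro a ha ha2 haI b hb hb2 hbI
    have h1 := hS a ha ha2 haI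
    have h3 := hS b hb hb2 hbI
    have h4 := mul_mem (inv_mem h1) h3
    have hai : a⁻¹ = a := inv_eq_of_mul_eq_one_right ha2
    have e : (y * a)⁻¹ * (y * b) = a * b := by
      rw [mul_inv_rev, hai]
      group
    rw [e] at h4
    exact h4
  -- first step
  have c1 : Nat.card X ≤ 2 * Nat.card (X ⊓ W.I1 (P : Subgroup G) : Subgroup G) :=
    card_le_two (fun a ha haI b hb hbI => hprod a (hXS a ha) (h2 a ha) haI b (hXS b hb) (h2 b hb) hbI)
  have c2 : Nat.card (X ⊓ W.I1 (P : Subgroup G) : Subgroup G) ≤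
      2 * Nat.card (X ⊓ W.I1 (P : Subgroup G) ⊓ (W.I1 (P : Subgroup G)).comap W.swHom : Subgroup G) := by
    refine card_le_two (fun a ha haI b hb hbI => ?_)
    show W.sw (a * b) ∈ W.I1 (P : Subgroup G)
    rw [sw_mul]
    have hsq : ∀ x ∈ X, W.sw x * W.sw x = 1 := by
      intro x hx
      rw [← sw_mul, h2 x hx, sw_one]
    exact hprod _ (W.sw_S0n hA hO hP (hXS a ha.1)) (hsq a ha.1) haI _ (W.sw_S0n hA hO hP (hXS b hb.1)) (hsq b hb.1) hbI
  obtain ⟨Y, hY⟩ : ∃ Y, Y = X ⊓ W.I1 (P : Subgroup G) ⊓ (W.I1 (P : Subgroup G)).comap W.swHom := ⟨_, rfl⟩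
  rw [← hY] at c2
  have hYX : ∀ x ∈ Y, x ∈ X := by
    intro x hx
    rw [hY] at hx
    exact hx.1.1
  have hYT : Y ≤ W.T := by
    intro x hx
    rw [hY] at hx
    exact (W.mem_T_iff hA hO hP).2 ⟨hx.1.2, hx.2⟩
  have c3 := W.card_pr Y hYT
  have c4 : 2 * Nat.card (W.qr1 Y) ≤ W.q ^ 2 := by
    refine hO.rank_cen _ (fun a ha => ha.1) ?_ ?_
    · rintro a ⟨ha, b, hb, hab⟩
      exact (W.comp_y hO ha hb (h2 _ (hYX _ hab)) (hXy _ (hYX _ hab))).1.2
    · rintro a ⟨ha, b, hb, hab⟩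
      exact (W.comp_y hO ha hb (h2 _ (hYX _ hab)) (hXy _ (hYX _ hab))).1.1
  have hsy := W.sw_yn hO
  have c5 : 2 * Nat.card (W.qr2 Y) ≤ W.q ^ 2 := by
    have key : ∀ a ∈ W.S1, ∀ b ∈ W.S2, W.sw (a * b) ∈ Y → a * a = 1 ∧ a * y = y * a := by
      intro a ha b hb hab
      have h3 := h2 _ (hYX _ hab)
      have h4 := hXy _ (hYX _ hab)
      have h5 := congrArg W.sw h3
      rw [sw_mul, sw_sw, sw_one] at h5
      have h6 := congrArg W.sw h4
      rw [sw_mul, sw_sw, sw_mul, sw_sw, hsy] at h6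
      exact (W.comp_y hO ha hb h5 h6).1
    refine hO.rank_cen _ (fun a ha => ha.1) ?_ ?_
    · rintro a ⟨ha, b, hb, hab⟩
      exact (key a ha b hb hab).2
    · rintro a ⟨ha, b, hb, hab⟩
      exact (key a ha b hb hab).1
  have c6 : 4 * Nat.card Y ≤ W.q ^ 4 := by
    calc 4 * Nat.card Y ≤ 4 * (Nat.card (W.qr1 Y) * Nat.card (W.qr2 Y)) := Nat.mul_le_mul_left _ c3
      _ = (2 * Nat.card (W.qr1 Y)) * (2 * Nat.card (W.qr2 Y)) := by ring
      _ ≤ W.q ^ 2 * W.q ^ 2 := Nat.mul_le_mul c4 c5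
      _ = W.q ^ 4 := by ring
  omega

/-- **elementary abelian subgroups of `C_{S0}(x)`**, `x ∈ S0 ∖ T` an involution commuting with `t` -/
theorem card_le {x : G} (hx : x ∈ W.S0 (P : Subgroup G)) (hxT : x ∉ W.T) (hxt : x * W.t = W.t * x)
    (hx2 : x * x = 1) {X : Subgroup G} (hX : X ≤ cen (W.S0 (P : Subgroup G)) x) (h2 : ∀ x ∈ X, x * x = 1) :
    Nat.card X ≤ W.q ^ 4 := by
  obtain ⟨v, hv, he⟩ := W.exists_conj_y hA hO hP hx hxT hxt hx2
  obtain ⟨b, hb⟩ : ∃ b, b = v * W.sw v := ⟨_, rfl⟩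
  rw [← hb] at he
  have hbS : b ∈ W.S0 (P : Subgroup G) := by
    rw [hb]
    exact W.T_S0 hP ⟨v, hv, W.sw v, W.sw_mem_S2 hv, rfl⟩
  rw [← card_cj X b]
  refine W.card_le_y hA hO hP ?_ ?_
  · rintro _ ⟨z, hz, rfl⟩
    obtain ⟨h3, h4⟩ := mem_cen.1 (hX hz)
    show b * z * b⁻¹ ∈ _
    refine mem_cen.2 ⟨mul_mem (mul_mem hbS h3) (inv_mem hbS), ?_⟩
    calc b * z * b⁻¹ * y = b * (z * (b⁻¹ * y * b)) * b⁻¹ := by group
      _ = b * (z * x) * b⁻¹ := by rw [he]
      _ = b * (x * z) * b⁻¹ := by rw [h4]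
      _ = b * ((b⁻¹ * y * b) * z) * b⁻¹ := by rw [he]
      _ = y * (b * z * b⁻¹) := by group
  · rintro _ ⟨z, hz, rfl⟩
    show b * z * b⁻¹ * (b * z * b⁻¹) = 1
    calc b * z * b⁻¹ * (b * z * b⁻¹) = b * (z * z) * b⁻¹ := by group
      _ = 1 := by rw [h2 z hz]; group

/-- **large elementary abelian subgroups of `C_{S0}(w)`**, `w` inner on `A1` and outer on `A2` -/
theorem exists_big {w : G} (hw : w ∈ W.S0 (P : Subgroup G)) (hw2 : w * w = 1) (h1 : w ∈ W.I1 (P : Subgroup G))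
    (h2 : W.sw w ∉ W.I1 (P : Subgroup G)) :
    ∃ X : Subgroup G, X ≤ cen (W.S0 (P : Subgroup G)) w ∧ (∀ x ∈ X, x * x = 1) ∧ 2 * W.q ^ 4 ≤ Nat.card X := by
  have hwi : w⁻¹ = w := inv_eq_of_mul_eq_one_right hw2
  have hyi : y⁻¹ = y := inv_eq_of_mul_eq_one_right hO.yy
  obtain ⟨-, s, hs, hact⟩ := h1
  have hss : s * s = 1 := by
    refine W.centre _ (mul_mem hs hs) (fun a ha => ?_)
    have e1 := hact a ha
    have e2 := hact _ (mul_mem (mul_mem (W.S1_le hs) ha) (inv_mem (W.S1_le hs)))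
    have e3 : s * s * a * (s * s)⁻¹ = a := by
      calc s * s * a * (s * s)⁻¹ = s * (s * a * s⁻¹) * s⁻¹ := by group
        _ = w * (s * a * s⁻¹) * w⁻¹ := e2.symm
        _ = w * (w * a * w⁻¹) * w⁻¹ := by rw [e1]
        _ = (w * w) * a * (w * w)⁻¹ := by group
        _ = a := by rw [hw2]; group
    calc s * s * a = (s * s * a * (s * s)⁻¹) * (s * s) := by group
      _ = a * (s * s) := by rw [e3]
  -- the subgroup `M` of order `q ^ 3`
  obtain ⟨M, hMS, hMc, hM2, hMw⟩ : ∃ M : Subgroup G, M ≤ W.S1 ∧ Nat.card M = W.q ^ 3 ∧ (∀ x ∈ M, x * x = 1) ∧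
      ∀ x ∈ M, w * x = x * w := by
    have hc : ∀ M : Subgroup G, M ≤ W.S1 → (∀ a ∈ M, ∀ b ∈ M, a * b = b * a) → s ∈ M → ∀ x ∈ M, w * x = x * w := by
      intro M hM hMc hsM x hx
      have e1 := hact x (W.S1_le (hM hx))
      rw [hMc s hsM x hx, mul_inv_cancel_right] at e1
      calc w * x = (w * x * w⁻¹) * w := by group
        _ = x * w := by rw [e1]
    rcases W.invM s hs hss with h | h
    · exact ⟨W.Ma, W.Ma_le, W.cardMa, W.sqMa, hc _ W.Ma_le (fun a ha b hb => W.comm_Ma ha hb) h⟩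
    · exact ⟨W.Mb, W.Mb_le, W.cardMb, W.sqMb, hc _ W.Mb_le (fun a ha b hb => W.comm_Mb ha hb) h⟩
  -- the action on `Z ^ t`
  obtain ⟨C, hC⟩ : ∃ C : Subgroup G, C = (W.Z ⊓ centralizer ({y} : Set G)).comap W.swHom := ⟨_, rfl⟩
  have hCm : ∀ x, x ∈ C ↔ W.sw x ∈ W.Z ∧ W.sw x * y = y * W.sw x := by
    intro x
    rw [hC]
    constructor
    · rintro ⟨h3, h4⟩
      exact ⟨h3, mem_centralizer_singleton_iff.1 h4⟩
    · rintro ⟨h3, h4⟩
      exact ⟨h3, mem_centralizer_singleton_iff.2 h4⟩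
  have hCc : W.q ≤ Nat.card C := by
    refine hO.card_Z.trans ?_
    rw [hC]
    refine Nat.card_le_card_of_injective (fun x => ⟨W.sw x, ?_⟩) ?_
    · show W.sw (W.sw x) ∈ W.Z ⊓ centralizer ({y} : Set G)
      rw [sw_sw]; exact x.2
    · intro a b hab
      apply Subtype.ext
      have := congrArg (fun z => W.sw (Subtype.val z)) hab
      simpa only [sw_sw] using this
  have hC2 : C ≤ W.A2 := by
    intro x hx
    exact W.S1_le (W.Ma_le (W.Z_Ma ((hCm x).1 hx).1))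
  have hCsq : ∀ x ∈ C, x * x = 1 := by
    intro x hx
    have := W.sqMa _ (W.Z_Ma ((hCm x).1 hx).1)
    have h3 := congrArg W.sw this
    rwa [sw_mul, sw_sw, sw_one] at h3
  have hCw : ∀ x ∈ C, w * x = x * w := by
    intro x hx
    obtain ⟨hxZ, hxy⟩ := (hCm x).1 hx
    have hsw := W.sw_S0n hA hO hP hw
    obtain ⟨hswP, hswN⟩ := (mem_S0n W).1 hsw
    have hsw2 : W.sw w * W.sw w = 1 := by rw [← sw_mul, hw2, sw_one]
    obtain ⟨-, r, hr, hra⟩ := hP.cyc1 _ hswP (fun a ha => norm_conj hswN ha) (by rw [hsw2]; exact one_mem _) h2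
    have e1 := hra _ (W.S1_le (W.Ma_le (W.Z_Ma hxZ)))
    rw [← W.Zc _ hxZ r hr, mul_inv_cancel_right] at e1
    -- `(y w') z (y w')⁻¹ = z`
    have e2 : W.sw w * W.sw x * (W.sw w)⁻¹ = W.sw x := by
      calc W.sw w * W.sw x * (W.sw w)⁻¹ = y⁻¹ * (y * W.sw w * W.sw x * (y * W.sw w)⁻¹) * y := by group
        _ = y⁻¹ * (W.sw x * y) := by rw [e1]; group
        _ = y⁻¹ * (y * W.sw x) := by rw [hxy]
        _ = W.sw x := by group
    have e3 : W.sw (w * x) = W.sw (x * w) := by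
      rw [sw_mul, sw_mul]
      calc W.sw w * W.sw x = (W.sw w * W.sw x * (W.sw w)⁻¹) * W.sw w := by group
        _ = W.sw x * W.sw w := by rw [e2]
    have := congrArg W.sw e3
    rwa [sw_sw, sw_sw] at this
  -- the product
  let X0 : Subgroup G := W.prod M C (hMS.trans W.S1_le) hC2
  have hX0 : ∀ x, x ∈ X0 ↔ ∃ a ∈ M, ∃ b ∈ C, x = a * b := fun x => Iff.rfl
  have hC2' : C ≤ W.S2 := by
    intro x hx
    exact W.Ma_le (W.Z_Ma ((hCm x).1 hx).1)
  have hX0T : X0 ≤ W.T := by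
    rintro _ ⟨a, ha, b, hb, rfl⟩
    exact ⟨a, hMS ha, b, hC2' hb, rfl⟩
  have hX0w : ∀ x ∈ X0, w * x = x * w := by
    rintro _ ⟨a, ha, b, hb, rfl⟩
    calc w * (a * b) = (w * a) * b := by group
      _ = a * (w * b) := by rw [hMw a ha]; group
      _ = a * b * w := by rw [hCw b hb]; group
  have hX0sq : ∀ x ∈ X0, x * x = 1 := by
    rintro _ ⟨a, ha, b, hb, rfl⟩
    have hc := W.comm' (W.S1_le (hMS ha)) (hC2 hb)
    calc a * b * (a * b) = a * (b * a) * b := by group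
      _ = a * (a * b) * b := by rw [hc]
      _ = (a * a) * (b * b) := by group
      _ = 1 := by rw [hM2 a ha, hCsq b hb, one_mul]
  have hX0c : W.q ^ 4 ≤ Nat.card X0 := by
    have h3 : Nat.card (M × C) ≤ Nat.card X0 := by
      refine Nat.card_le_card_of_injective (fun p => (⟨p.1 * p.2, p.1, p.1.2, p.2, p.2.2, rfl⟩ : X0)) ?_
      rintro ⟨⟨a, ha⟩, ⟨b, hb⟩⟩ ⟨⟨c, hc⟩, ⟨d, hd⟩⟩ he
      have he' : a * b = c * d := congrArg Subtype.val he
      obtain ⟨e1, e2⟩ := W.comp_eqn (hMS ha) (hC2' hb) (hMS hc) (hC2' hd) he'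
      subst e1; subst e2; rfl
    rw [Nat.card_prod, hMc] at h3
    calc W.q ^ 4 = W.q ^ 3 * W.q := by ring
      _ ≤ W.q ^ 3 * Nat.card C := Nat.mul_le_mul_left _ hCc
      _ ≤ Nat.card X0 := h3
  have hwX0 : w ∉ X0 := by
    intro h
    exact h2 ((W.mem_T_iff hA hO hP).1 (hX0T h)).2
  let X : Subgroup G :=
    { carrier := {x | x ∈ X0 ∨ w * x ∈ X0}
      one_mem' := Or.inl (one_mem _)
      mul_mem' := by
        rintro a b (ha | ha) (hb | hb)
        · exact Or.inl (mul_mem ha hb)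
        · right
          have e : w * (a * b) = a * (w * b) := by
            rw [← mul_assoc, hX0w a ha]; group
          rw [e]; exact mul_mem ha hb
        · right
          rw [← mul_assoc]; exact mul_mem ha hb
        · left
          have e1 := hX0w _ ha
          -- `w (w a) = (w a) w`
          have e2 : a = w * a * w := by
            rw [← e1, ← mul_assoc, hw2, one_mul]
          have e : a * b = (w * a) * (w * b) := by
            calc a * b = (w * a * w) * b := by rw [← e2]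
              _ = (w * a) * (w * b) := by group
          rw [e]; exact mul_mem ha hb
      inv_mem' := by
        rintro a (ha | ha)
        · exact Or.inl (inv_mem ha)
        · right
          have e1 := hX0w _ ha
          have e : w * a⁻¹ = (w * a)⁻¹ := by
            rw [mul_inv_rev, hwi]
            have e2 : a = w * a * w := by
              rw [← e1, ← mul_assoc, hw2, one_mul]
            have e3 : w * a = a * w := by
              calc w * a = w * (w * a * w) := by rw [← e2]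
                _ = (w * w) * a * w := by group
                _ = a * w := by rw [hw2, one_mul]
            calc w * a⁻¹ = a⁻¹ * (a * w) * a⁻¹ := by group
              _ = a⁻¹ * (w * a) * a⁻¹ := by rw [e3]
              _ = a⁻¹ * w := by group
          rw [e]; exact inv_mem ha }
  have hXm : ∀ x, x ∈ X ↔ x ∈ X0 ∨ w * x ∈ X0 := fun x => Iff.rfl
  have hXform : ∀ x ∈ X, x ∈ X0 ∨ ∃ z ∈ X0, x = w * z := by
    intro x hx
    rcases (hXm x).1 hx with h | h
    · exact Or.inl h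
    · refine Or.inr ⟨_, h, ?_⟩
      rw [← mul_assoc, hw2, one_mul]
  refine ⟨X, ?_, ?_, ?_⟩
  · intro x hx
    rcases hXform x hx with h | ⟨z, hz, rfl⟩
    · exact mem_cen.2 ⟨W.T_S0 hP (hX0T h), (hX0w x h).symm⟩
    · refine mem_cen.2 ⟨mul_mem hw (W.T_S0 hP (hX0T hz)), ?_⟩
      rw [mul_assoc, ← hX0w z hz]
  · intro x hx
    rcases hXform x hx with h | ⟨z, hz, rfl⟩
    · exact hX0sq x h
    · have e1 := hX0w z hz
      calc w * z * (w * z) = w * (z * w) * z := by group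
        _ = w * (w * z) * z := by rw [e1]
        _ = (w * w) * (z * z) := by group
        _ = 1 := by rw [hw2, hX0sq z hz, one_mul]
  · have hle : X0 ≤ X := fun x hx => Or.inl hx
    have hwX : w ∈ X := Or.inr (by rw [hw2]; exact one_mem _)
    have h3 := relIndex_mul_relIndex ⊥ X0 X bot_le hle
    rw [relIndex_bot_left, relIndex_bot_left] at h3
    have h4 : X0.relIndex X ≠ 1 := by
      intro h
      rw [relIndex_eq_one] at h
      exact hwX0 (h hwX)
    have h5 : X0.relIndex X ≠ 0 := by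
      intro h
      rw [h, mul_zero] at h3
      exact Nat.card_pos.ne h3
    have h6 : 2 ≤ X0.relIndex X := by omega
    rw [← h3]
    calc 2 * W.q ^ 4 ≤ X0.relIndex X * Nat.card X0 := Nat.mul_le_mul h6 hX0c
      _ = Nat.card X0 * X0.relIndex X := mul_comm _ _

/-- **the table** -/
theorem tab' {x : G} (hx : x ∈ W.S0 (P : Subgroup G)) (hxT : x ∉ W.T) (hxt : x * W.t = W.t * x)
    (hx2 : x * x = 1) {g : G} (hg : g⁻¹ * x * g ∈ W.S0 (P : Subgroup G))
    (hne : ¬ (g⁻¹ * x * g ∈ W.I1 (P : Subgroup G) ↔ W.sw (g⁻¹ * x * g) ∈ W.I1 (P : Subgroup G))) :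
    (cen (W.S0 (P : Subgroup G)) x).map (MulAut.conj g⁻¹).toMonoidHom ≠ cen (W.S0 (P : Subgroup G)) (g⁻¹ * x * g) := by
  intro he
  obtain ⟨w, hw⟩ : ∃ w, w = g⁻¹ * x * g := ⟨_, rfl⟩
  rw [← hw] at hg hne he
  have hw2 : w * w = 1 := by
    rw [hw]
    calc g⁻¹ * x * g * (g⁻¹ * x * g) = g⁻¹ * (x * x) * g := by group
      _ = 1 := by rw [hx2]; group
  -- a large elementary abelian subgroup
  obtain ⟨X, hX, hXsq, hXc⟩ : ∃ X : Subgroup G, X ≤ cen (W.S0 (P : Subgroup G)) w ∧ (∀ x ∈ X, x * x = 1) ∧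
      2 * W.q ^ 4 ≤ Nat.card X := by
    by_cases h1 : w ∈ W.I1 (P : Subgroup G)
    · have h2 : W.sw w ∉ W.I1 (P : Subgroup G) := fun h => hne ⟨fun _ => h, fun _ => h1⟩
      exact W.exists_big hA hO hP hg hw2 h1 h2
    · have h2 : W.sw w ∈ W.I1 (P : Subgroup G) := by
        by_contra h2
        exact hne ⟨fun h => absurd h h1, fun h => absurd h h2⟩
      obtain ⟨X, hX, hXsq, hXc⟩ := W.exists_big hA hO hP (W.sw_S0n hA hO hP hg)
        (by rw [← sw_mul, hw2, sw_one]) h2 (by rw [sw_sw]; exact h1)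
      refine ⟨X.comap W.swHom, ?_, ?_, ?_⟩
      · intro z hz
        have hz' : W.sw z ∈ X := hz
        obtain ⟨h3, h4⟩ := mem_cen.1 (hX hz')
        have h5 := W.sw_S0n hA hO hP h3
        rw [sw_sw] at h5
        refine mem_cen.2 ⟨h5, ?_⟩
        have := congrArg W.sw h4
        rwa [sw_mul, sw_mul, sw_sw, sw_sw] at this
      · intro z hz
        have := congrArg W.sw (hXsq _ hz)
        have e : W.swHom z = W.sw z := rfl
        rwa [e, sw_mul, sw_sw, sw_one] at this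
      · refine hXc.trans ?_
        refine Nat.card_le_card_of_injective (fun z => ⟨W.sw z, ?_⟩) ?_
        · show W.sw (W.sw z) ∈ X
          rw [sw_sw]; exact z.2
        · intro a b hab
          apply Subtype.ext
          have := congrArg (fun z => W.sw (Subtype.val z)) hab
          simpa only [sw_sw] using this
  have h1 := W.card_le hA hO hP hx hxT hxt hx2 (X := X.map (MulAut.conj g).toMonoidHom) (by
    rintro _ ⟨z, hz, rfl⟩
    have h2 := hX hz
    rw [← he] at h2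
    exact mem_map_conj.1 h2) (by
    rintro _ ⟨z, hz, rfl⟩
    show g * z * g⁻¹ * (g * z * g⁻¹) = 1
    calc g * z * g⁻¹ * (g * z * g⁻¹) = g * (z * z) * g⁻¹ := by group
      _ = 1 := by rw [hXsq z hz]; group)
  rw [card_cj] at h1
  have h2 : 0 < W.q ^ 4 := Nat.pow_pos (by have := W.q4; omega)
  omega

end Cfsg.Agent.StdSpFour.SplitA.Wr
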