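import Cfsg.Agent.StdSpFour.SplitA.OutBase

set_option autoImplicit false

/-!
# S1778, `Sp₄(q)`, case (A), split: types of the elements of `S0`

* `exists_psi` : the homomorphism `ψ` from `S0` to a commutative group with kernel `I1`.
* `mem_T_iff` : `x ∈ T` iff `x ∈ I1` and `t x t ∈ I1`.
* `mem_Z` : `Z = Z(S1)`;  `Z_norm` : `S0` normalises `Z`.
* `exists_conj_y` : the involutions of `S0 ∖ T` which commute with `t` are `T`-conjugate to `y`.
* `hilb`, `split` : the two fields of `OutData`.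
-/

namespace Cfsg.Agent.StdSpFour.SplitA.Wr

open Subgroup Cfsg.Agent.StdRank2.OutSplit
open scoped commutatorElement

universe u

/-- the homomorphism to `S0 / I` -/
theorem exists_psi {G : Type u} [Group G] {S0 I : Subgroup G} (hI : I ≤ S0) (hc : ∀ a ∈ S0, ∀ b ∈ S0, ⁅a, b⁆ ∈ I) :
    ∃ (A : Type u) (_ : CommGroup A) (ψ : S0 →* A), ∀ x (hx : x ∈ S0), ψ ⟨x, hx⟩ = 1 ↔ x ∈ I := by
  have hcm : commutator S0 ≤ I.subgroupOf S0 := by
    rw [commutator_def, commutator_le]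
    rintro ⟨a, ha⟩ - ⟨b, hb⟩ -
    exact hc a ha b hb
  refine ⟨Abelianization S0 ⧸ (I.subgroupOf S0).map Abelianization.of, inferInstance,
    (QuotientGroup.mk' _).comp Abelianization.of, ?_⟩
  intro x hx
  rw [MonoidHom.comp_apply, QuotientGroup.mk'_apply, QuotientGroup.eq_one_iff]
  constructor
  · rintro ⟨⟨z, hzS⟩, hz, he⟩
    have h1 : Abelianization.of ((⟨z, hzS⟩ : S0)⁻¹ * ⟨x, hx⟩) = 1 := by
      rw [map_mul, map_inv, he, inv_mul_cancel]
    have h2 : (⟨z, hzS⟩ : S0)⁻¹ * ⟨x, hx⟩ ∈ commutator S0 := by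
      rw [← Abelianization.ker_of, MonoidHom.mem_ker]
      exact h1
    have h3 : z⁻¹ * x ∈ I := hcm h2
    have h4 : z ∈ I := hz
    have := mul_mem h4 h3
    rwa [mul_inv_cancel_left] at this
  · intro h
    exact ⟨⟨x, hx⟩, h, rfl⟩

variable {G : Type u} [Group G] [Finite G] (W : Wr G) {O T0 : Subgroup G} {y : G} {P : Sylow 2 G}

omit [Finite G] in
theorem cardZ16 : 16 ≤ Nat.card W.Z := by
  rw [W.cardZ]
  have := Nat.pow_le_pow_left W.q4 2
  omega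

/-- two different involutions of `Z` -/
theorem Z_two : ∃ b ∈ W.Z, ∃ b' ∈ W.Z, b ≠ 1 ∧ b' ≠ 1 ∧ b ≠ b' := by
  have h16 := W.cardZ16
  have h1 : ∃ b ∈ W.Z, b ≠ 1 := by
    by_contra h
    push Not at h
    have h1 : W.Z = ⊥ := (Subgroup.eq_bot_iff_forall _).2 h
    rw [h1, Subgroup.card_bot] at h16
    omega
  obtain ⟨b, hb, hb1⟩ := h1
  have h2 : ∃ b' ∈ W.Z, b' ∉ zpowers b := by
    by_contra h
    push Not at h
    have h3 := Subgroup.card_le_of_le (show W.Z ≤ zpowers b from h)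
    rw [Nat.card_zpowers] at h3
    have h4 : orderOf b ≤ 2 := by
      apply orderOf_le_of_pow_eq_one (by norm_num)
      rw [sq]; exact W.sqMa b (W.Z_Ma hb)
    omega
  obtain ⟨b', hb', hb'1⟩ := h2
  refine ⟨b, hb, b', hb', hb1, ?_, ?_⟩
  · rintro rfl; exact hb'1 (one_mem _)
  · rintro rfl; exact hb'1 (mem_zpowers _)

omit [Finite G] in
theorem comm_Ma {a b : G} (ha : a ∈ W.Ma) (hb : b ∈ W.Ma) : a * b = b * a := by
  have h1 := W.sqMa _ (mul_mem ha hb)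
  have h2 := W.sqMa a ha
  have h3 := W.sqMa b hb
  calc a * b = (a * b) * (b * a * (a * b)) := by
        have : b * a * (a * b) = 1 := by
          calc b * a * (a * b) = b * (a * a) * b := by group
            _ = 1 := by rw [h2, mul_one, h3]
        rw [this, mul_one]
    _ = (a * b) * (b * (a * a) * b) := by group
    _ = (a * b) * (b * b) := by rw [h2, mul_one]
    _ = a * b := by rw [h3, mul_one]
    _ = a * b * 1 := by rw [mul_one]
    _ = (a * b) * ((a * b) * (a * b)) := by rw [h1]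
    _ = ((a * b) * (a * b)) * (a * b) := by group
    _ = 1 * (a * b) := by rw [h1]
    _ = (b * (a * a) * b) * (a * b) := by rw [h2, mul_one, h3]
    _ = b * a * ((a * b) * (a * b)) := by group
    _ = b * a := by rw [h1, mul_one]

omit [Finite G] in
theorem comm_Mb {a b : G} (ha : a ∈ W.Mb) (hb : b ∈ W.Mb) : a * b = b * a := by
  have h1 := W.sqMb _ (mul_mem ha hb)
  have h2 := W.sqMb a ha
  have h3 := W.sqMb b hb
  calc a * b = 1 * (a * b) := by rw [one_mul]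
    _ = (b * (a * a) * b) * (a * b) := by rw [h2, mul_one, h3]
    _ = b * a * ((a * b) * (a * b)) := by group
    _ = b * a := by rw [h1, mul_one]

theorem exists_Ma_not : ∃ x ∈ W.Ma, x ∉ W.Z := by
  by_contra h
  push Not at h
  have h1 := Subgroup.card_le_of_le (show W.Ma ≤ W.Z from h)
  rw [W.cardMa, W.cardZ] at h1
  have h2 : W.q ^ 2 < W.q ^ 3 := Nat.pow_lt_pow_right (by have := W.q4; omega) (by norm_num)
  omega

theorem exists_Mb_not : ∃ x ∈ W.Mb, x ∉ W.Z := by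
  by_contra h
  push Not at h
  have h1 := Subgroup.card_le_of_le (show W.Mb ≤ W.Z from h)
  rw [W.cardMb, W.cardZ] at h1
  have h2 : W.q ^ 2 < W.q ^ 3 := Nat.pow_lt_pow_right (by have := W.q4; omega) (by norm_num)
  omega

/-- `Z = Z(S1)` -/
theorem mem_Z {z : G} (hz : z ∈ W.S1) (h : ∀ x ∈ W.S1, z * x = x * z) : z ∈ W.Z := by
  obtain ⟨a, ha, b, hb, rfl⟩ := W.sup z hz
  have haZ : a ∈ W.Z := by
    by_contra haZ
    obtain ⟨x, hx, hxZ⟩ := W.exists_Mb_not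
    refine W.nc a ha haZ x hx hxZ ?_
    have h1 := h x (W.Mb_le hx)
    have h2 := W.comm_Mb hb hx
    have h3 : a * x * b = x * a * b := by
      calc a * x * b = a * (b * x) := by rw [h2]; group
        _ = a * b * x := by group
        _ = x * (a * b) := h1
        _ = x * a * b := by group
    exact mul_right_cancel h3
  have hbZ : b ∈ W.Z := by
    by_contra hbZ
    obtain ⟨x, hx, hxZ⟩ := W.exists_Ma_not
    refine W.nc x hx hxZ b hb hbZ ?_
    have h1 := h x (W.Ma_le hx)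
    have h2 := W.comm_Ma ha hx
    have h3 : a * (b * x) = a * (x * b) := by
      calc a * (b * x) = a * b * x := by group
        _ = x * (a * b) := h1
        _ = (x * a) * b := by group
        _ = (a * x) * b := by rw [h2]
        _ = a * (x * b) := by group
    exact (mul_left_cancel h3).symm
  exact mul_mem haZ hbZ

variable (hA : W.Amb O) (hO : W.Outer T0 y) (hP : W.Syl T0 y (P : Subgroup G))
include hA hO hP

/-- `S0` normalises `Z` -/
theorem Z_norm : ∀ l ∈ W.S0 (P : Subgroup G), ∀ z ∈ W.Z, l * z * l⁻¹ ∈ W.Z := by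
  intro l hl z hz
  have hn := (W.normS hA hO hP).1
  have hzS : z ∈ W.S1 := W.Ma_le (W.Z_Ma hz)
  refine W.mem_Z ?_ (fun x hx => ?_)
  · have := hn l⁻¹ (inv_mem hl) z hzS
    rwa [inv_inv] at this
  · have h1 := W.Zc z hz _ (hn l hl x hx)
    calc l * z * l⁻¹ * x = l * (z * (l⁻¹ * x * l)) * l⁻¹ := by group
      _ = l * ((l⁻¹ * x * l) * z) * l⁻¹ := by rw [h1]
      _ = x * (l * z * l⁻¹) := by group

omit [Finite G] hA hO hP in
theorem I1_S0 {P : Subgroup G} [Finite G] : W.I1 P ≤ W.S0 P := by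
  rintro x ⟨hx, s, hs, h⟩
  refine (mem_S0n W).2 ⟨hx, mem_norm (fun a ha => ?_)⟩
  rw [h a ha]
  exact mul_mem (mul_mem (W.S1_le hs) ha) (inv_mem (W.S1_le hs))

omit hA hO in
theorem T_I1 : W.T ≤ W.I1 (P : Subgroup G) := by
  rintro _ ⟨a, ha, b, hb, rfl⟩
  refine ⟨mul_mem (W.S1_P hP ha) (W.S2_P hP hb), a, ha, fun c hc => ?_⟩
  have h1 := W.comm' hc (W.S2_le hb)
  calc a * b * c * (a * b)⁻¹ = a * (b * c) * b⁻¹ * a⁻¹ := by group
    _ = a * (c * b) * b⁻¹ * a⁻¹ := by rw [h1]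
    _ = a * c * a⁻¹ := by group

omit [Finite G] hA hO hP in
theorem sw_Tn {x : G} (hx : x ∈ W.T) : W.sw x ∈ W.T := by
  obtain ⟨a, ha, b, hb, rfl⟩ := hx
  refine ⟨W.sw b, hb, W.sw a, W.sw_mem_S2 ha, ?_⟩
  rw [sw_mul]
  have h1 := W.comm_sw (W.sw_mem_A1 (W.S2_le hb)) (W.S1_le ha)
  rw [h1]

/-- `x ∈ T` iff `x` and `t x t` induce elements of `S1` on `A1` -/
theorem mem_T_iff {x : G} : x ∈ W.T ↔ x ∈ W.I1 (P : Subgroup G) ∧ W.sw x ∈ W.I1 (P : Subgroup G) := by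
  constructor
  · intro hx
    exact ⟨W.T_I1 hP hx, W.T_I1 hP (W.sw_Tn hx)⟩
  · rintro ⟨⟨hx, s, hs, h⟩, ⟨-, r, hr, h'⟩⟩
    have hsr : s * W.sw r ∈ W.T := ⟨s, hs, W.sw r, W.sw_mem_S2 hr, rfl⟩
    have hz : (s * W.sw r)⁻¹ * x = 1 := by
      refine W.cent_one hA hO hP (mul_mem (inv_mem (hP.T_le hsr)) hx) ?_ ?_
      · intro a ha
        have h1 := h a ha
        have h2 := W.comm_sw ha (W.S1_le hr)
        -- `x a = s a s⁻¹ x`
        have h3 : x * a = s * a * s⁻¹ * x := by rw [← h1]; group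
        calc (s * W.sw r)⁻¹ * x * a = (W.sw r)⁻¹ * s⁻¹ * (x * a) := by group
          _ = (W.sw r)⁻¹ * (a * (W.sw r * (W.sw r)⁻¹)) * s⁻¹ * x := by rw [h3]; group
          _ = (W.sw r)⁻¹ * (a * W.sw r) * ((W.sw r)⁻¹ * s⁻¹) * x := by group
          _ = (W.sw r)⁻¹ * (W.sw r * a) * ((W.sw r)⁻¹ * s⁻¹) * x := by rw [h2]
          _ = a * ((s * W.sw r)⁻¹ * x) := by group
      · intro a ha
        obtain ⟨c, rfl⟩ : ∃ c, a = W.sw c := ⟨W.sw a, (W.sw_sw a).symm⟩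
        have hc : c ∈ W.A1 := by
          have := W.sw_mem_A1 ha
          rwa [sw_sw] at this
        have h1 := congrArg W.sw (h' c hc)
        simp only [sw_mul, sw_inv, sw_sw] at h1
        have h2 := W.comm_sw (W.S1_le hs) hc
        have h3 : x * W.sw c = W.sw r * W.sw c * (W.sw r)⁻¹ * x := by rw [← h1]; group
        have h4 := W.comm_sw (W.S1_le hs) (W.S1_le hr)
        calc (s * W.sw r)⁻¹ * x * W.sw c = (s * W.sw r)⁻¹ * (x * W.sw c) := by group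
          _ = (W.sw r * s)⁻¹ * (W.sw r * W.sw c * (W.sw r)⁻¹ * x) := by rw [h3, h4]
          _ = s⁻¹ * (W.sw c * s) * s⁻¹ * (W.sw r)⁻¹ * x := by group
          _ = s⁻¹ * (s * W.sw c) * s⁻¹ * (W.sw r)⁻¹ * x := by rw [h2]
          _ = W.sw c * ((W.sw r * s)⁻¹ * x) := by group
          _ = W.sw c * ((s * W.sw r)⁻¹ * x) := by rw [h4]
    rw [inv_mul_eq_one] at hz
    rw [← hz]
    exact hsr

omit [Finite G] hA hO hP in
/-- involutions of a cyclic group coincide -/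
theorem cyc_unique {Q : Type*} [Group Q] [Finite Q] [IsCyclic Q] {a b : Q} (ha : a * a = 1) (hb : b * b = 1)
    (ha1 : a ≠ 1) (hb1 : b ≠ 1) : a = b := by
  classical
  have := Fintype.ofFinite Q
  by_contra hab
  have h1 := IsCyclic.card_pow_eq_one_le (α := Q) (n := 2) (by norm_num)
  have h2 : ({1, a, b} : Finset Q) ⊆ Finset.univ.filter (fun x : Q => x ^ 2 = 1) := by
    intro x hx
    simp only [Finset.mem_insert, Finset.mem_singleton] at hx
    simp only [Finset.mem_filter, Finset.mem_univ, true_and]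
    rcases hx with rfl | rfl | rfl
    · exact one_pow 2
    · rw [sq]; exact ha
    · rw [sq]; exact hb
  have h3 := Finset.card_le_card h2
  rw [Finset.card_insert_of_notMem (by simp [ha1.symm, hb1.symm]),
    Finset.card_insert_of_notMem (by simpa using hab), Finset.card_singleton] at h3
  omega

/-- the only involution of `T0 / K` -/
theorem mul_mem_K {x : G} (hx : x ∈ T0) (hxK : x ∉ W.K) (hx2 : x * x ∈ W.K) : y * x ∈ W.K := by
  have hKn : (W.K.subgroupOf T0).Normal := by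
    constructor
    rintro ⟨k, hkT⟩ hk ⟨g, hg⟩
    show g * k * g⁻¹ ∈ W.K
    obtain ⟨a, ha, hka⟩ : k ∈ W.K := hk
    have hu : a * W.sw a ∈ W.U := ⟨a, ha, rfl⟩
    have h1 := W.U_le_K (hO.T0_U g hg _ hu)
    rcases hka with rfl | rfl
    · exact h1
    · have e : g * (a * W.sw a * W.t) * g⁻¹ = (g * (a * W.sw a) * g⁻¹) * (g * W.t * g⁻¹) := by group
      rw [e, hO.T0_t g hg, mul_inv_cancel_right]
      exact mul_mem h1 W.t_mem_K
  obtain ⟨f, hf, hcyc⟩ := hO.cyc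
  let C := T0 ⧸ (W.K.subgroupOf T0)
  have hC : IsCyclic C := by
    refine ⟨⟨QuotientGroup.mk (⟨f, hf⟩ : T0), fun z => ?_⟩⟩
    obtain ⟨⟨z, hz⟩, rfl⟩ := QuotientGroup.mk_surjective z
    obtain ⟨n, hn⟩ := hcyc z hz
    have h1 : (QuotientGroup.mk ((⟨f, hf⟩ : T0) ^ n * ⟨z, hz⟩) : C) = 1 := (QuotientGroup.eq_one_iff _).2 hn
    rw [QuotientGroup.mk_mul, QuotientGroup.mk_pow] at h1
    refine ⟨-(n : ℤ), ?_⟩
    show _ ^ (-(n : ℤ)) = _
    rw [zpow_neg, zpow_natCast]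
    exact inv_eq_of_mul_eq_one_right h1
  have hy2 : y * y ∈ W.K := by rw [hO.yy]; exact one_mem _
  have e1 : (QuotientGroup.mk (⟨y, hO.y_mem⟩ : T0) : C) * QuotientGroup.mk (⟨y, hO.y_mem⟩ : T0) = 1 := by
    rw [← QuotientGroup.mk_mul]
    exact (QuotientGroup.eq_one_iff _).2 hy2
  have e2 : (QuotientGroup.mk (⟨x, hx⟩ : T0) : C) * QuotientGroup.mk (⟨x, hx⟩ : T0) = 1 := by
    rw [← QuotientGroup.mk_mul]
    exact (QuotientGroup.eq_one_iff _).2 hx2
  have e3 : (QuotientGroup.mk (⟨y, hO.y_mem⟩ : T0) : C) ≠ 1 := fun h =>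
    hO.y_not (mem_subgroupOf.1 ((QuotientGroup.eq_one_iff (⟨y, hO.y_mem⟩ : T0)).1 h))
  have e4 : (QuotientGroup.mk (⟨x, hx⟩ : T0) : C) ≠ 1 := fun h =>
    hxK (mem_subgroupOf.1 ((QuotientGroup.eq_one_iff (⟨x, hx⟩ : T0)).1 h))
  have e5 := cyc_unique e1 e2 e3 e4
  have e6 : (QuotientGroup.mk ((⟨y, hO.y_mem⟩ : T0) * ⟨x, hx⟩) : C) = 1 := by
    rw [QuotientGroup.mk_mul, ← e5, e1]
  exact mem_subgroupOf.1 ((QuotientGroup.eq_one_iff ((⟨y, hO.y_mem⟩ : T0) * ⟨x, hx⟩)).1 e6)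

/-- `y ∈ S0` -/
theorem y_S0 : y ∈ W.S0 (P : Subgroup G) := by
  refine (mem_S0n W).2 ⟨hP.T0_le hO.y_mem, mem_norm (fun a ha => ?_)⟩
  have hyi : y⁻¹ = y := inv_eq_of_mul_eq_one_right hO.yy
  rw [hyi]
  exact hO.yA a ha

/-- elements of `S0 ∖ T` which commute with `t` are not in `K` -/
theorem not_K {x : G} (hx : x ∈ W.S0 (P : Subgroup G)) (hxT : x ∉ W.T) : x ∉ W.K := by
  rintro ⟨a, ha, rfl | rfl⟩
  · exact hxT ⟨a, ha, W.sw a, W.sw_mem_S2 ha, rfl⟩
  · have h1 : a * W.sw a ∈ W.S0 (P : Subgroup G) := W.T_S0 hP ⟨a, ha, W.sw a, W.sw_mem_S2 ha, rfl⟩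
    exact W.t_not hA hO hP ((mul_mem_cancel_left h1).1 hx)

/-- elements of `S0 ∖ T` which commute with `t` and whose square lies in `T` are in `yU` -/
theorem exists_yU {x : G} (hx : x ∈ W.S0 (P : Subgroup G)) (hxT : x ∉ W.T) (hxt : x * W.t = W.t * x)
    (hx2 : x * x ∈ W.T) : ∃ a ∈ W.S1, x = y * (a * W.sw a) := by
  have hxK := W.not_K hA hO hP hx hxT
  have hxT0 : x ∈ T0 := W.mem_T0 hA hO hP ((mem_S0n W).1 hx).1 hxt
  -- `x x ∈ U`
  have h2 : x * x ∈ W.K := by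
    obtain ⟨a, ha, b, hb, he⟩ := hx2
    have h1 : W.sw (x * x) = x * x := by
      rw [swE]
      calc W.t * (x * x) * W.t = (W.t * x) * (x * W.t) := by group
        _ = (x * W.t) * (W.t * x) := by rw [hxt]
        _ = x * (W.t * W.t) * x := by group
        _ = x * x := by rw [W.tt, mul_one]
    rw [he, sw_mul] at h1
    have h3 := W.comm_sw (W.sw_mem_A1 (W.S2_le hb)) (W.S1_le ha)
    rw [← h3] at h1
    -- components
    have h4 : a⁻¹ * W.sw b = b * (W.sw a)⁻¹ := by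
      calc a⁻¹ * W.sw b = a⁻¹ * (W.sw b * W.sw a) * (W.sw a)⁻¹ := by group
        _ = a⁻¹ * (a * b) * (W.sw a)⁻¹ := by rw [h1]
        _ = b * (W.sw a)⁻¹ := by group
    have h5 : a⁻¹ * W.sw b = 1 := by
      refine W.disj _ (mul_mem (inv_mem ha) hb) ?_
      rw [h4]
      have : b * (W.sw a)⁻¹ ∈ W.S2 := mul_mem hb (inv_mem (W.sw_mem_S2 ha))
      exact this
    have h6 : W.sw a = b := by
      have : a = W.sw b := inv_mul_eq_one.1 h5
      rw [this, sw_sw]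
    refine ⟨a, ha, Or.inl ?_⟩
    rw [he, h6]
  obtain ⟨a, ha, hk | hk⟩ := W.mul_mem_K hA hO hP hxT0 hxK h2
  · refine ⟨a, ha, ?_⟩
    rw [← hk, ← mul_assoc, hO.yy, one_mul]
  · exfalso
    apply W.t_not hA hO hP
    have h1 : a * W.sw a ∈ W.S0 (P : Subgroup G) := W.T_S0 hP ⟨a, ha, W.sw a, W.sw_mem_S2 ha, rfl⟩
    refine (mul_mem_cancel_left h1).1 ?_
    rw [← hk]
    exact mul_mem (W.y_S0 hA hO hP) hx

omit [Finite G] hA hP in
theorem sw_yn : W.sw y = y := by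
  rw [swE, ← hO.T0_t y hO.y_mem, mul_assoc, W.tt, mul_one]

/-- **the involutions of `S0 ∖ T` which commute with `t`** are conjugate to `y` -/
theorem exists_conj_y {x : G} (hx : x ∈ W.S0 (P : Subgroup G)) (hxT : x ∉ W.T) (hxt : x * W.t = W.t * x)
    (hx2 : x * x = 1) : ∃ v ∈ W.S1, (v * W.sw v)⁻¹ * y * (v * W.sw v) = x := by
  obtain ⟨a, ha, rfl⟩ := W.exists_yU hA hO hP hx hxT hxt (by rw [hx2]; exact one_mem _)
  have hyy := hO.yy
  have hsy := W.sw_yn hO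
  have hyi : y⁻¹ = y := inv_eq_of_mul_eq_one_right hO.yy
  -- `(y a)² = 1`
  have h1 : (y * a * y * a) * W.sw (y * a * y * a) = 1 := by
    have e1 : W.sw (y * a * y * a) = y * W.sw a * y * W.sw a := by
      rw [sw_mul, sw_mul, sw_mul, hsy]
    rw [e1]
    have hc : (y * W.sw a * y) * a = a * (y * W.sw a * y) := by
      have e2 : y * W.sw a * y = W.sw (y * a * y) := by rw [sw_mul, sw_mul, hsy]
      rw [e2]
      exact (W.comm_sw (W.S1_le ha) (W.S1_le (hO.yS a ha))).symm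
    calc (y * a * y * a) * (y * W.sw a * y * W.sw a) = y * a * y * (a * (y * W.sw a * y)) * W.sw a := by group
      _ = y * a * y * ((y * W.sw a * y) * a) * W.sw a := by rw [hc]
      _ = y * a * (y * y) * W.sw a * y * a * W.sw a := by group
      _ = y * (a * W.sw a) * (y * (a * W.sw a)) := by rw [hyy]; group
      _ = 1 := hx2
  have haa : y * a * y * a ∈ W.S1 := mul_mem (hO.yS a ha) ha
  have h2 : y * a * y * a = 1 := by
    refine W.disj _ haa ?_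
    have e3 : W.t * (y * a * y * a) * W.t = (y * a * y * a)⁻¹ := (inv_eq_of_mul_eq_one_right h1).symm
    rw [e3]
    exact inv_mem haa
  obtain ⟨v, hv, hve⟩ := hO.h90 a ha (by rw [← h2]; group)
  refine ⟨v, hv, ?_⟩
  have h3 : (W.sw v)⁻¹ * y * W.sw v = y * W.sw a := by
    have := congrArg W.sw hve
    rw [sw_mul, sw_mul, sw_mul, hsy, sw_inv] at this
    exact this.symm
  have h4 := W.comm_sw (W.S1_le ha) (W.S1_le hv)
  calc (v * W.sw v)⁻¹ * y * (v * W.sw v) = (W.sw v)⁻¹ * (v⁻¹ * y * v) * W.sw v := by group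
    _ = (W.sw v)⁻¹ * (y * a) * W.sw v := by rw [hve]
    _ = (W.sw v)⁻¹ * y * (a * W.sw v) := by group
    _ = (W.sw v)⁻¹ * y * (W.sw v * a) := by rw [h4]
    _ = ((W.sw v)⁻¹ * y * W.sw v) * a := by group
    _ = y * (W.sw a * a) := by rw [h3]; group
    _ = y * (a * W.sw a) := by rw [W.comm_sw (W.S1_le ha) (W.S1_le ha)]

/-- the field `hilb` -/
theorem hilb (hs : SwapData (P : Subgroup G) (W.S0 (P : Subgroup G)) W.T W.S1 W.S2) :
    Hilb (W.S0 (P : Subgroup G)) W.T W.S2 W.t := by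
  refine hilb_of_t hs (W.normS hA hO hP) W.tt (W.tP hO hP) (W.t_not hA hO hP) ?_
  intro x hx hxT hx2 hxt v hv hxv
  obtain ⟨c, hc, hce⟩ := W.exists_conj_y hA hO hP hx hxT hxt hx2
  obtain ⟨b, hb⟩ : ∃ b, b = c * W.sw c := ⟨_, rfl⟩
  rw [← hb] at hce
  have hsy := W.sw_yn hO
  -- `v' = b v b⁻¹`
  have hbv : b * v * b⁻¹ ∈ W.S2 := by
    have h1 := W.comm' (W.S1_le hc) (W.S2_le (mul_mem (mul_mem (W.sw_mem_S2 hc) hv) (inv_mem (W.sw_mem_S2 hc))))
    have h2 : b * v * b⁻¹ = W.sw c * v * (W.sw c)⁻¹ := by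
      rw [hb]
      calc c * W.sw c * v * (c * W.sw c)⁻¹ = (c * (W.sw c * v * (W.sw c)⁻¹)) * c⁻¹ := by group
        _ = W.sw c * v * (W.sw c)⁻¹ := by rw [h1]; group
    rw [h2]
    exact mul_mem (mul_mem (W.sw_mem_S2 hc) hv) (inv_mem (W.sw_mem_S2 hc))
  have h3 : y * (b * v * b⁻¹) * y = (b * v * b⁻¹)⁻¹ := by
    have e1 : y = b * x * b⁻¹ := by rw [← hce]; group
    rw [e1]
    calc b * x * b⁻¹ * (b * v * b⁻¹) * (b * x * b⁻¹) = b * (x * v * x) * b⁻¹ := by group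
      _ = b * v⁻¹ * b⁻¹ := by rw [hxv]
      _ = (b * v * b⁻¹)⁻¹ := by group
  obtain ⟨w, hw⟩ : ∃ w, w = W.sw (b * v * b⁻¹) := ⟨_, rfl⟩
  have hwS : w ∈ W.S1 := by rw [hw]; exact hbv
  have h4 : y * w * (y * w) = 1 := by
    have := congrArg W.sw h3
    rw [sw_mul, sw_mul, hsy, sw_inv, ← hw] at this
    calc y * w * (y * w) = (y * w * y) * w := by group
      _ = 1 := by rw [this, inv_mul_cancel]
  obtain ⟨d, hd, hde⟩ := hO.h90 w hwS h4
  have h5 : (W.sw d)⁻¹ * y * W.sw d = y * (b * v * b⁻¹) := by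
    have := congrArg W.sw hde
    rw [sw_mul, sw_mul, sw_mul, hsy, sw_inv, hw, sw_sw] at this
    exact this.symm
  refine ⟨b⁻¹ * W.sw d * b, ?_, ?_⟩
  · have h1 := W.comm' (W.S1_le hc) (W.S2_le (mul_mem (mul_mem (inv_mem (W.sw_mem_S2 hc)) (W.sw_mem_S2 hd))
      (W.sw_mem_S2 hc)))
    have h2 : b⁻¹ * W.sw d * b = (W.sw c)⁻¹ * W.sw d * W.sw c := by
      have hcc := W.comm_sw (W.S1_le hc) (W.S1_le hc)
      rw [hb]
      calc (c * W.sw c)⁻¹ * W.sw d * (c * W.sw c) = (c * W.sw c)⁻¹ * W.sw d * (W.sw c * c) := by rw [hcc]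
        _ = (W.sw c * c)⁻¹ * W.sw d * (W.sw c * c) := by rw [hcc]
        _ = c⁻¹ * ((W.sw c)⁻¹ * W.sw d * W.sw c * c) := by group
        _ = c⁻¹ * (c * ((W.sw c)⁻¹ * W.sw d * W.sw c)) := by rw [h1]
        _ = (W.sw c)⁻¹ * W.sw d * W.sw c := by group
    rw [h2]
    exact mul_mem (mul_mem (inv_mem (W.sw_mem_S2 hc)) (W.sw_mem_S2 hd)) (W.sw_mem_S2 hc)
  · calc (b⁻¹ * W.sw d * b)⁻¹ * x * (b⁻¹ * W.sw d * b) = b⁻¹ * ((W.sw d)⁻¹ * (b * x * b⁻¹) * W.sw d) * b := by group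
      _ = b⁻¹ * ((W.sw d)⁻¹ * (b * (b⁻¹ * y * b) * b⁻¹) * W.sw d) * b := by rw [hce]
      _ = b⁻¹ * ((W.sw d)⁻¹ * y * W.sw d) * b := by group
      _ = b⁻¹ * (y * (b * v * b⁻¹)) * b := by rw [h5]
      _ = (b⁻¹ * y * b) * v := by group
      _ = x * v := by rw [hce]

/-- the field `split` -/
theorem split (hs : SwapData (P : Subgroup G) (W.S0 (P : Subgroup G)) W.T W.S1 W.S2) :
    ∀ x ∈ W.S0 (P : Subgroup G), x ∉ W.T → x * x ∈ W.T → x * (W.t * x * W.t) ∈ W.T →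
      ∃ n ∈ W.T, x * n * (x * n) = 1 := by
  refine split_of_t hs (W.normS hA hO hP) W.tt (W.tP hO hP) (W.t_not hA hO hP) ?_
  intro x hx hxT hxt hx2
  obtain ⟨a, ha, rfl⟩ := W.exists_yU hA hO hP hx hxT hxt hx2
  have hT : a * W.sw a ∈ W.T := ⟨a, ha, W.sw a, W.sw_mem_S2 ha, rfl⟩
  refine ⟨(a * W.sw a)⁻¹, inv_mem hT, ?_⟩
  rw [mul_inv_cancel_right, hO.yy]

end Cfsg.Agent.StdSpFour.SplitA.Wr
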