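import Cfsg.Agent.StdSpFour.SplitA.Defs

set_option autoImplicit false

/-!
# Components in `T = S1 S2` and ranks
-/

namespace Cfsg.Agent.StdSpFour.SplitA

open Subgroup
open scoped commutatorElement

section General

variable {G : Type*} [Group G]

/-- index at most two -/
theorem card_le_two [Finite G] {X X0 : Subgroup G} (h : X0 ≤ X)
    (h2 : ∀ a ∈ X, ∀ b ∈ X, a ∉ X0 → b ∉ X0 → a * b ∈ X0) : Nat.card X ≤ 2 * Nat.card X0 := by
  by_cases hX : X ≤ X0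
  · have := Subgroup.card_le_of_le hX
    omega
  · rw [SetLike.not_le_iff_exists] at hX
    obtain ⟨u, hu, hu0⟩ := hX
    have h1 : X0.relIndex X = 2 := by
      rw [relIndex_eq_two_iff_exists_notMem_and]
      refine ⟨u, hu, hu0, ?_⟩
      intro b hb
      by_cases hb0 : b ∈ X0
      · exact Or.inr hb0
      · exact Or.inl (h2 b hb u hu hb0 hu0)
    have h3 := relIndex_mul_relIndex ⊥ X0 X bot_le h
    rw [relIndex_bot_left, relIndex_bot_left, h1] at h3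
    omega

/-- index at least two -/
theorem two_mul_card_le [Finite G] {X X0 : Subgroup G} (h : X0 ≤ X) {u : G} (hu : u ∈ X) (hu0 : u ∉ X0) :
    2 * Nat.card X0 ≤ Nat.card X := by
  have h3 := relIndex_mul_relIndex ⊥ X0 X bot_le h
  rw [relIndex_bot_left, relIndex_bot_left] at h3
  have h4 : X0.relIndex X ≠ 0 := fun h0 => by
    rw [h0, mul_zero] at h3
    exact Nat.card_pos.ne' h3.symm
  have h5 : X0.relIndex X ≠ 1 := fun h1 => hu0 (relIndex_eq_one.1 h1 hu)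
  have h6 : 2 ≤ X0.relIndex X := by omega
  rw [← h3, mul_comm]
  exact Nat.mul_le_mul_left _ h6

theorem inv_of_sq {x : G} (h : x * x = 1) : x⁻¹ = x := inv_eq_of_mul_eq_one_right h

/-- elements of an elementary abelian 2-group commute -/
theorem el_comm {E : Subgroup G} (h : ∀ x ∈ E, x * x = 1) {x y : G} (hx : x ∈ E) (hy : y ∈ E) : x * y = y * x := by
  have h1 := h _ (mul_mem hx hy)
  have h2 : (x * y)⁻¹ = x * y := inv_of_sq h1
  rw [mul_inv_rev, inv_of_sq (h x hx), inv_of_sq (h y hy)] at h2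
  exact h2.symm

end General

namespace Wr

variable {G : Type*} [Group G] (W : Wr G)

/-- uniqueness of the components -/
theorem comp_eq {a b c d : G} (ha : a ∈ W.S1) (hb : b ∈ W.S1) (hc : c ∈ W.S1) (hd : d ∈ W.S1)
    (he : a * W.sw b = c * W.sw d) : a = c ∧ b = d := by
  have e : c⁻¹ * a = W.sw (d * b⁻¹) := by
    rw [sw_mul, sw_inv]
    calc c⁻¹ * a = c⁻¹ * (a * W.sw b) * (W.sw b)⁻¹ := by group
      _ = W.sw d * (W.sw b)⁻¹ := by rw [he]; group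
  have h1 : d * b⁻¹ = 1 := by
    refine W.disj _ (mul_mem hd (inv_mem hb)) ?_
    show W.sw (d * b⁻¹) ∈ W.S1
    rw [← e]
    exact mul_mem (inv_mem hc) ha
  have h2 : d = b := mul_inv_eq_one.1 h1
  refine ⟨?_, h2.symm⟩
  rw [h2] at he
  exact mul_right_cancel he

theorem mem_T' {x : G} : x ∈ W.T ↔ ∃ a ∈ W.S1, ∃ b ∈ W.S1, x = a * W.sw b := by
  constructor
  · rintro ⟨a, ha, b, hb, rfl⟩
    exact ⟨a, ha, W.sw b, hb, by rw [sw_sw]⟩
  · rintro ⟨a, ha, b, hb, rfl⟩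
    exact ⟨a, ha, W.sw b, W.sw_mem_S2 hb, rfl⟩

theorem mem_B' {x : G} : x ∈ W.B ↔ ∃ a ∈ W.A1, ∃ b ∈ W.A1, x = a * W.sw b := by
  constructor
  · rintro ⟨a, ha, b, hb, rfl⟩
    exact ⟨a, ha, W.sw b, hb, by rw [sw_sw]⟩
  · rintro ⟨a, ha, b, hb, rfl⟩
    exact ⟨a, ha, W.sw b, W.sw_mem_A2 hb, rfl⟩

/-- product of elements of `B` -/
theorem mul_comp {a b c d : G} (hb : b ∈ W.A1) (hc : c ∈ W.A1) :
    a * W.sw b * (c * W.sw d) = a * c * W.sw (b * d) := by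
  rw [sw_mul]
  calc a * W.sw b * (c * W.sw d) = a * (W.sw b * c) * W.sw d := by group
    _ = a * (c * W.sw b) * W.sw d := by rw [W.comm_sw hc hb]
    _ = a * c * (W.sw b * W.sw d) := by group

theorem S1_le_T : W.S1 ≤ W.T := fun x hx => W.mem_T'.2 ⟨x, hx, 1, one_mem _, by rw [sw_one, mul_one]⟩

theorem sw_mem_T {x : G} (hx : x ∈ W.S1) : W.sw x ∈ W.T := W.mem_T'.2 ⟨1, one_mem _, x, hx, by rw [one_mul]⟩

theorem A1_le_B : W.A1 ≤ W.B := fun x hx => W.mem_B'.2 ⟨x, hx, 1, one_mem _, by rw [sw_one, mul_one]⟩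

theorem T_le_B : W.T ≤ W.B := by
  intro x hx
  obtain ⟨a, ha, b, hb, rfl⟩ := W.mem_T'.1 hx
  exact W.mem_B'.2 ⟨a, W.S1_le ha, b, W.S1_le hb, rfl⟩

theorem sw_B {x : G} (hx : x ∈ W.B) : W.sw x ∈ W.B := by
  obtain ⟨a, ha, b, hb, rfl⟩ := W.mem_B'.1 hx
  refine W.mem_B'.2 ⟨b, hb, a, ha, ?_⟩
  rw [sw_mul, sw_sw, W.comm_sw hb ha]

theorem sw_T {x : G} (hx : x ∈ W.T) : W.sw x ∈ W.T := by
  obtain ⟨a, ha, b, hb, rfl⟩ := W.mem_T'.1 hx
  refine W.mem_T'.2 ⟨b, hb, a, ha, ?_⟩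
  rw [sw_mul, sw_sw, W.comm_sw (W.S1_le hb) (W.S1_le ha)]

theorem A_le_B : W.A ≤ W.B := by
  rintro x ⟨a, ha, rfl⟩
  exact W.mem_B'.2 ⟨a, ha, a, ha, rfl⟩

theorem U_le_T : W.U ≤ W.T := by
  rintro x ⟨a, ha, rfl⟩
  exact W.mem_T'.2 ⟨a, ha, a, ha, rfl⟩

theorem U_comm {x : G} (hx : x ∈ W.U) : x * W.t = W.t * x := by
  obtain ⟨a, ha, rfl⟩ := hx
  exact W.diag_comm (W.S1_le ha)

theorem K_comm {x : G} (hx : x ∈ W.K) : x * W.t = W.t * x := by
  obtain ⟨a, ha, rfl | rfl⟩ := hx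
  · exact W.diag_comm (W.S1_le ha)
  · rw [mul_assoc, W.tt, mul_one, ← mul_assoc, ← W.diag_comm (W.S1_le ha), mul_assoc, W.tt, mul_one]

theorem t_not_T : W.t ∉ W.T := by
  intro h
  obtain ⟨a, ha, b, hb, e⟩ := W.mem_T'.1 h
  -- `t` normalises `S1`
  have h1 : ∀ s ∈ W.S1, W.sw s ∈ W.S1 := by
    intro s hs
    have e1 : W.sw s = a * s * a⁻¹ := by
      have e2 : W.t * s = a * s * W.sw b := by
        calc W.t * s = a * W.sw b * s := by rw [← e]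
          _ = a * (W.sw b * s) := by group
          _ = a * (s * W.sw b) := by rw [W.comm_sw (W.S1_le hs) (W.S1_le hb)]
          _ = a * s * W.sw b := by group
      calc W.sw s = (W.t * s) * W.t⁻¹ := by rw [W.tinv]; rfl
        _ = a * s * W.sw b * (a * W.sw b)⁻¹ := by rw [e2, ← e]
        _ = a * s * a⁻¹ := by group
    rw [e1]
    exact mul_mem (mul_mem ha hs) (inv_mem ha)
  have h2 : ∀ s ∈ W.S1, s = 1 := fun s hs => W.disj s hs (h1 s hs)
  apply W.t1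
  rw [e, h2 a ha, h2 b hb, sw_one, mul_one]

section card

variable [Finite G]

/-- elementary abelian subgroups of `S1` -/
theorem rankS1 {E : Subgroup G} (hE : E ≤ W.S1) (h : ∀ x ∈ E, x * x = 1) : Nat.card E ≤ W.q ^ 3 := by
  by_cases h1 : E ≤ W.Ma
  · rw [← W.cardMa]
    exact Subgroup.card_le_of_le h1
  · rw [SetLike.not_le_iff_exists] at h1
    obtain ⟨y, hy, hya⟩ := h1
    have hyb : y ∈ W.Mb := (W.invM y (hE hy) (h y hy)).resolve_left hya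
    rw [← W.cardMb]
    refine Subgroup.card_le_of_le ?_
    intro x hx
    by_contra hxb
    have hxa : x ∈ W.Ma := (W.invM x (hE hx) (h x hx)).resolve_right hxb
    exact W.nc x hxa (fun hz => hxb (W.Z_Mb hz)) y hyb (fun hz => hya (W.Z_Ma hz)) (el_comm h hx hy)

/-- first components -/
def pr1 (X : Subgroup G) : Subgroup G where
  carrier := {a | a ∈ W.S1 ∧ ∃ b ∈ W.S1, a * W.sw b ∈ X}
  one_mem' := ⟨one_mem _, 1, one_mem _, by rw [sw_one, mul_one]; exact one_mem _⟩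
  mul_mem' := by
    rintro a c ⟨ha, b, hb, h⟩ ⟨hc, d, hd, h'⟩
    refine ⟨mul_mem ha hc, b * d, mul_mem hb hd, ?_⟩
    rw [← W.mul_comp (W.S1_le hb) (W.S1_le hc)]
    exact mul_mem h h'
  inv_mem' := by
    rintro a ⟨ha, b, hb, h⟩
    refine ⟨inv_mem ha, b⁻¹, inv_mem hb, ?_⟩
    have : a⁻¹ * W.sw b⁻¹ = (a * W.sw b)⁻¹ := by
      rw [mul_inv_rev, ← sw_inv]
      exact W.comm_sw (inv_mem (W.S1_le ha)) (inv_mem (W.S1_le hb))
    rw [this]
    exact inv_mem h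

/-- second components -/
def pr2 (X : Subgroup G) : Subgroup G where
  carrier := {b | b ∈ W.S1 ∧ ∃ a ∈ W.S1, a * W.sw b ∈ X}
  one_mem' := ⟨one_mem _, 1, one_mem _, by rw [sw_one, mul_one]; exact one_mem _⟩
  mul_mem' := by
    rintro b d ⟨hb, a, ha, h⟩ ⟨hd, c, hc, h'⟩
    refine ⟨mul_mem hb hd, a * c, mul_mem ha hc, ?_⟩
    rw [← W.mul_comp (W.S1_le hb) (W.S1_le hc)]
    exact mul_mem h h'
  inv_mem' := by
    rintro b ⟨hb, a, ha, h⟩
    refine ⟨inv_mem hb, a⁻¹, inv_mem ha, ?_⟩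
    have : a⁻¹ * W.sw b⁻¹ = (a * W.sw b)⁻¹ := by
      rw [mul_inv_rev, ← sw_inv]
      exact W.comm_sw (inv_mem (W.S1_le ha)) (inv_mem (W.S1_le hb))
    rw [this]
    exact inv_mem h

omit [Finite G] in
theorem mem_pr1 {X : Subgroup G} {a : G} : a ∈ W.pr1 X ↔ a ∈ W.S1 ∧ ∃ b ∈ W.S1, a * W.sw b ∈ X := Iff.rfl

omit [Finite G] in
theorem mem_pr2 {X : Subgroup G} {b : G} : b ∈ W.pr2 X ↔ b ∈ W.S1 ∧ ∃ a ∈ W.S1, a * W.sw b ∈ X := Iff.rfl

omit [Finite G] in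
theorem comp_sq {a b : G} (ha : a ∈ W.S1) (hb : b ∈ W.S1) (h : a * W.sw b * (a * W.sw b) = 1) :
    a * a = 1 ∧ b * b = 1 := by
  rw [W.mul_comp (W.S1_le hb) (W.S1_le ha)] at h
  have := W.comp_eq (mul_mem ha ha) (mul_mem hb hb) (one_mem _) (one_mem _) (h.trans (by rw [sw_one, mul_one]))
  exact this

omit [Finite G] in
theorem pr1_sq {X : Subgroup G} (h : ∀ x ∈ X, x * x = 1) : ∀ a ∈ W.pr1 X, a * a = 1 := by
  rintro a ⟨ha, b, hb, hx⟩
  exact (W.comp_sq ha hb (h _ hx)).1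

omit [Finite G] in
theorem pr2_sq {X : Subgroup G} (h : ∀ x ∈ X, x * x = 1) : ∀ a ∈ W.pr2 X, a * a = 1 := by
  rintro b ⟨hb, a, ha, hx⟩
  exact (W.comp_sq ha hb (h _ hx)).2

/-- a subgroup of `T` embeds in the product of its projections -/
theorem card_le_pr {X : Subgroup G} (hX : X ≤ W.T) : Nat.card X ≤ Nat.card (W.pr1 X) * Nat.card (W.pr2 X) := by
  classical
  have h1 : ∀ x : X, ∃ p : (W.pr1 X) × (W.pr2 X), (x : G) = (p.1 : G) * W.sw (p.2 : G) := by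
    intro x
    obtain ⟨a, ha, b, hb, e⟩ := W.mem_T'.1 (hX x.2)
    refine ⟨(⟨a, ha, b, hb, by rw [← e]; exact x.2⟩, ⟨b, hb, a, ha, by rw [← e]; exact x.2⟩), e⟩
  choose f hf using h1
  have hinj : Function.Injective f := by
    intro x y hxy
    apply Subtype.ext
    rw [hf x, hf y, hxy]
  rw [← Nat.card_prod]
  exact Nat.card_le_card_of_injective f hinj

/-- elementary abelian subgroups of `T` -/
theorem rankT {E : Subgroup G} (hE : E ≤ W.T) (h : ∀ x ∈ E, x * x = 1) : Nat.card E ≤ W.q ^ 6 := by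
  have h1 := W.card_le_pr hE
  have h2 := W.rankS1 (E := W.pr1 E) (fun _ h => h.1) (W.pr1_sq h)
  have h3 := W.rankS1 (E := W.pr2 E) (fun _ h => h.1) (W.pr2_sq h)
  calc Nat.card E ≤ _ := h1
    _ ≤ W.q ^ 3 * W.q ^ 3 := Nat.mul_le_mul h2 h3
    _ = W.q ^ 6 := by ring

/-- elementary abelian subgroups of `K = U⟨t⟩` -/
theorem rankK {E : Subgroup G} (hE : E ≤ W.K) (h : ∀ x ∈ E, x * x = 1) : Nat.card E ≤ 2 * W.q ^ 3 := by
  have h1 : Nat.card E ≤ 2 * Nat.card (E ⊓ W.U : Subgroup G) := by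
    refine card_le_two inf_le_left ?_
    intro a ha b hb ha0 hb0
    refine ⟨mul_mem ha hb, ?_⟩
    obtain ⟨c, hc, rfl | rfl⟩ := hE ha
    · exact absurd ⟨ha, c, hc, rfl⟩ ha0
    obtain ⟨d, hd, rfl | rfl⟩ := hE hb
    · exact absurd ⟨hb, d, hd, rfl⟩ hb0
    have e : c * W.sw c * W.t * (d * W.sw d * W.t) = c * W.sw c * (d * W.sw d) := by
      calc c * W.sw c * W.t * (d * W.sw d * W.t) = c * W.sw c * (W.t * (d * W.sw d)) * W.t := by group
        _ = c * W.sw c * (d * W.sw d) * (W.t * W.t) := by rw [← W.diag_comm (W.S1_le hd)]; group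
        _ = _ := by rw [W.tt, mul_one]
    show c * W.sw c * W.t * (d * W.sw d * W.t) ∈ W.U
    rw [e]
    exact mul_mem ⟨c, hc, rfl⟩ ⟨d, hd, rfl⟩
  have h2 : Nat.card (E ⊓ W.U : Subgroup G) ≤ Nat.card (W.pr1 (E ⊓ W.U)) := by
    have h1 : ∀ x : (E ⊓ W.U : Subgroup G), ∃ a : (W.pr1 (E ⊓ W.U)), (x : G) = (a : G) * W.sw (a : G) := by
      intro x
      obtain ⟨a, ha, e⟩ := x.2.2
      exact ⟨⟨a, ha, a, ha, by rw [← e]; exact x.2⟩, e⟩
    choose f hf using h1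
    refine Nat.card_le_card_of_injective f ?_
    intro x y hxy
    apply Subtype.ext
    rw [hf x, hf y, hxy]
  have h3 := W.rankS1 (E := W.pr1 (E ⊓ W.U)) (fun _ h => h.1) (W.pr1_sq fun x hx => h x hx.1)
  omega

end card

end Wr

end Cfsg.Agent.StdSpFour.SplitA
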