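import Cfsg.Agent.StdSpFour.SplitA.Join
import Cfsg.Agent.StdSpFour.ConclSp

set_option autoImplicit false
set_option linter.unusedSectionVars false

/-!
# `T = S1 S2` is not abelian, of class two; the conclusion of S1778 from `P ∩ L = T`
-/

namespace Cfsg.Agent.StdSpFour.SplitA

open Cfsg Subgroup Cfsg.Agent.StdEven.Syl Cfsg.Agent.StdL2.Setup Cfsg.Agent.StdEven.Red
open Cfsg.Agent.StdSz.Out
open scoped commutatorElement Pointwise

namespace Wr

universe u

variable {G : Type u} [Group G] [Finite G] (W : Wr G)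

variable {T0 P O : Subgroup G} {y : G}

theorem exists_Ma_not_Z : ∃ x ∈ W.Ma, x ∉ W.Z := by
  by_contra h
  push Not at h
  have h1 : Nat.card W.Ma ≤ Nat.card W.Z := Subgroup.card_le_of_le h
  rw [W.cardMa, W.cardZ] at h1
  have h2 : W.q ^ 3 = W.q * W.q ^ 2 := by ring
  have h3 : 0 < W.q ^ 2 := pow_pos (by have := W.q4; omega) 2
  have h4 : 4 * W.q ^ 2 ≤ W.q * W.q ^ 2 := Nat.mul_le_mul_right _ W.q4
  omega

theorem T_nc : ∃ x ∈ W.T, ∃ y ∈ W.T, x * y ≠ y * x := by
  obtain ⟨a, ha, ha0⟩ := W.exists_Ma_not_Z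
  obtain ⟨b, hb, hb0⟩ := W.exists_not_Z
  exact ⟨a, W.S1_le_T (W.Ma_le ha), b, W.S1_le_T (W.Mb_le hb), W.nc a ha ha0 b hb hb0⟩

theorem T_cl : ∀ x ∈ W.T, ∀ y ∈ W.T, ∀ z ∈ W.T, ⁅x, y⁆ * z = z * ⁅x, y⁆ := by
  intro x hx y hy z hz
  obtain ⟨a, ha, b, hb, rfl⟩ := W.mem_T'.1 hx
  obtain ⟨c, hc, d, hd, rfl⟩ := W.mem_T'.1 hy
  obtain ⟨e, he, f, hf, rfl⟩ := W.mem_T'.1 hz
  have h1 := W.comm_le a ha c hc
  have h2 := W.comm_le b hb d hd
  rw [W.comm_T ha hb hc hd, W.mul_comp (W.S1_le (W.Z_S1 h2)) (W.S1_le he),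
    W.mul_comp (W.S1_le hf) (W.S1_le (W.Z_S1 h1)), W.Zc _ h1 e he, W.Zc _ h2 f hf]

theorem T_card : 16 ≤ Nat.card W.T := by
  have h1 : Nat.card W.Ma ≤ Nat.card W.T :=
    Subgroup.card_le_of_le (fun x hx => W.S1_le_T (W.Ma_le hx))
  rw [W.cardMa] at h1
  have h2 : 4 ^ 3 ≤ W.q ^ 3 := Nat.pow_le_pow_left W.q4 3
  omega

/-- `T` is a Sylow 2-subgroup of `L` -/
theorem isSyl (hA : W.Amb O) (hY : W.Outer T0 y) (hP : W.Syl T0 y P)
    {E : Subgroup G} (hEn : E.Normal) (hE : _root_.commutator E = ⊤) (hGE : ∀ g : G, g ∈ E ∨ W.t * g ∈ E) :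
    IsSyl W.T E := by
  obtain ⟨Q, hQ⟩ := W.exists_sylow hA hY hP
  have h1 := W.final hA hY hP hEn hE hGE
  rw [← h1, ← hQ]
  have := hEn
  exact (isSyl_top_of_sylow Q).inf_normal le_top (by rw [normalizer_eq_top])

/-- **The conclusion of S1778**, case (A), split, with an outer involution -/
theorem concl {L A : Subgroup G} (h1170 : S1170Stmt.{u}) (hA : W.Amb O) (hY : W.Outer T0 y) (hP : W.Syl T0 y P)
    (C : Conf L A W.t) (hT : TypeSp4 (↥A ⧸ center ↥A)) (hGE : ∀ g : G, g ∈ L ∨ W.t * g ∈ L) : Concl L W.t := by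
  have hL : _root_.commutator L = ⊤ := by
    have := C.simple
    have hnc : ¬ ∀ a b : L, a * b = b * a := by
      intro h
      obtain ⟨x, hx, y, hy, hxy⟩ := W.T_nc
      -- squares of elements of `T` lie in `L`... use that `A` is not abelian
      have h3 := ConclSp.three_dvd hT
      have h4 : ∀ a b : A, a * b = b * a := fun a b => Subtype.ext (by
        have := h ⟨a, C.le a.2⟩ ⟨b, C.le b.2⟩
        exact congrArg (fun z : L => (z : G)) this)
      have h5 : center ↥A = ⊤ := by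
        rw [eq_top_iff]
        intro a _
        rw [mem_center_iff]
        exact fun b => h4 b a
      obtain ⟨F, _, _, a, ha, hc, ⟨e⟩⟩ := hT
      have h6 : Nat.card (↥A ⧸ center ↥A) = 1 := by
        rw [h5]
        exact Subgroup.index_top
      have h2 : (2 : F) = 0 := by
        have h1 : ((Fintype.card F : ℕ) : F) = 0 := by simp
        rw [hc, Nat.cast_pow] at h1
        exact_mod_cast pow_eq_zero_iff (by omega) |>.1 h1
      have h7 := ConclSp.three_dvd_psp (F := F) (by rw [one_add_one_eq_two, h2])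
      rw [← Nat.card_congr e.toEquiv, h6] at h7
      omega
    rcases (inferInstance : (_root_.commutator ↥L).Normal).eq_bot_or_eq_top with h | h
    · exfalso
      apply hnc
      intro a b
      have h1 : ⁅a, b⁆ ∈ _root_.commutator ↥L := by
        rw [_root_.commutator_def]
        exact Subgroup.commutator_mem_commutator (mem_top a) (mem_top b)
      rw [h, mem_bot] at h1
      exact commutatorElement_eq_one_iff_mul_comm.1 h1
    · exact h
  exact ConclSp.concl h1170 C hT (W.isSyl hA hY hP C.normal hL hGE) W.T_nc W.T_cl W.T_card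
    (W.t_not_mem hA hY hP C.normal hL hGE)

end Wr

end Cfsg.Agent.StdSpFour.SplitA
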