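import Cfsg.Agent.StdSpFour.SplitA.Base

set_option autoImplicit false
set_option linter.unusedSectionVars false

/-!
# Types of the involutions of `S0`, the quotient `T0 / U⟨t⟩`
-/

namespace Cfsg.Agent.StdSpFour.SplitA

open Subgroup
open scoped commutatorElement

namespace Wr

universe u

variable {G : Type u} [Group G] (W : Wr G)

variable {T0 P O : Subgroup G} {y : G}

theorem mem_I1 {x : G} : x ∈ W.I1 P ↔ x ∈ P ∧ ∃ s ∈ W.S1, ∀ a ∈ W.A1, x * a * x⁻¹ = s * a * s⁻¹ := Iff.rfl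

theorem sw_y (hY : W.Outer T0 y) : W.sw y = y := by
  show W.t * y * W.t = y
  rw [← hY.T0_t y hY.y_mem, mul_assoc, W.tt, mul_one]

variable [Finite G]

theorem I1_le : W.I1 P ≤ W.S0 P := by
  rintro x ⟨hx, s, hs, h⟩
  refine W.mem_S0.2 ⟨hx, fun a ha => ?_⟩
  rw [h a ha]
  exact mul_mem (mul_mem (W.S1_le hs) ha) (inv_mem (W.S1_le hs))

theorem T_le_I1 (hP : W.Syl T0 y P) : W.T ≤ W.I1 P := by
  intro x hx
  obtain ⟨a, ha, b, hb, rfl⟩ := W.mem_T'.1 hx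
  refine ⟨hP.T_le hx, a, ha, fun c hc => ?_⟩
  calc a * W.sw b * c * (a * W.sw b)⁻¹ = a * (W.sw b * c) * (W.sw b)⁻¹ * a⁻¹ := by group
    _ = a * (c * W.sw b) * (W.sw b)⁻¹ * a⁻¹ := by rw [W.comm_sw hc (W.S1_le hb)]
    _ = a * c * a⁻¹ := by group

/-- the common kernel of the types is `T` -/
theorem inter (hA : W.Amb O) (hY : W.Outer T0 y) (hP : W.Syl T0 y P) {x : G} (h1 : x ∈ W.I1 P)
    (h2 : W.sw x ∈ W.I1 P) : x ∈ W.T := by
  obtain ⟨hx, s, hs, hs'⟩ := h1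
  obtain ⟨-, r, hr, hr'⟩ := h2
  have hsr : s * W.sw r ∈ W.T := W.mem_T'.2 ⟨s, hs, r, hr, rfl⟩
  have h3 : (s * W.sw r)⁻¹ * x = 1 := by
    refine W.cenB hA hY hP (mul_mem (inv_mem (hP.T_le hsr)) hx) ?_ ?_
    · intro a ha
      have e1 : x * a = s * a * s⁻¹ * x := by rw [← hs' a ha]; group
      calc (s * W.sw r)⁻¹ * x * a = (W.sw r)⁻¹ * s⁻¹ * (x * a) := by group
        _ = (W.sw r)⁻¹ * a * s⁻¹ * x := by rw [e1]; group
        _ = a * (W.sw r)⁻¹ * s⁻¹ * x := by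
          rw [← sw_inv, W.comm_sw ha (inv_mem (W.S1_le hr))]
        _ = a * ((s * W.sw r)⁻¹ * x) := by group
    · intro a ha
      obtain ⟨b, hb, rfl⟩ : ∃ b ∈ W.A1, a = W.sw b := ⟨W.sw a, ha, (W.sw_sw a).symm⟩
      have e1 : x * W.sw b = W.sw r * W.sw b * (W.sw r)⁻¹ * x := by
        have e2 := congrArg W.sw (hr' b hb)
        rw [sw_mul, sw_mul, sw_inv, sw_sw, sw_mul, sw_mul, sw_inv] at e2
        rw [← e2]; group
      calc (s * W.sw r)⁻¹ * x * W.sw b = (W.sw r)⁻¹ * s⁻¹ * (x * W.sw b) := by group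
        _ = (W.sw r)⁻¹ * (s⁻¹ * W.sw (r * b * r⁻¹)) * x := by
          rw [e1, sw_mul, sw_mul, sw_inv]; group
        _ = (W.sw r)⁻¹ * (W.sw (r * b * r⁻¹) * s⁻¹) * x := by
          rw [W.comm_sw (inv_mem (W.S1_le hs)) (mul_mem (mul_mem (W.S1_le hr) hb) (inv_mem (W.S1_le hr)))]
        _ = W.sw b * ((W.sw r)⁻¹ * s⁻¹ * x) := by rw [sw_mul, sw_mul, sw_inv]; group
        _ = W.sw b * ((s * W.sw r)⁻¹ * x) := by group
  have h4 : x = s * W.sw r := (inv_mul_eq_one.1 h3).symm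
  rw [h4]; exact hsr

/-- an involution of `S0` is of type `1` or of the type of `y` on `A1` -/
theorem type1 (hP : W.Syl T0 y P) {v : G} (hv : v ∈ W.S0 P) (hvv : v * v = 1) : v ∈ W.I1 P ∨ y * v ∈ W.I1 P := by
  by_cases h : v ∈ W.I1 P
  · exact Or.inl h
  · right
    have h1 := W.mem_S0.1 hv
    exact hP.cyc1 v h1.1 h1.2 (by rw [hvv]; exact one_mem _) h

/-- an involution of type `1` acts on `A1` as an involution of `S1` (or trivially) -/
theorem act1 {v : G} (hv : v ∈ W.I1 P) (hvv : v * v = 1) :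
    ∃ s ∈ W.S1, s * s = 1 ∧ ∀ a ∈ W.A1, v * a * v⁻¹ = s * a * s⁻¹ := by
  obtain ⟨-, s, hs, h⟩ := hv
  refine ⟨s, hs, ?_, h⟩
  refine W.centre _ (mul_mem hs hs) fun a ha => ?_
  have h1 := h _ (mul_mem (mul_mem (W.S1_le hs) ha) (inv_mem (W.S1_le hs)))
  rw [← h a ha] at h1
  have h2 : s * (v * a * v⁻¹) * s⁻¹ = a := by
    rw [← h1]
    calc v * (v * a * v⁻¹) * v⁻¹ = (v * v) * a * (v * v)⁻¹ := by group
      _ = a := by rw [hvv]; group
  rw [h a ha] at h2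
  calc s * s * a = (s * (s * a * s⁻¹) * s⁻¹) * (s * s) := by group
    _ = a * (s * s) := by rw [h2]

/-- an involution of the type of `y` acts on `A1` as a conjugate of `y` -/
theorem act2 (hY : W.Outer T0 y) {v : G} (hv : y * v ∈ W.I1 P) (hvv : v * v = 1) :
    ∃ r ∈ W.S1, ∀ a ∈ W.A1, v * a * v⁻¹ = (r⁻¹ * y * r) * a * (r⁻¹ * y * r)⁻¹ := by
  obtain ⟨-, s, hs, h⟩ := hv
  have hyi := inv_of_sq hY.yy
  -- `v` acts as `y s`
  have hact : ∀ a ∈ W.A1, v * a * v⁻¹ = (y * s) * a * (y * s)⁻¹ := by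
    intro a ha
    have h1 := h a ha
    calc v * a * v⁻¹ = y⁻¹ * (y * v * a * (y * v)⁻¹) * y := by group
      _ = y⁻¹ * (s * a * s⁻¹) * y := by rw [h1]
      _ = y * s * a * s⁻¹ * y := by rw [hyi]; group
      _ = (y * s) * a * (y * s)⁻¹ := by rw [mul_inv_rev, hyi]; group
  have hys : ∀ a ∈ W.A1, (y * s) * a * (y * s)⁻¹ ∈ W.A1 := by
    intro a ha
    have h1 := hY.yA _ (mul_mem (mul_mem (W.S1_le hs) ha) (inv_mem (W.S1_le hs)))
    have e : (y * s) * a * (y * s)⁻¹ = y * (s * a * s⁻¹) * y := by rw [mul_inv_rev, hyi]; group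
    rw [e]; exact h1
  have h1 : y * s * (y * s) = 1 := by
    have e0 : y * s * (y * s) = (y * s * y) * s := by group
    refine W.centre _ (by rw [e0]; exact mul_mem (hY.yS s hs) hs) fun a ha => ?_
    have h2 : y * s * (y * s * a * (y * s)⁻¹) * (y * s)⁻¹ = a := by
      rw [← hact _ (hys a ha), ← hact a ha]
      calc v * (v * a * v⁻¹) * v⁻¹ = (v * v) * a * (v * v)⁻¹ := by group
        _ = a := by rw [hvv]; group
    calc y * s * (y * s) * a = (y * s * (y * s * a * (y * s)⁻¹) * (y * s)⁻¹) * (y * s * (y * s)) := by group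
      _ = a * (y * s * (y * s)) := by rw [h2]
  obtain ⟨r, hr, e⟩ := hY.h90 s hs h1
  refine ⟨r, hr, fun a ha => ?_⟩
  rw [hact a ha, e]

/-- `y` and `S2` -/
theorem y_sw (hY : W.Outer T0 y) (s : G) : y * W.sw s * y = W.sw (y * s * y) := by
  rw [sw_mul, sw_mul, W.sw_y hY]

/-- **involutions of `yT` are conjugate to `y` in `T`** -/
theorem conj_T (hY : W.Outer T0 y) {x : G} (hx : x ∈ W.T) (h : y * x * (y * x) = 1) :
    ∃ r ∈ W.T, y * x = r⁻¹ * y * r := by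
  obtain ⟨a, ha, b, hb, rfl⟩ := W.mem_T'.1 hx
  have e1 : y * (a * W.sw b) * (y * (a * W.sw b)) = (y * a * (y * a)) * W.sw (y * b * (y * b)) := by
    have e2 : y * a * y ∈ W.A1 := W.S1_le (hY.yS a ha)
    have hyy := hY.yy
    calc y * (a * W.sw b) * (y * (a * W.sw b)) = y * a * 1 * W.sw b * y * a * W.sw b := by group
      _ = y * a * (y * y) * W.sw b * y * a * W.sw b := by rw [hyy]
      _ = y * a * y * (y * W.sw b * y) * a * W.sw b := by group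
      _ = y * a * y * (W.sw (y * b * y) * a) * W.sw b := by rw [W.y_sw hY]; group
      _ = y * a * y * (a * W.sw (y * b * y)) * W.sw b := by
        rw [W.comm_sw (W.S1_le ha) (W.S1_le (hY.yS b hb))]
      _ = (y * a * (y * a)) * (W.sw (y * b * y) * W.sw b) := by group
      _ = _ := by rw [← sw_mul]; group
  rw [e1] at h
  have hya : y * a * (y * a) ∈ W.S1 := by
    have : y * a * (y * a) = (y * a * y) * a := by group
    rw [this]; exact mul_mem (hY.yS a ha) ha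
  have hyb : y * b * (y * b) ∈ W.S1 := by
    have : y * b * (y * b) = (y * b * y) * b := by group
    rw [this]; exact mul_mem (hY.yS b hb) hb
  obtain ⟨h1, h2⟩ := W.comp_eq hya hyb (one_mem _) (one_mem _) (h.trans (by rw [sw_one, mul_one]))
  obtain ⟨c, hc, ec⟩ := hY.h90 a ha h1
  obtain ⟨d, hd, ed⟩ := hY.h90 b hb h2
  refine ⟨c * W.sw d, W.mem_T'.2 ⟨c, hc, d, hd, rfl⟩, ?_⟩
  have ed' : y * W.sw b = (W.sw d)⁻¹ * y * W.sw d := by
    have := congrArg W.sw ed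
    rw [sw_mul, sw_mul, sw_mul, sw_inv, W.sw_y hY] at this
    exact this
  calc y * (a * W.sw b) = y * (W.sw b * a) := by rw [W.comm_sw (W.S1_le ha) (W.S1_le hb)]
    _ = (W.sw d)⁻¹ * y * (W.sw d * a) := by rw [← mul_assoc, ed']; group
    _ = (W.sw d)⁻¹ * y * (a * W.sw d) := by rw [W.comm_sw (W.S1_le ha) (W.S1_le hd)]
    _ = (W.sw d)⁻¹ * (y * a) * W.sw d := by group
    _ = (W.sw d)⁻¹ * (c⁻¹ * y * c) * W.sw d := by rw [ec]
    _ = (c * W.sw d)⁻¹ * y * (c * W.sw d) := by group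

/-- an involution of type `(s, s)` is conjugate to `y` in `T` -/
theorem conj_y (hA : W.Amb O) (hY : W.Outer T0 y) (hP : W.Syl T0 y P) {v : G} (hvv : v * v = 1)
    (h1 : y * v ∈ W.I1 P) (h2 : y * W.sw v ∈ W.I1 P) : ∃ r ∈ W.T, v = r⁻¹ * y * r := by
  have h3 : y * v ∈ W.T := W.inter hA hY hP h1 (by rw [sw_mul, W.sw_y hY]; exact h2)
  have hv : v = y * (y * v) := by rw [← mul_assoc, hY.yy, one_mul]
  obtain ⟨r, hr, e⟩ := W.conj_T hY h3 (by rw [← hv]; exact hvv)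
  exact ⟨r, hr, by rw [← e]; exact hv⟩

/-- 2-subgroups of the centraliser of a conjugate of `t` -/
theorem into (hY : W.Outer T0 y) (g : G) {R : Subgroup G} (hR : IsPGroup 2 R)
    (hc : ∀ x ∈ R, x * (g⁻¹ * W.t * g) = (g⁻¹ * W.t * g) * x) :
    ∃ h : G, h⁻¹ * (g⁻¹ * W.t * g) * h = W.t ∧ ∀ x ∈ R, h⁻¹ * x * h ∈ T0 := by
  obtain ⟨c, hc1, hc2⟩ := hY.T0_syl (R.map (MulAut.conj g).toMonoidHom) (hR.map _) (by
    rintro _ ⟨x, hx, rfl⟩
    have h1 := hc x hx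
    show g * x * g⁻¹ * W.t = W.t * (g * x * g⁻¹)
    calc g * x * g⁻¹ * W.t = g * (x * (g⁻¹ * W.t * g)) * g⁻¹ := by group
      _ = g * ((g⁻¹ * W.t * g) * x) * g⁻¹ := by rw [h1]
      _ = W.t * (g * x * g⁻¹) := by group)
  refine ⟨g⁻¹ * c, ?_, ?_⟩
  · calc (g⁻¹ * c)⁻¹ * (g⁻¹ * W.t * g) * (g⁻¹ * c) = c⁻¹ * (W.t * c) := by group
      _ = c⁻¹ * (c * W.t) := by rw [hc1]
      _ = W.t := by group
  · intro x hx
    have := hc2 _ ⟨x, hx, rfl⟩
    have e : c⁻¹ * (MulAut.conj g).toMonoidHom x * c = (g⁻¹ * c)⁻¹ * x * (g⁻¹ * c) := by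
      show c⁻¹ * (g * x * g⁻¹) * c = _
      group
    rw [e] at this
    exact this

/-! ### the quotient `T0 / K` -/

theorem K_normal (hY : W.Outer T0 y) {x k : G} (hx : x ∈ T0) (hk : k ∈ W.K) : x * k * x⁻¹ ∈ W.K := by
  obtain ⟨a, ha, rfl | rfl⟩ := hk
  · exact W.U_le_K (hY.T0_U x hx _ ⟨a, ha, rfl⟩)
  · have h1 := W.U_le_K (hY.T0_U x hx _ ⟨a, ha, rfl⟩)
    have h2 : x * W.t * x⁻¹ = W.t := by rw [hY.T0_t x hx]; group
    have e : x * (a * W.sw a * W.t) * x⁻¹ = (x * (a * W.sw a) * x⁻¹) * (x * W.t * x⁻¹) := by group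
    rw [e, h2]
    exact mul_mem h1 W.t_mem_K

/-- a homomorphism from `T0` onto a cyclic group with kernel `K` -/
theorem exists_hom (hY : W.Outer T0 y) : ∃ (C : Type u) (_ : Group C) (_ : Finite C) (_ : IsCyclic C) (φ : T0 →* C),
    ∀ x : T0, φ x = 1 ↔ (x : G) ∈ W.K := by
  have hn : (W.K.subgroupOf T0).Normal := by
    refine ⟨fun k hk x => ?_⟩
    rw [mem_subgroupOf] at hk ⊢
    exact W.K_normal hY x.2 hk
  refine ⟨T0 ⧸ W.K.subgroupOf T0, inferInstance, inferInstance, ?_, QuotientGroup.mk' _, ?_⟩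
  · obtain ⟨f, hf, h⟩ := hY.cyc
    refine ⟨⟨QuotientGroup.mk (⟨f, hf⟩ : T0), ?_⟩⟩
    intro x
    obtain ⟨x, rfl⟩ := QuotientGroup.mk_surjective x
    obtain ⟨n, hn⟩ := h x x.2
    refine ⟨-(n : ℤ), ?_⟩
    show ((⟨f, hf⟩ : T0) : T0 ⧸ W.K.subgroupOf T0) ^ (-(n : ℤ)) = _
    rw [← QuotientGroup.mk_zpow, QuotientGroup.eq, mem_subgroupOf]
    have e : (((⟨f, hf⟩ : T0) ^ (-(n : ℤ)))⁻¹ * x : T0) = ((⟨f, hf⟩ : T0) ^ n * x : T0) := by
      rw [zpow_neg, inv_inv, zpow_natCast]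
    rw [e]
    simpa using hn
  · intro x
    rw [QuotientGroup.mk'_apply, QuotientGroup.eq_one_iff, mem_subgroupOf]

theorem cyc2 (hY : W.Outer T0 y) {a b : G} (ha : a ∈ T0) (hb : b ∈ T0) (ha0 : a ∉ W.K) (hb0 : b ∉ W.K)
    (ha2 : a * a ∈ W.K) (hb2 : b * b ∈ W.K) : a * b ∈ W.K := by
  classical
  obtain ⟨C, iC, fC, cC, φ, hφ⟩ := W.exists_hom hY
  have : Fintype C := Fintype.ofFinite C
  have h1 : (φ ⟨a, ha⟩) ^ 2 = 1 := by rw [← map_pow, hφ]; rw [pow_two]; exact ha2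
  have h2 : (φ ⟨b, hb⟩) ^ 2 = 1 := by rw [← map_pow, hφ]; rw [pow_two]; exact hb2
  have h3 : φ ⟨a, ha⟩ ≠ 1 := fun h => ha0 ((hφ _).1 h)
  have h4 : φ ⟨b, hb⟩ ≠ 1 := fun h => hb0 ((hφ _).1 h)
  have h5 : φ ⟨a, ha⟩ = φ ⟨b, hb⟩ := by
    by_contra hne
    have h6 := IsCyclic.card_pow_eq_one_le (α := C) (n := 2) (by norm_num)
    have h7 : ({1, φ ⟨a, ha⟩, φ ⟨b, hb⟩} : Finset C) ⊆ Finset.univ.filter (fun c : C => c ^ 2 = 1) := by
      intro c hc
      simp only [Finset.mem_insert, Finset.mem_singleton] at hc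
      rw [Finset.mem_filter]
      refine ⟨Finset.mem_univ _, ?_⟩
      rcases hc with rfl | rfl | rfl
      · exact one_pow 2
      · exact h1
      · exact h2
    have h8 := Finset.card_le_card h7
    have h9 : ({1, φ ⟨a, ha⟩, φ ⟨b, hb⟩} : Finset C).card = 3 := by
      rw [Finset.card_insert_of_notMem, Finset.card_insert_of_notMem, Finset.card_singleton]
      · simpa using hne
      · simp only [Finset.mem_insert, Finset.mem_singleton, not_or]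
        exact ⟨fun h => h3 h.symm, fun h => h4 h.symm⟩
    omega
  have h6 : φ (⟨a, ha⟩ * ⟨b, hb⟩) = 1 := by
    rw [map_mul, ← h5, ← pow_two, h1]
  exact (hφ _).1 h6

/-- subgroups of exponent four -/
theorem cyc4 (hY : W.Outer T0 y) {V : Subgroup G} (hV : V ≤ T0) (h4 : ∀ x ∈ V, x ^ 4 ∈ W.K) :
    Nat.card V ≤ 4 * Nat.card (V ⊓ W.K : Subgroup G) := by
  classical
  obtain ⟨C, iC, fC, cC, φ, hφ⟩ := W.exists_hom hY
  have : Fintype C := Fintype.ofFinite C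
  let ψ : V →* C := φ.comp (Subgroup.inclusion hV)
  have h1 : Nat.card ψ.range ≤ 4 := by
    have h6 := IsCyclic.card_pow_eq_one_le (α := C) (n := 4) (by norm_num)
    have h7 : Nat.card ψ.range = (Finset.univ.filter (fun c : C => c ∈ ψ.range)).card := by
      rw [Nat.card_eq_fintype_card, Fintype.card_subtype]
    rw [h7]
    refine le_trans (Finset.card_le_card ?_) h6
    intro c hc
    rw [Finset.mem_filter] at hc ⊢
    refine ⟨Finset.mem_univ _, ?_⟩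
    obtain ⟨x, rfl⟩ := hc.2
    rw [← map_pow]
    exact (hφ _).2 (h4 x x.2)
  have h2 : Nat.card ψ.ker = Nat.card (V ⊓ W.K : Subgroup G) := by
    have e : ψ.ker = (V ⊓ W.K).subgroupOf V := by
      ext x
      rw [MonoidHom.mem_ker, mem_subgroupOf, mem_inf]
      exact ⟨fun h => ⟨x.2, (hφ _).1 h⟩, fun h => (hφ _).2 h.2⟩
    rw [e]
    exact Nat.card_congr (Subgroup.subgroupOfEquivOfLe inf_le_left).toEquiv
  have h3 := Subgroup.card_eq_card_quotient_mul_card_subgroup ψ.ker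
  have h4 : Nat.card (V ⧸ ψ.ker) = Nat.card ψ.range := Nat.card_congr (QuotientGroup.quotientKerEquivRange ψ).toEquiv
  rw [h3, h4, h2]
  exact Nat.mul_le_mul_right _ h1

/-- elementary abelian subgroups of `T0` -/
theorem rankT0 (hY : W.Outer T0 y) {E : Subgroup G} (hE : E ≤ T0) (h : ∀ x ∈ E, x * x = 1) :
    Nat.card E ≤ 4 * W.q ^ 3 := by
  have h1 : Nat.card E ≤ 2 * Nat.card (E ⊓ W.K : Subgroup G) := by
    refine card_le_two inf_le_left ?_
    intro a ha b hb ha0 hb0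
    refine ⟨mul_mem ha hb, ?_⟩
    refine W.cyc2 hY (hE ha) (hE hb) (fun h => ha0 ⟨ha, h⟩) (fun h => hb0 ⟨hb, h⟩) ?_ ?_
    · rw [h a ha]; exact one_mem _
    · rw [h b hb]; exact one_mem _
  have h2 := W.rankK (E := E ⊓ W.K) inf_le_right (fun x hx => h x hx.1)
  omega

/-- elementary abelian subgroups of the centraliser of a conjugate of `t` -/
theorem rank_conj (hY : W.Outer T0 y) (g : G) {E : Subgroup G} (h : ∀ x ∈ E, x * x = 1)
    (hc : ∀ x ∈ E, x * (g⁻¹ * W.t * g) = (g⁻¹ * W.t * g) * x) : Nat.card E ≤ 4 * W.q ^ 3 := by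
  have hE : IsPGroup 2 E := fun x => ⟨1, Subtype.ext (by rw [pow_one, pow_two]; exact h x x.2)⟩
  obtain ⟨k, -, hk⟩ := W.into hY g hE hc
  have h1 := W.rankT0 hY (E := E.map (MulAut.conj k⁻¹).toMonoidHom) (by
    rintro _ ⟨x, hx, rfl⟩
    show k⁻¹ * x * k⁻¹⁻¹ ∈ T0
    rw [inv_inv]
    exact hk x hx) (by
    rintro _ ⟨x, hx, rfl⟩
    rw [← map_mul, h x hx, map_one])
  rw [Nat.card_congr (E.equivMapOfInjective (MulAut.conj k⁻¹).toMonoidHom (MulAut.conj k⁻¹).injective).toEquiv]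
  exact h1

end Wr

end Cfsg.Agent.StdSpFour.SplitA
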