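import Mathlib.SetTheory.Cardinal.Finite
import Mathlib.GroupTheory.Commutator.Basic
import Mathlib.FieldTheory.Perfect
import Cfsg.Agent.StdSpFour.Base

/-!
# S1778, `Sp₄(q)`: the Sylow 2-subgroup in coordinates

`UC F G`: the four positive root groups `xa, xb, zs, zl` (no `t`, no torus). `U`, `Ma`, `Mb`, `Z` and their properties
as wanted by `SplitA.Defs.Wr`.
-/

set_option autoImplicit false

namespace Cfsg.Agent.StdSpFour.SplitA.UCoord

open Subgroup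
open scoped commutatorElement

/-- the positive root groups of `Sp₄(F)`, `char F = 2` -/
structure UC (F G : Type*) [Field F] [Group G] where
  xa : F → G
  xb : F → G
  zs : F → G
  zl : F → G
  xa_add : ∀ u v, xa (u + v) = xa u * xa v
  xb_add : ∀ u v, xb (u + v) = xb u * xb v
  zs_add : ∀ u v, zs (u + v) = zs u * zs v
  zl_add : ∀ u v, zl (u + v) = zl u * zl v
  xa_zs : ∀ u m, Commute (xa u) (zs m)
  xa_zl : ∀ u m, Commute (xa u) (zl m)
  xb_zs : ∀ u m, Commute (xb u) (zs m)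
  xb_zl : ∀ u m, Commute (xb u) (zl m)
  zs_zl : ∀ u m, Commute (zs u) (zl m)
  xa_xb : ∀ u s, xa u * xb s = xb s * xa u * zs (u * s) * zl (u ^ 2 * s)
  inj : ∀ u s m r, xa u * xb s * zs m * zl r = 1 → u = 0 ∧ s = 0 ∧ m = 0 ∧ r = 0

/-- the coordinates of `Base` -/
def ofBase {F G : Type*} [Field F] [Group G] (B : Base F G) : UC F G where
  xa := B.xa
  xb := B.xb
  zs := B.zs
  zl := B.zl
  xa_add := B.xa_add
  xb_add := B.xb_add
  zs_add := B.zs_add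
  zl_add := B.zl_add
  xa_zs := B.xa_zs
  xa_zl := B.xa_zl
  xb_zs := B.xb_zs
  xb_zl := B.xb_zl
  zs_zl := B.zs_zl
  xa_xb := B.xa_xb
  inj := B.inj

namespace UC

variable {F G : Type*} [Field F] [Group G] (C : UC F G)

/-- transport along an injective homomorphism -/
def map {H : Type*} [Group H] (f : G →* H) (hf : Function.Injective f) : UC F H where
  xa u := f (C.xa u)
  xb u := f (C.xb u)
  zs u := f (C.zs u)
  zl u := f (C.zl u)
  xa_add u v := by rw [C.xa_add, map_mul]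
  xb_add u v := by rw [C.xb_add, map_mul]
  zs_add u v := by rw [C.zs_add, map_mul]
  zl_add u v := by rw [C.zl_add, map_mul]
  xa_zs u v := (C.xa_zs u v).map f
  xa_zl u v := (C.xa_zl u v).map f
  xb_zs u v := (C.xb_zs u v).map f
  xb_zl u v := (C.xb_zl u v).map f
  zs_zl u v := (C.zs_zl u v).map f
  xa_xb u v := by rw [← map_mul, C.xa_xb, map_mul, map_mul, map_mul]
  inj u s m r h := by
    apply C.inj
    apply hf
    rw [map_one, ← h, map_mul, map_mul, map_mul]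

/-- `x_a(u) x_b(s) z_s(m) z_l(r)` -/
def el (u s m r : F) : G := C.xa u * C.xb s * C.zs m * C.zl r

theorem xa_zero : C.xa 0 = 1 := by
  have h := C.xa_add 0 0; rw [add_zero] at h; exact (left_eq_mul.1 h)
theorem xb_zero : C.xb 0 = 1 := by
  have h := C.xb_add 0 0; rw [add_zero] at h; exact (left_eq_mul.1 h)
theorem zs_zero : C.zs 0 = 1 := by
  have h := C.zs_add 0 0; rw [add_zero] at h; exact (left_eq_mul.1 h)
theorem zl_zero : C.zl 0 = 1 := by
  have h := C.zl_add 0 0; rw [add_zero] at h; exact (left_eq_mul.1 h)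

theorem el_zero : C.el 0 0 0 0 = 1 := by
  rw [el, C.xa_zero, C.xb_zero, C.zs_zero, C.zl_zero]; group

variable [CharP F 2]

theorem xa_sq (u : F) : C.xa u * C.xa u = 1 := by rw [← C.xa_add, CharTwo.add_self_eq_zero, C.xa_zero]
theorem xb_sq (u : F) : C.xb u * C.xb u = 1 := by rw [← C.xb_add, CharTwo.add_self_eq_zero, C.xb_zero]
theorem zs_sq (u : F) : C.zs u * C.zs u = 1 := by rw [← C.zs_add, CharTwo.add_self_eq_zero, C.zs_zero]
theorem zl_sq (u : F) : C.zl u * C.zl u = 1 := by rw [← C.zl_add, CharTwo.add_self_eq_zero, C.zl_zero]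

theorem xb_xa (u s : F) : C.xb s * C.xa u = C.xa u * C.xb s * C.zs (u * s) * C.zl (u ^ 2 * s) := by
  have h1 := C.zs_sq (u * s)
  have h2 := C.zl_sq (u ^ 2 * s)
  calc C.xb s * C.xa u = C.xb s * C.xa u * (C.zs (u * s) * C.zs (u * s)) * (C.zl (u ^ 2 * s) * C.zl (u ^ 2 * s)) := by
        rw [h1, h2]; group
    _ = C.xb s * C.xa u * C.zs (u * s) * (C.zs (u * s) * C.zl (u ^ 2 * s)) * C.zl (u ^ 2 * s) := by group
    _ = C.xb s * C.xa u * C.zs (u * s) * (C.zl (u ^ 2 * s) * C.zs (u * s)) * C.zl (u ^ 2 * s) := by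
        rw [(C.zs_zl (u * s) (u ^ 2 * s)).eq]
    _ = (C.xb s * C.xa u * C.zs (u * s) * C.zl (u ^ 2 * s)) * (C.zs (u * s) * C.zl (u ^ 2 * s)) := by group
    _ = _ := by rw [← C.xa_xb]; group

theorem el_mul (u s m r u' s' m' r' : F) : C.el u s m r * C.el u' s' m' r' =
    C.el (u + u') (s + s') (m + m' + u' * s) (r + r' + u' ^ 2 * s) := by
  have h1 := (C.xa_zs u' m).eq
  have h2 := (C.xa_zl u' r).eq
  have h3 := (C.xb_zs s' m).eq
  have h4 := (C.xb_zl s' r).eq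
  have h5 := (C.zs_zl m' r).eq
  have h6 := (C.xb_zs s' (u' * s)).eq
  have h7 := (C.xb_zl s' (u' ^ 2 * s)).eq
  have h8 := (C.zs_zl m (u' ^ 2 * s)).eq
  have h9 := (C.zs_zl m' (u' ^ 2 * s)).eq
  unfold el
  rw [C.xa_add u u', C.xb_add s s', add_assoc m m', add_comm m' (u' * s), C.zs_add m, C.zs_add (u' * s),
    add_assoc r r', add_comm r' (u' ^ 2 * s), C.zl_add r, C.zl_add (u' ^ 2 * s)]
  calc C.xa u * C.xb s * C.zs m * C.zl r * (C.xa u' * C.xb s' * C.zs m' * C.zl r')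
      = C.xa u * C.xb s * C.zs m * (C.zl r * C.xa u') * C.xb s' * C.zs m' * C.zl r' := by group
    _ = C.xa u * C.xb s * (C.zs m * C.xa u') * (C.zl r * C.xb s') * C.zs m' * C.zl r' := by rw [← h2]; group
    _ = C.xa u * (C.xb s * C.xa u') * (C.zs m * C.xb s') * (C.zl r * C.zs m') * C.zl r' := by
        rw [← h1, ← h4]; group
    _ = C.xa u * (C.xa u' * C.xb s * C.zs (u' * s) * C.zl (u' ^ 2 * s)) * (C.xb s' * C.zs m) *
          (C.zs m' * C.zl r) * C.zl r' := by rw [C.xb_xa, h3, h5]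
    _ = C.xa u * C.xa u' * C.xb s * C.zs (u' * s) * (C.zl (u' ^ 2 * s) * C.xb s') * C.zs m *
          (C.zs m' * C.zl r) * C.zl r' := by group
    _ = C.xa u * C.xa u' * C.xb s * (C.zs (u' * s) * C.xb s') * (C.zl (u' ^ 2 * s) * C.zs m) *
          C.zs m' * C.zl r * C.zl r' := by rw [← h7]; group
    _ = C.xa u * C.xa u' * C.xb s * (C.xb s' * C.zs (u' * s)) * (C.zs m * C.zl (u' ^ 2 * s)) *
          C.zs m' * C.zl r * C.zl r' := by rw [← h6, ← h8]
    _ = C.xa u * C.xa u' * C.xb s * C.xb s' * (C.zs (u' * s) * C.zs m) * (C.zl (u' ^ 2 * s) *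
          C.zs m') * C.zl r * C.zl r' := by group
    _ = C.xa u * C.xa u' * C.xb s * C.xb s' * (C.zs m * C.zs (u' * s)) * (C.zs m' * C.zl (u' ^ 2 * s)) *
          C.zl r * C.zl r' := by
        rw [← h9, ← C.zs_add (u' * s) m, ← C.zs_add m (u' * s), add_comm (u' * s) m]
    _ = C.xa u * C.xa u' * C.xb s * C.xb s' * (C.zs m * C.zs (u' * s)) * C.zs m' * (C.zl (u' ^ 2 * s) *
          C.zl r) * C.zl r' := by group
    _ = C.xa u * C.xa u' * C.xb s * C.xb s' * (C.zs m * C.zs (u' * s)) * C.zs m' * (C.zl r * C.zl (u' ^ 2 * s))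
          * C.zl r' := by
        rw [← C.zl_add r (u' ^ 2 * s), ← C.zl_add (u' ^ 2 * s) r, add_comm (u' ^ 2 * s) r]
    _ = _ := by group

theorem el_inv (u s m r : F) : (C.el u s m r)⁻¹ = C.el u s (m + u * s) (r + u ^ 2 * s) := by
  apply inv_eq_of_mul_eq_one_right
  rw [C.el_mul, CharTwo.add_self_eq_zero u, CharTwo.add_self_eq_zero s]
  have h1 : m + (m + u * s) + u * s = 0 := by
    have : m + (m + u * s) + u * s = (m + m) + (u * s + u * s) := by ring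
    rw [this, CharTwo.add_self_eq_zero, CharTwo.add_self_eq_zero, add_zero]
  have h2 : r + (r + u ^ 2 * s) + u ^ 2 * s = 0 := by
    have : r + (r + u ^ 2 * s) + u ^ 2 * s = (r + r) + (u ^ 2 * s + u ^ 2 * s) := by ring
    rw [this, CharTwo.add_self_eq_zero, CharTwo.add_self_eq_zero, add_zero]
  rw [h1, h2, C.el_zero]

theorem el_inj {u s m r u' s' m' r' : F} (h : C.el u s m r = C.el u' s' m' r') :
    u = u' ∧ s = s' ∧ m = m' ∧ r = r' := by
  have h1 : C.el u s m r * (C.el u' s' m' r')⁻¹ = 1 := by rw [h, mul_inv_cancel]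
  rw [C.el_inv, C.el_mul] at h1
  obtain ⟨hu, hs, hm, hr⟩ := C.inj _ _ _ _ h1
  have hu' : u = u' := CharTwo.add_eq_zero.1 hu
  have hs' : s = s' := CharTwo.add_eq_zero.1 hs
  subst hu' hs'
  refine ⟨rfl, rfl, ?_, ?_⟩
  · apply CharTwo.add_eq_zero.1
    have : m + (m' + u * s) + u * s = m + m' + (u * s + u * s) := by ring
    rwa [this, CharTwo.add_self_eq_zero, add_zero] at hm
  · apply CharTwo.add_eq_zero.1
    have : r + (r' + u ^ 2 * s) + u ^ 2 * s = r + r' + (u ^ 2 * s + u ^ 2 * s) := by ring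
    rwa [this, CharTwo.add_self_eq_zero, add_zero] at hr

theorem el_sq (u s m r : F) : C.el u s m r * C.el u s m r = C.el 0 0 (u * s) (u ^ 2 * s) := by
  rw [C.el_mul]
  congr 1
  · exact CharTwo.add_self_eq_zero _
  · exact CharTwo.add_self_eq_zero _
  · rw [CharTwo.add_self_eq_zero, zero_add]
  · rw [CharTwo.add_self_eq_zero, zero_add]

theorem el_comm_iff (u s m r u' s' m' r' : F) : C.el u s m r * C.el u' s' m' r' = C.el u' s' m' r' * C.el u s m r ↔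
    u' * s = u * s' ∧ u' ^ 2 * s = u ^ 2 * s' := by
  rw [C.el_mul, C.el_mul]
  constructor
  · intro h
    obtain ⟨-, -, h3, h4⟩ := C.el_inj h
    constructor
    · have : m + m' + u' * s = m + m' + u * s' := by rw [h3]; ring
      exact add_left_cancel this
    · have : r + r' + u' ^ 2 * s = r + r' + u ^ 2 * s' := by rw [h4]; ring
      exact add_left_cancel this
  · rintro ⟨h1, h2⟩
    rw [h1, h2, add_comm u' u, add_comm s' s, add_comm m' m, add_comm r' r]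

theorem el_commutator (u s m r u' s' m' r' : F) : ⁅C.el u s m r, C.el u' s' m' r'⁆ =
    C.el 0 0 (u' * s + u * s') (u' ^ 2 * s + u ^ 2 * s') := by
  rw [commutatorElement_def]
  have h : C.el u s m r * C.el u' s' m' r' =
      C.el 0 0 (u' * s + u * s') (u' ^ 2 * s + u ^ 2 * s') * (C.el u' s' m' r' * C.el u s m r) := by
    rw [C.el_mul, C.el_mul, C.el_mul]
    congr 1
    · ring
    · ring
    · have : u' * s + u * s' + (m' + m + u * s') + (u' + u) * 0 = u' * s + m' + m + (u * s' + u * s') := by ring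
      rw [this, CharTwo.add_self_eq_zero]; ring
    · have : u' ^ 2 * s + u ^ 2 * s' + (r' + r + u ^ 2 * s') + (u' + u) ^ 2 * 0 =
        u' ^ 2 * s + r' + r + (u ^ 2 * s' + u ^ 2 * s') := by ring
      rw [this, CharTwo.add_self_eq_zero]; ring
  rw [h]; group

/-! ### the subgroups -/

def U : Subgroup G where
  carrier := {x | ∃ u s m r, x = C.el u s m r}
  one_mem' := ⟨0, 0, 0, 0, C.el_zero.symm⟩
  mul_mem' := by
    rintro _ _ ⟨u, s, m, r, rfl⟩ ⟨u', s', m', r', rfl⟩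
    exact ⟨_, _, _, _, C.el_mul _ _ _ _ _ _ _ _⟩
  inv_mem' := by
    rintro _ ⟨u, s, m, r, rfl⟩
    exact ⟨_, _, _, _, C.el_inv _ _ _ _⟩

def Ma : Subgroup G where
  carrier := {x | ∃ u m r, x = C.el u 0 m r}
  one_mem' := ⟨0, 0, 0, C.el_zero.symm⟩
  mul_mem' := by
    rintro _ _ ⟨u, m, r, rfl⟩ ⟨u', m', r', rfl⟩
    exact ⟨_, _, _, by rw [C.el_mul, add_zero]⟩
  inv_mem' := by
    rintro _ ⟨u, m, r, rfl⟩
    exact ⟨_, _, _, C.el_inv _ _ _ _⟩

def Mb : Subgroup G where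
  carrier := {x | ∃ s m r, x = C.el 0 s m r}
  one_mem' := ⟨0, 0, 0, C.el_zero.symm⟩
  mul_mem' := by
    rintro _ _ ⟨u, m, r, rfl⟩ ⟨u', m', r', rfl⟩
    exact ⟨_, _, _, by rw [C.el_mul, add_zero]⟩
  inv_mem' := by
    rintro _ ⟨u, m, r, rfl⟩
    exact ⟨_, _, _, C.el_inv _ _ _ _⟩

def Z : Subgroup G where
  carrier := {x | ∃ m r, x = C.el 0 0 m r}
  one_mem' := ⟨0, 0, C.el_zero.symm⟩
  mul_mem' := by
    rintro _ _ ⟨m, r, rfl⟩ ⟨m', r', rfl⟩
    exact ⟨_, _, by rw [C.el_mul, add_zero]⟩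
  inv_mem' := by
    rintro _ ⟨m, r, rfl⟩
    exact ⟨_, _, C.el_inv _ _ _ _⟩

theorem mem_U {x : G} : x ∈ C.U ↔ ∃ u s m r, x = C.el u s m r := Iff.rfl
theorem mem_Ma {x : G} : x ∈ C.Ma ↔ ∃ u m r, x = C.el u 0 m r := Iff.rfl
theorem mem_Mb {x : G} : x ∈ C.Mb ↔ ∃ s m r, x = C.el 0 s m r := Iff.rfl
theorem mem_Z {x : G} : x ∈ C.Z ↔ ∃ m r, x = C.el 0 0 m r := Iff.rfl

theorem Ma_le : C.Ma ≤ C.U := by rintro _ ⟨u, m, r, rfl⟩; exact ⟨_, _, _, _, rfl⟩
theorem Mb_le : C.Mb ≤ C.U := by rintro _ ⟨u, m, r, rfl⟩; exact ⟨_, _, _, _, rfl⟩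
theorem Z_Ma : C.Z ≤ C.Ma := by rintro _ ⟨m, r, rfl⟩; exact ⟨_, _, _, rfl⟩
theorem Z_Mb : C.Z ≤ C.Mb := by rintro _ ⟨m, r, rfl⟩; exact ⟨_, _, _, rfl⟩
theorem Z_le : C.Z ≤ C.U := C.Z_Ma.trans C.Ma_le

theorem cardU : Nat.card C.U = Nat.card F ^ 4 := by
  have e : F × F × F × F ≃ C.U :=
    Equiv.ofBijective (fun p => ⟨C.el p.1 p.2.1 p.2.2.1 p.2.2.2, _, _, _, _, rfl⟩) (by
      constructor
      · rintro ⟨u, s, m, r⟩ ⟨u', s', m', r'⟩ h
        obtain ⟨h1, h2, h3, h4⟩ := C.el_inj (congrArg Subtype.val h)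
        simp only at h1 h2 h3 h4
        rw [h1, h2, h3, h4]
      · rintro ⟨_, u, s, m, r, rfl⟩
        exact ⟨(u, s, m, r), rfl⟩)
  rw [← Nat.card_congr e, Nat.card_prod, Nat.card_prod, Nat.card_prod]
  ring

theorem cardMa : Nat.card C.Ma = Nat.card F ^ 3 := by
  have e : F × F × F ≃ C.Ma :=
    Equiv.ofBijective (fun p => ⟨C.el p.1 0 p.2.1 p.2.2, _, _, _, rfl⟩) (by
      constructor
      · rintro ⟨u, m, r⟩ ⟨u', m', r'⟩ h
        obtain ⟨h1, -, h3, h4⟩ := C.el_inj (congrArg Subtype.val h)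
        simp only at h1 h3 h4
        rw [h1, h3, h4]
      · rintro ⟨_, u, m, r, rfl⟩
        exact ⟨(u, m, r), rfl⟩)
  rw [← Nat.card_congr e, Nat.card_prod, Nat.card_prod]
  ring

theorem cardMb : Nat.card C.Mb = Nat.card F ^ 3 := by
  have e : F × F × F ≃ C.Mb :=
    Equiv.ofBijective (fun p => ⟨C.el 0 p.1 p.2.1 p.2.2, _, _, _, rfl⟩) (by
      constructor
      · rintro ⟨u, m, r⟩ ⟨u', m', r'⟩ h
        obtain ⟨-, h2, h3, h4⟩ := C.el_inj (congrArg Subtype.val h)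
        simp only at h2 h3 h4
        rw [h2, h3, h4]
      · rintro ⟨_, u, m, r, rfl⟩
        exact ⟨(u, m, r), rfl⟩)
  rw [← Nat.card_congr e, Nat.card_prod, Nat.card_prod]
  ring

theorem cardZ : Nat.card C.Z = Nat.card F ^ 2 := by
  have e : F × F ≃ C.Z :=
    Equiv.ofBijective (fun p => ⟨C.el 0 0 p.1 p.2, _, _, rfl⟩) (by
      constructor
      · rintro ⟨m, r⟩ ⟨m', r'⟩ h
        obtain ⟨-, -, h3, h4⟩ := C.el_inj (congrArg Subtype.val h)
        simp only at h3 h4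
        rw [h3, h4]
      · rintro ⟨_, m, r, rfl⟩
        exact ⟨(m, r), rfl⟩)
  rw [← Nat.card_congr e, Nat.card_prod]
  ring

theorem sqMa {x : G} (hx : x ∈ C.Ma) : x * x = 1 := by
  obtain ⟨u, m, r, rfl⟩ := hx
  rw [C.el_sq, mul_zero, mul_zero, C.el_zero]

theorem sqMb {x : G} (hx : x ∈ C.Mb) : x * x = 1 := by
  obtain ⟨u, m, r, rfl⟩ := hx
  rw [C.el_sq, zero_mul, zero_pow two_ne_zero, zero_mul, C.el_zero]

/-- involutions of `U` lie in `Ma` or in `Mb` -/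
theorem invM {x : G} (hx : x ∈ C.U) (h : x * x = 1) : x ∈ C.Ma ∨ x ∈ C.Mb := by
  obtain ⟨u, s, m, r, rfl⟩ := hx
  rw [C.el_sq] at h
  obtain ⟨-, -, h3, -⟩ := C.inj _ _ _ _ h
  rcases mul_eq_zero.1 h3 with rfl | rfl
  · exact Or.inr ⟨_, _, _, rfl⟩
  · exact Or.inl ⟨_, _, _, rfl⟩

theorem Zc {z x : G} (hz : z ∈ C.Z) (hx : x ∈ C.U) : z * x = x * z := by
  obtain ⟨m, r, rfl⟩ := hz
  obtain ⟨u', s', m', r', rfl⟩ := hx
  rw [C.el_comm_iff]
  constructor <;> ring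

/-- `Z = Z(U)` -/
theorem mem_Z_of_comm {z : G} (hz : z ∈ C.U) (h : ∀ x ∈ C.U, z * x = x * z) : z ∈ C.Z := by
  obtain ⟨u, s, m, r, rfl⟩ := hz
  have h1 := (C.el_comm_iff _ _ _ _ _ _ _ _).1 (h (C.el 1 0 0 0) ⟨_, _, _, _, rfl⟩)
  have h2 := (C.el_comm_iff _ _ _ _ _ _ _ _).1 (h (C.el 0 1 0 0) ⟨_, _, _, _, rfl⟩)
  have hs : s = 0 := by simpa using h1.1
  have hu : u = 0 := by simpa using h2.1.symm
  subst hs hu
  exact ⟨_, _, rfl⟩

theorem sup {x : G} (hx : x ∈ C.U) : ∃ a ∈ C.Ma, ∃ b ∈ C.Mb, x = a * b := by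
  obtain ⟨u, s, m, r, rfl⟩ := hx
  refine ⟨C.el u 0 0 0, ⟨_, _, _, rfl⟩, C.el 0 s m r, ⟨_, _, _, rfl⟩, ?_⟩
  rw [C.el_mul]
  congr 1 <;> ring

theorem nc {x y : G} (hx : x ∈ C.Ma) (hxZ : x ∉ C.Z) (hy : y ∈ C.Mb) (hyZ : y ∉ C.Z) : x * y ≠ y * x := by
  obtain ⟨u, m, r, rfl⟩ := hx
  obtain ⟨s, m', r', rfl⟩ := hy
  intro h
  rw [C.el_comm_iff] at h
  have h1 : u * s = 0 := by rw [← h.1]; ring
  rcases mul_eq_zero.1 h1 with rfl | rfl
  · exact hxZ ⟨_, _, rfl⟩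
  · exact hyZ ⟨_, _, rfl⟩

theorem comm_Ma {x y : G} (hx : x ∈ C.Ma) (hy : y ∈ C.Ma) : x * y = y * x := by
  obtain ⟨u, m, r, rfl⟩ := hx
  obtain ⟨s, m', r', rfl⟩ := hy
  rw [C.el_comm_iff]
  constructor <;> ring

theorem comm_Mb {x y : G} (hx : x ∈ C.Mb) (hy : y ∈ C.Mb) : x * y = y * x := by
  obtain ⟨u, m, r, rfl⟩ := hx
  obtain ⟨s, m', r', rfl⟩ := hy
  rw [C.el_comm_iff]
  constructor <;> ring

theorem comm_le {x y : G} (hx : x ∈ C.U) (hy : y ∈ C.U) : ⁅x, y⁆ ∈ C.Z := by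
  obtain ⟨u, s, m, r, rfl⟩ := hx
  obtain ⟨u', s', m', r', rfl⟩ := hy
  rw [C.el_commutator]
  exact ⟨_, _, rfl⟩

/-- commuting elements of order four have the same square -/
theorem sq4 {x y : G} (hx : x ∈ C.U) (hy : y ∈ C.U) (h : x * y = y * x) (hx2 : x * x ≠ 1) (hy2 : y * y ≠ 1) :
    x * x = y * y := by
  obtain ⟨u, s, m, r, rfl⟩ := hx
  obtain ⟨u', s', m', r', rfl⟩ := hy
  rw [C.el_comm_iff] at h
  rw [C.el_sq, C.el_sq]
  rw [C.el_sq] at hx2 hy2
  obtain ⟨h1, h2⟩ := h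
  have hu : u ≠ 0 := by
    rintro rfl; apply hx2; rw [zero_mul, zero_pow two_ne_zero, zero_mul, C.el_zero]
  have hs : s ≠ 0 := by
    rintro rfl; apply hx2; rw [mul_zero, mul_zero, C.el_zero]
  have hu' : u' ≠ 0 := by
    rintro rfl; apply hy2; rw [zero_mul, zero_pow two_ne_zero, zero_mul, C.el_zero]
  have hs' : s' ≠ 0 := by
    rintro rfl; apply hy2; rw [mul_zero, mul_zero, C.el_zero]
  have h3 : u' = u := by
    have h4 : u' * (u * s') = u * (u * s') := by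
      calc u' * (u * s') = u' * (u' * s) := by rw [h1]
        _ = u' ^ 2 * s := by ring
        _ = u ^ 2 * s' := h2
        _ = _ := by ring
    exact mul_right_cancel₀ (mul_ne_zero hu hs') h4
  subst h3
  have h5 : s = s' := mul_left_cancel₀ hu' h1
  rw [h5]

/-- `Z = [Ma, Mb]` -/
theorem comm_ge (hF : ∃ c : F, c ≠ 0 ∧ c ≠ 1) : C.Z ≤ ⁅C.Ma, C.Mb⁆ := by
  obtain ⟨c, hc0, hc1⟩ := hF
  have hcom : ∀ u s : F, C.el 0 0 (u * s) (u ^ 2 * s) ∈ ⁅C.Ma, C.Mb⁆ := by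
    intro u s
    have h1 : ⁅C.el u 0 0 0, C.el 0 s 0 0⁆ ∈ ⁅C.Ma, C.Mb⁆ :=
      commutator_mem_commutator ⟨_, _, _, rfl⟩ ⟨_, _, _, rfl⟩
    rw [C.el_commutator] at h1
    have h2 : (0 : F) * 0 + u * s = u * s := by ring
    have h3 : (0 : F) ^ 2 * 0 + u ^ 2 * s = u ^ 2 * s := by ring
    rwa [h2, h3] at h1
  have hd : c * c + c ≠ 0 := by
    intro h
    have h1 : c * (c + 1) = 0 := by rw [← h]; ring
    rcases mul_eq_zero.1 h1 with h2 | h2
    · exact hc0 h2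
    · exact hc1 (CharTwo.add_eq_zero.1 h2)
  -- `z_l(w)`: `(1, s)` and `(c, s')` with `s + c s' = 0`, `s + c² s' = w`
  have hl : ∀ w : F, C.el 0 0 0 w ∈ ⁅C.Ma, C.Mb⁆ := by
    intro w
    have h1 := mul_mem (hcom 1 (c * (w / (c * c + c)))) (hcom c (w / (c * c + c)))
    rw [C.el_mul] at h1
    have h2 : (1 : F) * (c * (w / (c * c + c))) + c * (w / (c * c + c)) + 0 * 0 = 0 := by
      rw [one_mul, CharTwo.add_self_eq_zero]; ring
    have h3 : (1 : F) ^ 2 * (c * (w / (c * c + c))) + c ^ 2 * (w / (c * c + c)) + 0 ^ 2 * 0 = w := by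
      calc (1 : F) ^ 2 * (c * (w / (c * c + c))) + c ^ 2 * (w / (c * c + c)) + 0 ^ 2 * 0 =
            (c * c + c) * (w / (c * c + c)) := by ring
        _ = w := mul_div_cancel₀ w hd
    rw [h2, h3, add_zero] at h1
    exact h1
  rintro _ ⟨m, r, rfl⟩
  have h1 := mul_mem (hcom 1 m) (hl (r + m))
  rw [C.el_mul] at h1
  have h2 : (1 : F) * m + 0 + 0 * 0 = m := by ring
  have h3 : (1 : F) ^ 2 * m + (r + m) + 0 ^ 2 * 0 = r := by
    have : (1 : F) ^ 2 * m + (r + m) + 0 ^ 2 * 0 = r + (m + m) := by ring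
    rw [this, CharTwo.add_self_eq_zero, add_zero]
  rw [h2, h3, add_zero] at h1
  exact h1

/-- **hoist**: involutions of `U` are conjugate into `Z`, by elements of a subgroup `A1` containing `U` and the two
reflections. -/
theorem hoist [Finite F] {A1 : Subgroup G} (hU : C.U ≤ A1) {na nb : G} (hna : na ∈ A1) (hnb : nb ∈ A1)
    (na_xb : ∀ u, na * C.xb u = C.zl u * na)
    (na_zs : ∀ u, na * C.zs u = C.zs u * na) (nb_xa : ∀ u, nb * C.xa u = C.zs u * nb)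
    (nb_zl : ∀ u, nb * C.zl u = C.zl u * nb)
    {x : G} (hx : x ∈ C.U) (h2 : x * x = 1) : ∃ a ∈ A1, a⁻¹ * x * a ∈ C.Z := by
  have hel : ∀ u s m r, C.el u s m r ∈ A1 := fun u s m r => hU ⟨_, _, _, _, rfl⟩
  rcases C.invM hx h2 with ⟨u, m, r, rfl⟩ | ⟨s, m, r, rfl⟩
  · by_cases hu : u = 0
    · subst hu
      exact ⟨1, one_mem _, m, r, by group⟩
    · -- kill `m` by `x_b(m / u)`
      have h3 : (C.el 0 (m / u) 0 0)⁻¹ * C.el u 0 m r * C.el 0 (m / u) 0 0 = C.el u 0 0 (r + u * m) := by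
        rw [C.el_inv, C.el_mul, C.el_mul]
        have e1 : u * (m / u) = m := by field_simp
        have e2 : u ^ 2 * (m / u) = u * m := by field_simp
        have f1 : 0 + u + 0 = u := by ring
        have f2 : m / u + 0 + m / u = 0 := by rw [add_zero, CharTwo.add_self_eq_zero]
        have f3 : 0 + 0 * (m / u) + m + u * (m / u) + 0 + 0 * (m / u + 0) = 0 := by
          rw [e1]; have : 0 + 0 * (m / u) + m + m + 0 + 0 * (m / u + 0) = m + m := by ring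
          rw [this, CharTwo.add_self_eq_zero]
        have f4 : 0 + 0 ^ 2 * (m / u) + r + u ^ 2 * (m / u) + 0 + 0 ^ 2 * (m / u + 0) = r + u * m := by
          rw [e2]; ring
        rw [f1, f2, f3, f4]
      refine ⟨C.el 0 (m / u) 0 0 * nb⁻¹, mul_mem (hel _ _ _ _) (inv_mem hnb), ?_⟩
      have h4 : (C.el 0 (m / u) 0 0 * nb⁻¹)⁻¹ * C.el u 0 m r * (C.el 0 (m / u) 0 0 * nb⁻¹) =
          nb * ((C.el 0 (m / u) 0 0)⁻¹ * C.el u 0 m r * C.el 0 (m / u) 0 0) * nb⁻¹ := by group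
      rw [h4, h3]
      have h5 : nb * C.el u 0 0 (r + u * m) * nb⁻¹ = C.el 0 0 u (r + u * m) := by
        unfold el
        rw [C.xb_zero, C.zs_zero, C.xa_zero]
        calc nb * (C.xa u * 1 * 1 * C.zl (r + u * m)) * nb⁻¹ = (nb * C.xa u) * C.zl (r + u * m) * nb⁻¹ := by group
          _ = C.zs u * (nb * C.zl (r + u * m)) * nb⁻¹ := by rw [nb_xa]; group
          _ = _ := by rw [nb_zl]; group
      rw [h5]
      exact ⟨_, _, rfl⟩
  · by_cases hs : s = 0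
    · subst hs
      exact ⟨1, one_mem _, m, r, by group⟩
    · -- kill `r` by `x_a(w)`, `w² = r / s`
      obtain ⟨w, hw⟩ : ∃ w : F, w ^ 2 = r / s := by
        have : PerfectRing F 2 := PerfectRing.ofFiniteOfIsReduced 2 F
        exact ⟨(frobeniusEquiv F 2).symm (r / s), by
          have := frobeniusEquiv_symm_pow_p F 2 (r / s)
          exact this⟩
      have h3 : (C.el w 0 0 0)⁻¹ * C.el 0 s m r * C.el w 0 0 0 = C.el 0 s (m + w * s) 0 := by
        rw [C.el_inv, C.el_mul, C.el_mul]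
        have e2 : w ^ 2 * s = r := by rw [hw]; field_simp
        have f1 : w + 0 + w = 0 := by rw [add_zero, CharTwo.add_self_eq_zero]
        have f2 : 0 + s + 0 = s := by ring
        have f3 : 0 + w * 0 + m + 0 * 0 + 0 + w * (0 + s) = m + w * s := by ring
        have f4 : 0 + w ^ 2 * 0 + r + 0 ^ 2 * 0 + 0 + w ^ 2 * (0 + s) = 0 := by
          have : 0 + w ^ 2 * 0 + r + 0 ^ 2 * 0 + 0 + w ^ 2 * (0 + s) = r + w ^ 2 * s := by ring
          rw [this, e2, CharTwo.add_self_eq_zero]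
        rw [f1, f2, f3, f4]
      refine ⟨C.el w 0 0 0 * na⁻¹, mul_mem (hel _ _ _ _) (inv_mem hna), ?_⟩
      have h4 : (C.el w 0 0 0 * na⁻¹)⁻¹ * C.el 0 s m r * (C.el w 0 0 0 * na⁻¹) =
          na * ((C.el w 0 0 0)⁻¹ * C.el 0 s m r * C.el w 0 0 0) * na⁻¹ := by group
      rw [h4, h3]
      have h5 : na * C.el 0 s (m + w * s) 0 * na⁻¹ = C.el 0 0 (m + w * s) s := by
        unfold el
        rw [C.xb_zero, C.zl_zero, C.xa_zero]
        calc na * (1 * C.xb s * C.zs (m + w * s) * 1) * na⁻¹ = (na * C.xb s) * C.zs (m + w * s) * na⁻¹ := by group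
          _ = C.zl s * (na * C.zs (m + w * s)) * na⁻¹ := by rw [na_xb]; group
          _ = C.zl s * C.zs (m + w * s) := by rw [na_zs]; group
          _ = _ := by rw [← (C.zs_zl (m + w * s) s).eq]; group
      rw [h5]
      exact ⟨_, _, rfl⟩

end UC

end Cfsg.Agent.StdSpFour.SplitA.UCoord
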