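import Cfsg.Agent.StdSpFour.SplitA.FOne

set_option autoImplicit false
set_option linter.unusedSectionVars false

/-!
# `T⟨t⟩` is the only Sylow 2-subgroup of `C_G(Z(U))` containing `t`
-/

namespace Cfsg.Agent.StdSpFour.SplitA

open Subgroup
open scoped commutatorElement Pointwise

section General

variable {G : Type*} [Group G] [Finite G]

theorem exists_norm_gt {P Q : Subgroup G} (hQ : IsPGroup 2 Q) (h : P ≤ Q) (hne : ¬ Q ≤ P) :
    ∃ n ∈ Q, n ∉ P ∧ ∀ x ∈ P, n * x * n⁻¹ ∈ P := by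
  have : Fact (Nat.Prime 2) := ⟨Nat.prime_two⟩
  have := hQ.isNilpotent
  have hlt : P.subgroupOf Q < ⊤ := by
    rw [lt_top_iff_ne_top]
    intro e
    rw [subgroupOf_eq_top] at e
    exact hne e
  have hnc : NormalizerCondition Q := Group.normalizerCondition_of_isNilpotent
  obtain ⟨n, hn, hnP⟩ := SetLike.exists_of_lt (hnc _ hlt)
  refine ⟨n, n.2, fun e => hnP (mem_subgroupOf.2 e), ?_⟩
  intro x hx
  have := (mem_normalizer_iff.1 hn ⟨x, h hx⟩).1 (mem_subgroupOf.2 hx)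
  exact mem_subgroupOf.1 this

theorem card_map_conj (Q : Subgroup G) (d : G) : Nat.card (Q.map (MulAut.conj d).toMonoidHom) = Nat.card Q :=
  (Nat.card_congr (Q.equivMapOfInjective (MulAut.conj d).toMonoidHom (MulAut.conj d).injective).toEquiv).symm

theorem mem_map_conj' {Q : Subgroup G} {d x : G} :
    x ∈ Q.map (MulAut.conj d).toMonoidHom ↔ d⁻¹ * x * d ∈ Q := by
  constructor
  · rintro ⟨z, hz, rfl⟩
    have e : d⁻¹ * ((MulAut.conj d).toMonoidHom z) * d = z := by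
      show d⁻¹ * (d * z * d⁻¹) * d = z
      group
    rw [e]; exact hz
  · intro h
    refine ⟨_, h, ?_⟩
    show d * (d⁻¹ * x * d) * d⁻¹ = x
    group

/-- `Q ^ g ≤ Q'` and equal orders give the inverse inclusion -/
theorem conj_inv_of_card {H H' : Subgroup G} (hc : Nat.card H' ≤ Nat.card H) {g : G} (h : ∀ a ∈ H, g * a * g⁻¹ ∈ H') :
    ∀ b ∈ H', g⁻¹ * b * g ∈ H := by
  intro b hb
  have e1 : H.map (MulAut.conj g).toMonoidHom = H' := by
    refine Subgroup.eq_of_le_of_card_ge ?_ ?_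
    · rintro _ ⟨x, hx, rfl⟩
      exact h x hx
    · rw [card_map_conj]; exact hc
  rw [← e1, mem_map_conj'] at hb
  exact hb

end General

namespace Wr

universe u

variable {G : Type u} [Group G] (W : Wr G)

variable {T0 P O : Subgroup G} {y : G}

/-- `T⟨t⟩` -/
def TT : Subgroup G where
  carrier := {x | x ∈ W.T ∨ x * W.t ∈ W.T}
  one_mem' := Or.inl (one_mem _)
  mul_mem' := by
    have key : ∀ {b : G}, b * W.t ∈ W.T → W.t * b ∈ W.T := by
      intro b hb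
      have := W.sw_T hb
      have e : W.sw (b * W.t) = W.t * b := by
        show W.t * (b * W.t) * W.t = W.t * b
        rw [mul_assoc, mul_assoc, W.tt, mul_one]
      rwa [e] at this
    rintro a b (ha | ha) (hb | hb)
    · exact Or.inl (mul_mem ha hb)
    · right; rw [mul_assoc]; exact mul_mem ha hb
    · right
      have e : a * b * W.t = (a * W.t) * W.sw b := by
        show a * b * W.t = (a * W.t) * (W.t * b * W.t)
        calc a * b * W.t = a * (W.t * W.t) * b * W.t := by rw [W.tt]; group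
          _ = _ := by group
      rw [e]; exact mul_mem ha (W.sw_T hb)
    · left
      have e : a * b = (a * W.t) * (W.t * b) := by
        calc a * b = a * (W.t * W.t) * b := by rw [W.tt]; group
          _ = _ := by group
      rw [e]; exact mul_mem ha (key hb)
  inv_mem' := by
    rintro a (ha | ha)
    · exact Or.inl (inv_mem ha)
    · right
      have h1 := inv_mem (W.sw_T ha)
      have e : (W.sw (a * W.t))⁻¹ = a⁻¹ * W.t := by
        show (W.t * (a * W.t) * W.t)⁻¹ = a⁻¹ * W.t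
        calc (W.t * (a * W.t) * W.t)⁻¹ = (W.t * a * (W.t * W.t))⁻¹ := by group
          _ = a⁻¹ * W.t := by rw [W.tt, mul_one, mul_inv_rev, W.tinv]
      rwa [e] at h1

theorem mem_TT {x : G} : x ∈ W.TT ↔ x ∈ W.T ∨ x * W.t ∈ W.T := Iff.rfl

theorem T_le_TT : W.T ≤ W.TT := fun _ h => Or.inl h

theorem t_mem_TT : W.t ∈ W.TT := Or.inr (by rw [W.tt]; exact one_mem _)

theorem K_le_TT : W.K ≤ W.TT := by
  rintro x ⟨a, ha, rfl | rfl⟩
  · exact W.T_le_TT (W.U_le_T ⟨a, ha, rfl⟩)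
  · exact mul_mem (W.T_le_TT (W.U_le_T ⟨a, ha, rfl⟩)) W.t_mem_TT

/-- elements of `T⟨t⟩ ∖ T` interchange `S1` and `S2` -/
theorem TT_swap {u : G} (hu : u ∈ W.TT) (hu0 : u ∉ W.T) {s : G} (hs : s ∈ W.S1) : u * W.sw s * u⁻¹ ∈ W.S1 := by
  rcases hu with h | h
  · exact absurd h hu0
  obtain ⟨a, ha, b, hb, e⟩ := W.mem_T'.1 h
  have e1 : u = a * W.sw b * W.t := by rw [← e, mul_assoc, W.tt, mul_one]
  have e2 : u * W.sw s * u⁻¹ = a * s * a⁻¹ := by
    rw [e1]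
    calc a * W.sw b * W.t * W.sw s * (a * W.sw b * W.t)⁻¹
        = a * W.sw b * (W.t * W.sw s * W.t⁻¹) * (W.sw b)⁻¹ * a⁻¹ := by group
      _ = a * (W.sw b * s) * (W.sw b)⁻¹ * a⁻¹ := by rw [W.sw_eq, sw_sw]; group
      _ = a * (s * W.sw b) * (W.sw b)⁻¹ * a⁻¹ := by rw [W.comm_sw (W.S1_le hs) (W.S1_le hb)]
      _ = a * s * a⁻¹ := by group
  rw [e2]
  exact mul_mem (mul_mem ha hs) (inv_mem ha)

theorem TT_mul {u v : G} (hu : u ∈ W.TT) (hu0 : u ∉ W.T) (hv : v ∈ W.TT) (hv0 : v ∉ W.T) : u * v ∈ W.T := by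
  rcases hu with h | h
  · exact absurd h hu0
  rcases hv with h' | h'
  · exact absurd h' hv0
  have e : u * v = (u * W.t) * W.sw (v * W.t) := by
    show u * v = (u * W.t) * (W.t * (v * W.t) * W.t)
    calc u * v = u * (W.t * W.t) * v * (W.t * W.t) := by rw [W.tt]; group
      _ = _ := by group
  rw [e]
  exact mul_mem h (W.sw_T h')

/-- involutions of `T⟨t⟩ ∖ T` are conjugate to `t` -/
theorem TT_inv {u : G} (hu : u ∈ W.TT) (hu0 : u ∉ W.T) (huu : u * u = 1) : ∃ a ∈ W.S1, u = a * W.t * a⁻¹ := by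
  rcases hu with h | h
  · exact absurd h hu0
  obtain ⟨a, ha, b, hb, e⟩ := W.mem_T'.1 h
  have e1 : u = a * W.sw b * W.t := by rw [← e, mul_assoc, W.tt, mul_one]
  have e2 : u * u = (a * b) * W.sw (b * a) := by
    rw [e1]
    calc a * W.sw b * W.t * (a * W.sw b * W.t) = a * W.sw b * W.sw (a * W.sw b) := by
          show _ = a * W.sw b * (W.t * (a * W.sw b) * W.t); group
      _ = a * W.sw b * (b * W.sw a) := by rw [sw_mul, sw_sw, ← W.comm_sw (W.S1_le hb) (W.S1_le ha)]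
      _ = (a * b) * W.sw (b * a) := W.mul_comp (W.S1_le hb) (W.S1_le hb)
  rw [e2] at huu
  have h3 := (W.comp_eq (mul_mem ha hb) (mul_mem hb ha) (one_mem _) (one_mem _) (huu.trans (by rw [sw_one, mul_one]))).1
  have h4 : b = a⁻¹ := eq_inv_of_mul_eq_one_right h3
  refine ⟨a, ha, ?_⟩
  rw [e1, h4]
  show a * (W.t * a⁻¹ * W.t) * W.t = a * W.t * a⁻¹
  calc a * (W.t * a⁻¹ * W.t) * W.t = a * W.t * a⁻¹ * (W.t * W.t) := by group
    _ = a * W.t * a⁻¹ := by rw [W.tt, mul_one]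

/-- `T` is generated by the groups `M M'` -/
theorem T_le_of {H : Subgroup G} (h : ∀ M M' : Subgroup G, ∀ hM : M ≤ W.S1, ∀ hM' : M' ≤ W.S1, Nat.card M = W.q ^ 3 →
    Nat.card M' = W.q ^ 3 → (∀ m ∈ M, m * m = 1) → (∀ m ∈ M', m * m = 1) → W.pp M M' hM hM' ≤ H) : W.T ≤ H := by
  have h1 : ∀ s ∈ W.S1, s ∈ H ∧ W.sw s ∈ H := by
    intro s hs
    obtain ⟨a, ha, b, hb, rfl⟩ := W.sup s hs
    have ma := h W.Ma W.Ma W.Ma_le W.Ma_le W.cardMa W.cardMa W.sqMa W.sqMa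
    have mb := h W.Mb W.Mb W.Mb_le W.Mb_le W.cardMb W.cardMb W.sqMb W.sqMb
    have a1 : a ∈ H := ma (W.mem_pp.2 ⟨a, ha, 1, one_mem _, by rw [sw_one, mul_one]⟩)
    have a2 : W.sw a ∈ H := ma (W.mem_pp.2 ⟨1, one_mem _, a, ha, by rw [one_mul]⟩)
    have b1 : b ∈ H := mb (W.mem_pp.2 ⟨b, hb, 1, one_mem _, by rw [sw_one, mul_one]⟩)
    have b2 : W.sw b ∈ H := mb (W.mem_pp.2 ⟨1, one_mem _, b, hb, by rw [one_mul]⟩)
    exact ⟨mul_mem a1 b1, by rw [sw_mul]; exact mul_mem a2 b2⟩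
  intro x hx
  obtain ⟨a, ha, b, hb, rfl⟩ := W.mem_T'.1 hx
  exact mul_mem (h1 a ha).1 (h1 b hb).2

/-- `Z(U)` -/
def ZU : Subgroup G := W.diag W.Z (fun _ hz => W.S1_le (W.Ma_le (W.Z_Ma hz)))

theorem mem_ZU {x : G} : x ∈ W.ZU ↔ ∃ z ∈ W.Z, x = z * W.sw z := Iff.rfl

/-- `C_G(Z(U))` -/
def CZ : Subgroup G := centralizer (W.ZU : Set G)

theorem mem_CZ {x : G} : x ∈ W.CZ ↔ ∀ z ∈ W.Z, x * (z * W.sw z) = z * W.sw z * x := by
  rw [CZ, mem_centralizer_iff]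
  constructor
  · intro h z hz
    exact (h _ (W.mem_ZU.2 ⟨z, hz, rfl⟩)).symm
  · rintro h _ ⟨z, hz, rfl⟩
    exact (h z hz).symm

theorem Z_S1 {z : G} (hz : z ∈ W.Z) : z ∈ W.S1 := W.Ma_le (W.Z_Ma hz)

theorem TT_le_CZ : W.TT ≤ W.CZ := by
  have hT : ∀ x ∈ W.T, x ∈ W.CZ := by
    intro x hx
    rw [mem_CZ]
    intro z hz
    obtain ⟨a, ha, b, hb, rfl⟩ := W.mem_T'.1 hx
    have hzS := W.Z_S1 hz
    rw [W.mul_comp (W.S1_le hb) (W.S1_le hzS), W.mul_comp (W.S1_le hzS) (W.S1_le ha), W.Zc z hz a ha, W.Zc z hz b hb]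
  have ht : W.t ∈ W.CZ := by
    rw [mem_CZ]
    intro z hz
    exact (W.diag_comm (W.S1_le (W.Z_S1 hz))).symm
  rintro x (hx | hx)
  · exact hT x hx
  · have e : x = (x * W.t) * W.t := by rw [mul_assoc, W.tt, mul_one]
    rw [e]
    exact mul_mem (hT _ hx) ht

variable [Finite G]

/-- an elementary abelian group with a swapping element -/
theorem card_of_swap {E : Subgroup G} (hE : ∀ x ∈ E, x * x = 1) {u : G} (hu : u ∈ E)
    (hs : ∀ s ∈ W.S1, u * W.sw s * u⁻¹ ∈ W.S1) : Nat.card (E ⊓ W.T : Subgroup G) ≤ W.q ^ 3 := by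
  have h1 : ∀ x : (E ⊓ W.T : Subgroup G), ∃ a : W.pr1 (E ⊓ W.T), ∃ b ∈ W.S1, (x : G) = (a : G) * W.sw b := by
    intro x
    obtain ⟨a, ha, b, hb, e⟩ := W.mem_T'.1 x.2.2
    exact ⟨⟨a, ha, b, hb, by rw [← e]; exact x.2⟩, b, hb, e⟩
  choose f b hb hf using h1
  have hinj : Function.Injective f := by
    intro x x' hxx
    have e1 : ((x : G))⁻¹ * x' = W.sw ((b x)⁻¹ * b x') := by
      rw [hf x, hf x', hxx, sw_mul, sw_inv]; group
    have e2 : (x : G)⁻¹ * x' ∈ E := mul_mem (inv_mem x.2.1) x'.2.1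
    rw [e1] at e2
    have e3 := el_comm hE hu e2
    have e4 := hs ((b x)⁻¹ * b x') (mul_mem (inv_mem (hb x)) (hb x'))
    rw [e3, mul_inv_cancel_right] at e4
    have e5 := W.disj _ (mul_mem (inv_mem (hb x)) (hb x')) e4
    rw [e5, sw_one] at e1
    exact Subtype.ext (inv_mul_eq_one.1 e1)
  have h2 := Nat.card_le_card_of_injective f hinj
  exact h2.trans (W.rankS1 (E := W.pr1 (E ⊓ W.T)) (fun _ h => h.1) (W.pr1_sq fun x hx => hE x hx.1))

/-- elementary abelian subgroups of order `q ^ 6` of `T⟨t⟩` lie in `T` -/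
theorem Je_TT {E : Subgroup G} (hE : ∀ x ∈ E, x * x = 1) (hc : Nat.card E = W.q ^ 6) (hT : E ≤ W.TT) : E ≤ W.T := by
  by_contra hn
  rw [SetLike.not_le_iff_exists] at hn
  obtain ⟨u, hu, hu0⟩ := hn
  have h1 := W.card_of_swap hE hu (fun s hs => W.TT_swap (hT hu) hu0 hs)
  have h2 : Nat.card E ≤ 2 * Nat.card (E ⊓ W.T : Subgroup G) := by
    refine card_le_two inf_le_left ?_
    intro a ha b hb ha0 hb0
    exact ⟨mul_mem ha hb, W.TT_mul (hT ha) (fun h => ha0 ⟨ha, h⟩) (hT hb) (fun h => hb0 ⟨hb, h⟩)⟩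
  have h3 := W.q_ineq
  have h4 : W.q ^ 6 = W.q ^ 3 * W.q ^ 3 := by ring
  rw [hc, h4] at h2
  have h5 : W.q ^ 3 * W.q ^ 3 ≤ 2 * W.q ^ 3 := h2.trans (Nat.mul_le_mul_left _ h1)
  have h6 : W.q ^ 3 ≤ 2 := Nat.le_of_mul_le_mul_right h5 (by omega)
  omega

/-- elements normalising `T⟨t⟩` normalise `T` -/
theorem norm_T {n : G} (hn : ∀ x ∈ W.T, n * x * n⁻¹ ∈ W.TT) : ∀ x ∈ W.T, n * x * n⁻¹ ∈ W.T := by
  have h1 : W.T ≤ W.T.comap (MulAut.conj n).toMonoidHom := by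
    refine W.T_le_of ?_
    intro M M' hM hM' cM cM' sM sM'
    have h2 : (W.pp M M' hM hM').map (MulAut.conj n).toMonoidHom ≤ W.T := by
      refine W.Je_TT ?_ ?_ ?_
      · rintro _ ⟨x, hx, rfl⟩
        rw [← map_mul, W.pp_sq sM sM' x hx, map_one]
      · rw [card_map_conj, W.card_pp, cM, cM']; ring
      · rintro _ ⟨x, hx, rfl⟩
        exact hn x (W.pp_le_T hx)
    intro x hx
    exact h2 ⟨x, hx, rfl⟩
  intro x hx
  exact h1 hx

theorem card_T : Nat.card W.T = Nat.card W.S1 * Nat.card W.S1 := by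
  have h : W.T = W.pp W.S1 W.S1 le_rfl le_rfl := by
    ext x
    rw [W.mem_T', W.mem_pp]
  rw [h, W.card_pp]

theorem card_U : Nat.card W.U = Nat.card W.S1 := by
  refine (Nat.card_congr (Equiv.ofBijective (fun a : W.S1 => (⟨a * W.sw a, a, a.2, rfl⟩ : W.U)) ⟨?_, ?_⟩)).symm
  · intro a b h
    have h1 : (a : G) * W.sw a = b * W.sw b := congrArg Subtype.val h
    exact Subtype.ext (W.comp_eq a.2 a.2 b.2 b.2 h1).1
  · rintro ⟨_, a, ha, rfl⟩
    exact ⟨⟨a, ha⟩, rfl⟩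

theorem card_TT_le : Nat.card W.TT ≤ 2 * Nat.card W.T :=
  card_le_two W.T_le_TT (fun _ ha _ hb ha0 hb0 => W.TT_mul ha ha0 hb hb0)

variable (hA : W.Amb O) (hY : W.Outer T0 y) (hP : W.Syl T0 y P)
include hA

omit [Finite G] in
/-- `O` centralises `T⟨t⟩` -/
theorem O_TT {o : G} (ho : o ∈ O) : ∀ x ∈ W.TT, o * x = x * o := by
  have hsw : W.sw o = o := by
    show W.t * o * W.t = o
    rw [← hA.O_t o ho, mul_assoc, W.tt, mul_one]
  have hT : ∀ x ∈ W.T, o * x = x * o := by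
    intro x hx
    obtain ⟨a, ha, b, hb, rfl⟩ := W.mem_T'.1 hx
    have e1 := hA.O_A o ho a (W.S1_le ha)
    have e2 : o * W.sw b = W.sw b * o := by
      have := congrArg W.sw (hA.O_A o ho b (W.S1_le hb))
      rwa [sw_mul, sw_mul, hsw] at this
    calc o * (a * W.sw b) = a * (o * W.sw b) := by rw [← mul_assoc, e1]; group
      _ = a * W.sw b * o := by rw [e2]; group
  rintro x (hx | hx)
  · exact hT x hx
  · have e : x = (x * W.t) * W.t := by rw [mul_assoc, W.tt, mul_one]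
    have e1 := hT _ hx
    have e2 := hA.O_t o ho
    calc o * x = o * (x * W.t) * W.t := by rw [mul_assoc, ← e]
      _ = (x * W.t) * (o * W.t) := by rw [e1]; group
      _ = (x * W.t * W.t) * o := by rw [e2]; group
      _ = x * o := by rw [← e]

theorem O_two {R : Subgroup G} (hR : IsPGroup 2 R) {o : G} (ho : o ∈ O) (hoR : o ∈ R) : o = 1 := by
  have h3 : orderOf o ∣ Nat.card O := Subgroup.orderOf_dvd_natCard _ ho
  obtain ⟨n, hn⟩ := (IsPGroup.iff_orderOf.1 hR) ⟨o, hoR⟩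
  rw [Subgroup.orderOf_mk] at hn
  rcases Nat.eq_zero_or_pos n with h0 | h0
  · rw [h0, pow_zero] at hn
    exact orderOf_eq_one_iff.1 hn
  · exfalso
    have h4 : 2 ∣ Nat.card O := (dvd_pow_self 2 h0.ne').trans (hn ▸ h3)
    exact (Nat.not_even_iff_odd.2 hA.O_odd) (even_iff_two_dvd.2 h4)

/-- `T⟨t⟩` is a maximal 2-subgroup of `C_G(Z(U))` -/
theorem TT_max {R : Subgroup G} (hR : IsPGroup 2 R) (hle : W.TT ≤ R) (hRC : R ≤ W.CZ) : R ≤ W.TT := by
  by_contra hne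
  obtain ⟨n, hnR, hn0, hn⟩ := exists_norm_gt hR hle hne
  apply hn0
  have hnT := W.norm_T (n := n) (fun x hx => hn x (W.T_le_TT hx))
  have hntT : n * W.t * n⁻¹ ∉ W.T := by
    intro h
    have h1 := conj_inv_of_card le_rfl hnT _ h
    have e : n⁻¹ * (n * W.t * n⁻¹) * n = W.t := by group
    rw [e] at h1
    exact W.t_not_T h1
  obtain ⟨a, ha, e⟩ := W.TT_inv (hn _ W.t_mem_TT) hntT (by
    calc n * W.t * n⁻¹ * (n * W.t * n⁻¹) = n * (W.t * W.t) * n⁻¹ := by group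
      _ = 1 := by rw [W.tt]; group)
  have haT : a ∈ W.TT := W.T_le_TT (W.S1_le_T ha)
  have h1 : (a⁻¹ * n) * W.t = W.t * (a⁻¹ * n) := by
    calc (a⁻¹ * n) * W.t = a⁻¹ * (n * W.t * n⁻¹) * n := by group
      _ = W.t * (a⁻¹ * n) := by rw [e]; group
  have h2 : a⁻¹ * n ∈ W.CZ := mul_mem (inv_mem (W.TT_le_CZ haT)) (hRC hnR)
  obtain ⟨k, hk, o, ho, e2⟩ := hA.hCZ _ h1 (W.mem_CZ.1 h2)
  have hkT := W.K_le_TT hk
  have ho1 : o = 1 := by
    refine W.O_two hA hR ho ?_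
    have : o = k⁻¹ * (a⁻¹ * n) := by rw [e2]; group
    rw [this]
    exact mul_mem (inv_mem (hle hkT)) (mul_mem (inv_mem (hle haT)) hnR)
  rw [ho1, mul_one] at e2
  have e3 : n = a * k := by rw [← e2]; group
  rw [e3]
  exact mul_mem haT hkT

include hY hP in
/-- **uniqueness** -/
theorem uniq {R : Subgroup G} (hR : IsPGroup 2 R) (ht : W.t ∈ R) (hRC : R ≤ W.CZ) : R ≤ W.TT := by
  have : Fact (Nat.Prime 2) := ⟨Nat.prime_two⟩
  have hTT2 : IsPGroup 2 W.TT := by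
    refine hP.P_two.to_le ?_
    rintro x (hx | hx)
    · exact hP.T_le hx
    · have e : x = (x * W.t) * W.t := by rw [mul_assoc, W.tt, mul_one]
      rw [e]
      exact mul_mem (hP.T_le hx) (W.t_mem_P hY hP)
  obtain ⟨Q1, hQ1⟩ := (hTT2.comap_of_injective W.CZ.subtype W.CZ.subtype_injective :
    IsPGroup 2 (W.TT.subgroupOf W.CZ)).exists_le_sylow
  obtain ⟨Q2, hQ2⟩ := (hR.comap_of_injective W.CZ.subtype W.CZ.subtype_injective :
    IsPGroup 2 (R.subgroupOf W.CZ)).exists_le_sylow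
  have hQ1' : (Q1 : Subgroup W.CZ).map W.CZ.subtype ≤ W.TT := by
    refine W.TT_max hA (Q1.isPGroup'.map _) ?_ ?_
    · intro x hx
      exact ⟨⟨x, W.TT_le_CZ hx⟩, hQ1 (mem_subgroupOf.2 hx), rfl⟩
    · rintro _ ⟨x, -, rfl⟩
      exact x.2
  obtain ⟨c, hc⟩ := MulAction.exists_smul_eq W.CZ Q1 Q2
  have hQ : ∀ x ∈ Q2, (c : G)⁻¹ * x * c ∈ W.TT := by
    intro x hx
    rw [← hc] at hx
    have h1 : x ∈ (MulAut.conj c • (Q1 : Subgroup W.CZ)) := hx
    rw [Subgroup.mem_pointwise_smul_iff_inv_smul_mem] at h1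
    have e : (MulAut.conj c)⁻¹ • x = c⁻¹ * x * c := by
      rw [← map_inv, MulAut.smul_def, MulAut.conj_apply, inv_inv]
    rw [e] at h1
    exact hQ1' ⟨_, h1, rfl⟩
  have hRT : ∀ x ∈ R, (c : G)⁻¹ * x * c ∈ W.TT := by
    intro x hx
    exact hQ ⟨x, hRC hx⟩ (hQ2 (mem_subgroupOf.2 hx))
  have hct := hRT _ ht
  have hct0 : (c : G)⁻¹ * W.t * c ∉ W.T := fun h => W.F1_11 hY h
  obtain ⟨a, ha, e⟩ := W.TT_inv hct hct0 (by
    calc (c : G)⁻¹ * W.t * c * ((c : G)⁻¹ * W.t * c) = (c : G)⁻¹ * (W.t * W.t) * c := by group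
      _ = 1 := by rw [W.tt]; group)
  have haT : a ∈ W.TT := W.T_le_TT (W.S1_le_T ha)
  have h1 : ((c : G) * a) * W.t = W.t * (c * a) := by
    calc ((c : G) * a) * W.t = c * (a * W.t * a⁻¹) * a := by group
      _ = c * ((c : G)⁻¹ * W.t * c) * a := by rw [e]
      _ = W.t * (c * a) := by group
  obtain ⟨k, hk, o, ho, e2⟩ := hA.hCZ _ h1 (W.mem_CZ.1 (mul_mem c.2 (W.TT_le_CZ haT)))
  have hkT := W.K_le_TT hk
  intro x hx
  obtain ⟨z, hz⟩ : ∃ z, z = (c : G)⁻¹ * x * c := ⟨_, rfl⟩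
  have hzT : z ∈ W.TT := by rw [hz]; exact hRT x hx
  have ec : (c : G) = k * o * a⁻¹ := by rw [← e2]; group
  have hwT : a⁻¹ * z * a ∈ W.TT := mul_mem (mul_mem (inv_mem haT) hzT) haT
  have ex : x = k * (a⁻¹ * z * a) * k⁻¹ := by
    calc x = c * z * (c : G)⁻¹ := by rw [hz]; group
      _ = k * (o * (a⁻¹ * z * a)) * o⁻¹ * k⁻¹ := by rw [ec]; group
      _ = k * ((a⁻¹ * z * a) * o) * o⁻¹ * k⁻¹ := by rw [W.O_TT hA ho _ hwT]
      _ = k * (a⁻¹ * z * a) * k⁻¹ := by group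
  rw [ex]
  exact mul_mem (mul_mem hkT hwT) (inv_mem hkT)

end Wr

end Cfsg.Agent.StdSpFour.SplitA
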