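import Cfsg.Agent.StdSpFour.SplitA.YFacts

/-!
S1778, type Sp₄(q), end of case (A): `YFacts` along an injective homomorphism defined on a subgroup.
-/

set_option autoImplicit false

namespace Cfsg.Agent.StdSpFour.SplitA.YMap

open Subgroup

variable {G X : Type*} [Group G] [Group X] {R : Subgroup G} (φ : ↥R →* X)

/-- the image of a subgroup -/
def mp (E : Subgroup G) : Subgroup X := (E.subgroupOf R).map φ

variable {φ}

theorem mem_mp {E : Subgroup G} {x : X} : x ∈ mp φ E ↔ ∃ e, ∃ he : e ∈ R, e ∈ E ∧ φ ⟨e, he⟩ = x := by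
  constructor
  · rintro ⟨⟨e, he⟩, h1, h2⟩
    exact ⟨e, he, h1, h2⟩
  · rintro ⟨e, he, h1, h2⟩
    exact ⟨⟨e, he⟩, h1, h2⟩

theorem card_mp (hφ : Function.Injective φ) {E : Subgroup G} (hE : E ≤ R) : Nat.card (mp φ E) = Nat.card E := by
  rw [mp, Nat.card_congr (Subgroup.equivMapOfInjective (E.subgroupOf R) φ hφ).symm.toEquiv,
    Nat.card_congr (subgroupOfEquivOfLe hE).toEquiv]

theorem mp_cen (hφ : Function.Injective φ) {E : Subgroup G} {y : G} (hy : y ∈ R) :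
    mp φ (E ⊓ centralizer ({y} : Set G)) = mp φ E ⊓ centralizer ({φ ⟨y, hy⟩} : Set X) := by
  ext x
  rw [mem_inf, mem_mp, mem_mp, mem_centralizer_singleton_iff]
  constructor
  · rintro ⟨e, he, h1, rfl⟩
    rw [mem_inf, mem_centralizer_singleton_iff] at h1
    refine ⟨⟨e, he, h1.1, rfl⟩, ?_⟩
    rw [← map_mul, ← map_mul]
    exact congrArg φ (Subtype.ext h1.2)
  · rintro ⟨⟨e, he, h1, rfl⟩, h2⟩
    refine ⟨e, he, ?_, rfl⟩
    rw [mem_inf, mem_centralizer_singleton_iff]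
    rw [← map_mul, ← map_mul] at h2
    exact ⟨h1, congrArg Subtype.val (hφ h2)⟩

/-- **`YFacts` along an injective homomorphism** -/
theorem yFacts (hφ : Function.Injective φ) {q : ℕ} {U Z : Subgroup G} (hU : U ≤ R) (hZ : Z ≤ R) {y : G} (hy : y ∈ R)
    (Y : YFacts q (mp φ U) (mp φ Z) (φ ⟨y, hy⟩)) : YFacts q U Z y where
  card_cen := by
    rw [← card_mp hφ (inf_le_left.trans hU), mp_cen hφ hy]
    exact Y.card_cen
  rank_cen E hE h1 h2 := by
    rw [← card_mp hφ (hE.trans hU)]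
    apply Y.rank_cen
    · intro x hx
      obtain ⟨e, he, h3, rfl⟩ := mem_mp.1 hx
      exact mem_mp.2 ⟨e, he, hE h3, rfl⟩
    · intro x hx
      obtain ⟨e, he, h3, rfl⟩ := mem_mp.1 hx
      rw [← map_mul, ← map_mul]
      exact congrArg φ (Subtype.ext (h1 e h3))
    · intro x hx
      obtain ⟨e, he, h3, rfl⟩ := mem_mp.1 hx
      rw [← map_mul, ← map_one φ]
      exact congrArg φ (Subtype.ext (h2 e h3))
  four := by
    obtain ⟨g1, h1, g2, h2, h3, h4, h5, h6⟩ := Y.four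
    obtain ⟨e1, he1, i1, rfl⟩ := mem_mp.1 h1
    obtain ⟨e2, he2, i2, rfl⟩ := mem_mp.1 h2
    have key : ∀ {g : ↥R}, φ g = 1 ↔ (g : G) = 1 := by
      intro g
      rw [← map_one φ, hφ.eq_iff]
      exact ⟨fun h => congrArg Subtype.val h, fun h => Subtype.ext h⟩
    rw [← map_mul, ← map_mul, hφ.eq_iff] at h3 h4
    rw [← map_mul, ← map_mul, Ne, key] at h5
    rw [← map_mul, ← map_mul, key, key, Ne, key, Ne, key] at h6
    exact ⟨e1, i1, e2, i2, congrArg Subtype.val h3, congrArg Subtype.val h4, h5, h6⟩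
  h90 u hu h := by
    have h1 : φ ⟨y, hy⟩ * φ ⟨u, hU hu⟩ * (φ ⟨y, hy⟩ * φ ⟨u, hU hu⟩) = 1 := by
      rw [← map_mul, ← map_mul, ← map_one φ]
      exact congrArg φ (Subtype.ext h)
    obtain ⟨v, hv, h2⟩ := Y.h90 _ (mem_mp.2 ⟨u, hU hu, hu, rfl⟩) h1
    obtain ⟨e, he, h3, rfl⟩ := mem_mp.1 hv
    refine ⟨e, h3, ?_⟩
    rw [← map_mul, ← map_inv, ← map_mul, ← map_mul, hφ.eq_iff] at h2
    exact congrArg Subtype.val h2
  eight w hw h1 h2 h3 := by
    have h4 := Y.eight (φ ⟨w, hU hw⟩) (mem_mp.2 ⟨w, hU hw, hw, rfl⟩)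
      (by rw [← map_mul, ← map_mul]; exact congrArg φ (Subtype.ext h1))
      (by rw [← map_mul, ← map_one φ]; exact congrArg φ (Subtype.ext h2))
      (by
        intro h
        rw [← map_one φ, hφ.eq_iff] at h
        exact h3 (congrArg Subtype.val h))
    rw [← card_mp hφ ((inf_le_left.trans inf_le_left).trans hU), mp_cen hφ (hU hw), mp_cen hφ hy]
    exact h4
  card_Z := by
    rw [← card_mp hφ (inf_le_left.trans hZ), mp_cen hφ hy]
    exact Y.card_Z

end Cfsg.Agent.StdSpFour.SplitA.YMap
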